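import Cfsg.Agent.Len8.Bound

/-!
# The transvection on `V` and the conjugate `V^s`
-/

set_option autoImplicit false
set_option linter.style.haveILetI false
set_option linter.unusedSectionVars false
set_option linter.unusedVariables false

namespace Cfsg.Agent.Len8

open Subgroup

variable {G : Type*} [Group G] [Finite G]

theorem mul_mem_of_card_two {H K : Subgroup G} (hle : H ≤ K)
    (hc : Nat.card K = 2 * Nat.card H) {x y : G} (hx : x ∈ K) (hy : y ∈ K) (hxH : x ∉ H)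
    (hyH : y ∉ H) : x * y ∈ H := by
  have hidx : (H.subgroupOf K).index = 2 := by
    have e := (H.subgroupOf K).card_mul_index
    rw [Nat.card_congr (subgroupOfEquivOfLe hle).toEquiv, hc] at e
    exact Nat.eq_of_mul_eq_mul_left Nat.card_pos (by rw [e]; ring)
  have := mul_mem_iff_of_index_two hidx (a := ⟨x, hx⟩) (b := ⟨y, hy⟩)
  simpa [mem_subgroupOf, hxH, hyH] using this

theorem sup_zpowers_eq {H K : Subgroup G} (hle : H ≤ K) (hc : Nat.card K = 2 * Nat.card H)
    {a : G} (ha : a ∈ K) (haH : a ∉ H) : H ⊔ zpowers a = K := by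
  refine le_antisymm (sup_le hle (zpowers_le.2 ha)) fun x hx => ?_
  by_cases hxH : x ∈ H
  · exact mem_sup_left hxH
  · rw [show x = x * a * a⁻¹ by group]
    exact mul_mem (mem_sup_left (mul_mem_of_card_two hle hc hx ha hxH haH))
      (inv_mem (mem_sup_right (mem_zpowers a)))

theorem card_sup_zpowers {H : Subgroup G} {s : G} (hs : s ∈ normalizer (H : Set G))
    (hsH : s ∉ H) (hs2 : s * s ∈ H) :
    Nat.card (H ⊔ zpowers s : Subgroup G) = 2 * Nat.card H := by
  set T : Subgroup G := H ⊔ zpowers s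
  have hcos : ∀ x ∈ T, x ∈ H ∨ x * s⁻¹ ∈ H := by
    intro x hx
    obtain ⟨h, hh, b, hb, rfl⟩ := mem_sup_mul (zpowers_le.2 hs) hx
    obtain ⟨n, rfl⟩ := mem_zpowers_iff.1 hb
    have hev : ∀ m : ℤ, s ^ (2 * m) ∈ H := fun m => by
      rw [zpow_mul, zpow_two]; exact zpow_mem hs2 m
    rcases Int.even_or_odd' n with ⟨m, rfl | rfl⟩
    · exact Or.inl (mul_mem hh (hev m))
    · right
      rw [zpow_add, zpow_one, ← mul_assoc, mul_inv_cancel_right]
      exact mul_mem hh (hev m)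
  refine le_antisymm (card_le_two_mul le_sup_left fun x hx hxH a ha haH => ?_) ?_
  · rw [show x * a⁻¹ = x * s⁻¹ * (a * s⁻¹)⁻¹ by group]
    exact mul_mem ((hcos x hx).resolve_left hxH) (inv_mem ((hcos a ha).resolve_left haH))
  · have hlt : H < T := lt_of_le_not_ge le_sup_left fun h => hsH (h (mem_sup_right (mem_zpowers s)))
    have hd : Nat.card H ∣ Nat.card T := card_dvd_of_le hlt.le
    obtain ⟨k, hk⟩ := hd
    have hk2 : 2 ≤ k := by
      by_contra h2
      refine hlt.ne (eq_of_le_of_card_ge hlt.le ?_)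
      calc Nat.card T = Nat.card H * k := hk
        _ ≤ Nat.card H * 1 := Nat.mul_le_mul_left _ (by omega)
        _ = Nat.card H := mul_one _
    rw [hk, mul_comm]
    exact Nat.mul_le_mul_left _ hk2

theorem cj_le_of_norm {H K : Subgroup G} (hle : H ≤ K) {g : G} (hg : g ∈ normalizer (K : Set G)) :
    cj g H ≤ K := by
  rintro _ ⟨x, hx, rfl⟩
  exact conj_mem_of_norm hg (hle hx)

theorem cj_cj (g k : G) (H : Subgroup G) : cj g (cj k H) = cj (g * k) H := by
  ext x; simp [mem_cj, mul_assoc]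

theorem cj_eq_of_norm {H : Subgroup G} {g : G} (hg : g ∈ normalizer (H : Set G)) : cj g H = H :=
  eq_of_le_of_card_ge (cj_le_of_norm le_rfl hg) (card_cj g H).ge

theorem norm_of_cj_eq {H : Subgroup G} {g : G} (h : cj g H = H) : g ∈ normalizer (H : Set G) :=
  le_norm_of_conj fun _ hx => h.le (cj_mem hx)

theorem cj_cent (g : G) (H : Subgroup G) :
    cj g (centralizer (H : Set G)) = centralizer ((cj g H : Subgroup G) : Set G) := by
  ext x
  rw [mem_cj, mem_cent, mem_cent]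
  constructor
  · intro h k hk
    have := conj_commute (g := g) (h _ (mem_cj.1 hk))
    simpa [mul_assoc] using this
  · intro h k hk
    have := conj_commute (g := g⁻¹) (h _ (cj_mem hk))
    simpa [mul_assoc] using this

theorem cj_elem {H : Subgroup G} (h : Elem H) (g : G) : Elem (cj g H) := by
  rintro _ ⟨x, hx, rfl⟩
  show g * x * g⁻¹ * (g * x * g⁻¹) = 1
  rw [show g * x * g⁻¹ * (g * x * g⁻¹) = g * (x * x) * g⁻¹ by group, h x hx]; group

/-- An element acting as an involution on an elementary group fixes a nontrivial element of a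
hyperplane of order at least four. -/
theorem exists_fixed {U Z : Subgroup G} (hUZ : U ≤ Z) (hZ : Elem Z)
    (hc : Nat.card Z = 2 * Nat.card U) (hU : 4 ≤ Nat.card U) {g : G}
    (hg : g ∈ normalizer (Z : Set G)) (hg2 : ∀ x ∈ Z, Commute (g * g) x) :
    ∃ u ∈ U, u ≠ 1 ∧ Commute g u := by
  set D : Subgroup G := U ⊓ cj g U with hD
  have hle : cj g U ≤ Z := cj_le_of_norm hUZ hg
  have h1 := card_sup_inf (le_norm_of_commute (A := U) (B := cj g U)
    fun x hx x' hx' => hZ.comm (hUZ hx) (hle hx'))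
  have h2 : Nat.card (U ⊔ cj g U : Subgroup G) ≤ Nat.card Z := card_le_of_le (sup_le hUZ hle)
  rw [card_cj] at h1
  have h3 : 1 < Nat.card D := by
    by_contra h0
    have : Nat.card D = 1 := le_antisymm (not_lt.1 h0) Nat.card_pos
    rw [← hD, this, mul_one] at h1
    nlinarith
  obtain ⟨x, hx, hx1⟩ := (Subgroup.nontrivial_iff_exists_ne_one D).1
    (Finite.one_lt_card_iff_nontrivial.1 h3)
  by_cases hfix : Commute g x
  · exact ⟨x, hx.1, hx1, hfix⟩
  have hgx : g * x * g⁻¹ = g⁻¹ * x * g := by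
    calc g * x * g⁻¹ = g⁻¹ * (g * g * x) * g⁻¹ := by group
      _ = g⁻¹ * (x * (g * g)) * g⁻¹ := by rw [(hg2 x (hUZ hx.1)).eq]
      _ = g⁻¹ * x * g := by group
  have hyU : g * x * g⁻¹ ∈ U := hgx ▸ mem_cj.1 hx.2
  have hgg : g * (g * x * g⁻¹) * g⁻¹ = x := by rw [hgx]; group
  have hcomm : Commute x (g * x * g⁻¹) := hZ.comm (hUZ hx.1) (hUZ hyU)
  refine ⟨x * (g * x * g⁻¹), mul_mem hx.1 hyU, fun e => hfix ?_, ?_⟩
  · show g * x = x * g
    have : g * x * g⁻¹ = x := by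
      rw [← inv_eq_of_mul_eq_one_right e]; exact inv_eq_of_mul_eq_one_left (hZ x (hUZ hx.1))
    exact mul_inv_eq_iff_eq_mul.1 this
  · show g * (x * (g * x * g⁻¹)) = x * (g * x * g⁻¹) * g
    calc g * (x * (g * x * g⁻¹)) = g * x * g⁻¹ * (g * (g * x * g⁻¹) * g⁻¹) * g := by group
      _ = g * x * g⁻¹ * x * g := by rw [hgg]
      _ = x * (g * x * g⁻¹) * g := by rw [hcomm.eq]

/-- `a` inverts `y` of order three and induces a transvection on `V`. -/
structure Act (C : Cfg G) (a y : G) : Prop where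
  haR : a ∈ C.R
  haW : a ∉ C.W
  haa : a * a = 1
  hy : y ∈ C.M
  hy3 : orderOf y = 3
  hinv : a * y * a = y⁻¹
  htr : Nat.card C.V ≤ 2 * Nat.card (C.V ⊓ centralizer ({a} : Set G) : Subgroup G)
  hU : Nat.card C.V = 4 * Nat.card (C.V ⊓ centralizer ({y} : Set G) : Subgroup G)
  hcard : Nat.card C.R = 2 * Nat.card C.W

theorem Cfg.exists_act (h : Setup G) (C : Cfg G) : ∃ a y : G, Act C a y := by
  obtain ⟨a, y, h1, h2, h3, h4, h5, h6, h7, h8, -, h10⟩ := C.exists_main h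
  exact ⟨a, y, h1, h2, h3, h4, h5, h6, h7, h8, h10⟩

/-- An element of `S` moving `R` up. -/
structure Step (C : Cfg G) (s : G) : Prop where
  hsS : s ∈ C.S
  hsN : s ∈ normalizer (C.R : Set G)
  hsR : s ∉ C.R
  hs2 : s * s ∈ C.R

/-- `V ∩ Z(R)`. -/
def Cfg.Z1 (C : Cfg G) : Subgroup G := oz C.R

/-- `C_V(y)`. -/
def Cfg.U (C : Cfg G) (y : G) : Subgroup G := C.V ⊓ centralizer ({y} : Set G)

variable {C : Cfg G} {a y s : G}

theorem Act.mul_a_mem (A : Act C a y) {x : G} (hx : x ∈ C.R) (hxW : x ∉ C.W) : x * a ∈ C.W :=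
  mul_mem_of_card_two C.hWR A.hcard hx A.haR hxW A.haW

theorem Act.ai (A : Act C a y) : a⁻¹ = a := inv_eq_of_mul_eq_one_left A.haa

theorem Act.a_conj_mem_V (A : Act C a y) {v : G} (hv : v ∈ C.V) : a * v * a ∈ C.V := by
  have := conj_mem_of_norm (C.hMV (C.hRM A.haR)) hv
  rwa [A.ai] at this

theorem Act.mem_Z1 (h : Setup G) (A : Act C a y) {x : G} :
    x ∈ C.Z1 ↔ x ∈ C.V ∧ Commute x a := by
  constructor
  · rintro ⟨hxR, hxc, hx2⟩
    have hxW : x ∈ C.W := C.centW (mem_cent.2 fun w hw => hxc w (C.hWR hw))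
    exact ⟨⟨hxW, fun w hw => hxc w (C.hWR hw), hx2⟩, hxc a A.haR⟩
  · rintro ⟨hxV, hxa⟩
    refine ⟨C.hWR (C.V_le hxV), fun r hr => ?_, hxV.2.2⟩
    by_cases hrW : r ∈ C.W
    · exact C.V_comm hxV hrW
    · have := (C.V_comm hxV (A.mul_a_mem hr hrW)).mul_right hxa
      rwa [mul_assoc, A.haa, mul_one] at this

theorem Act.Z1_eq (h : Setup G) (A : Act C a y) :
    C.Z1 = C.V ⊓ centralizer ({a} : Set G) := by
  ext x; rw [A.mem_Z1 h, mem_inf, mem_cent1]

theorem Act.Z1_le (h : Setup G) (A : Act C a y) : C.Z1 ≤ C.V := fun x hx => ((A.mem_Z1 h).1 hx).1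

theorem Act.card_V_Z1 (h : Setup G) (A : Act C a y) : Nat.card C.V = 2 * Nat.card C.Z1 := by
  have h1 : Nat.card C.V ≤ 2 * Nat.card C.Z1 := A.Z1_eq h ▸ A.htr
  obtain ⟨k, hk⟩ := card_dvd_of_le (A.Z1_le h)
  have hk2 : k ≤ 2 := Nat.le_of_mul_le_mul_left (hk ▸ h1.trans_eq (mul_comm _ _)) Nat.card_pos
  have hne : k ≠ 1 := by
    rintro rfl
    rw [mul_one] at hk
    have e : C.Z1 = C.V := eq_of_le_of_card_ge (A.Z1_le h) hk.le
    refine A.haW ((C.centV h).le (mem_cent.2 fun v hv => ?_))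
    exact ((A.mem_Z1 h).1 (e.ge hv)).2.symm
  have hk0 : k ≠ 0 := fun e => by simp [e] at hk; exact Nat.card_pos.ne' hk
  rw [hk, show k = 2 by omega, mul_comm]

/-- The commutator of `a` on `V`. -/
theorem Act.exists_v1 (h : Setup G) (A : Act C a y) : ∃ v1 ∈ C.Z1, v1 ≠ 1 ∧
    (∀ v ∈ C.V, v ∉ C.Z1 → v * (a * v * a) = v1) := by
  have hle := A.Z1_le h
  have hnle : ¬ C.V ≤ C.Z1 := fun hh => by
    have := card_le_of_le hh
    rw [A.card_V_Z1 h] at this
    have := Nat.card_pos (α := C.Z1)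
    omega
  obtain ⟨v0, hv0, hv0Z⟩ := SetLike.not_le_iff_exists.1 hnle
  have hcomm : ∀ {p q : G}, p ∈ C.V → q ∈ C.V → Commute p q := fun hp hq =>
    (elem_oz C.W).comm hp hq
  have hsq : ∀ {p : G}, p ∈ C.V → p * p = 1 := fun hp => hp.2.2
  refine ⟨v0 * (a * v0 * a), (A.mem_Z1 h).2 ⟨mul_mem hv0 (A.a_conj_mem_V hv0), ?_⟩, fun e => ?_,
    fun v hv hvZ => ?_⟩
  · show v0 * (a * v0 * a) * a = a * (v0 * (a * v0 * a))
    calc v0 * (a * v0 * a) * a = v0 * (a * v0) * (a * a) := by group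
      _ = a * (a * v0 * a) * v0 := by
          rw [A.haa, show a * (a * v0 * a) * v0 = a * a * (v0 * a * v0) by group, A.haa]; group
      _ = a * (v0 * (a * v0 * a)) := by
          rw [mul_assoc a (a * v0 * a) v0, (hcomm (A.a_conj_mem_V hv0) hv0).eq]
  · refine hv0Z ((A.mem_Z1 h).2 ⟨hv0, ?_⟩)
    have e1 : a * v0 * a = v0 := by
      rw [← inv_eq_of_mul_eq_one_right e]; exact inv_eq_of_mul_eq_one_left (hsq hv0)
    show v0 * a = a * v0
    calc v0 * a = a * v0 * a * a := by rw [e1]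
      _ = a * v0 := by rw [mul_assoc, A.haa, mul_one]
  · have hm := mul_mem_of_card_two hle (A.card_V_Z1 h) hv hv0 hvZ hv0Z
    obtain ⟨hmV, hma⟩ := (A.mem_Z1 h).1 hm
    have e1 : a * v * a = v * v0 * (a * v0 * a) := by
      calc a * v * a = a * (v * v0) * v0 * a := by
            rw [show a * (v * v0) * v0 * a = a * v * (v0 * v0) * a by group, hsq hv0, mul_one]
        _ = v * v0 * a * v0 * a := by rw [hma.eq]
        _ = _ := by group
    rw [e1, show v * (v * v0 * (a * v0 * a)) = v * v * (v0 * (a * v0 * a)) by group, hsq hv, one_mul]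

theorem Act.y_not_W (A : Act C a y) : y ∉ C.W :=
  C.not_mem_W Nat.prime_three (by norm_num) A.hy3

theorem Act.y3 (A : Act C a y) : y ^ 3 = 1 := A.hy3 ▸ pow_orderOf_eq_one y

theorem Act.a_comm_U (A : Act C a y) {u : G} (hu : u ∈ C.U y) : a * u * a ∈ C.U y := by
  refine ⟨A.a_conj_mem_V hu.1, mem_cent1.2 ?_⟩
  have := conj_commute (g := a) (mem_cent1.1 hu.2).inv_right
  rw [A.ai, ← A.hinv] at this
  rwa [show a * (a * y * a) * a = a * a * y * (a * a) by group, A.haa, one_mul, mul_one] at this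

/-- The transvection does not centralise `V` modulo `C_V(y)`. -/
theorem Act.v1_not_U (h : Setup G) (A : Act C a y) {v1 : G}
    (hv1 : ∀ v ∈ C.V, v ∉ C.Z1 → v * (a * v * a) = v1) : v1 ∉ C.U y := by
  intro hmem
  refine A.y_not_W ((C.centV h).le (mem_cent.2 fun w hw => ?_))
  set b := y * a * y⁻¹ with hb
  have hmul : ∀ v ∈ C.V, ∃ e ∈ C.U y, a * v * a = v * e := by
    intro v hv
    by_cases hvZ : v ∈ C.Z1
    · exact ⟨1, one_mem _, by
        rw [← ((A.mem_Z1 h).1 hvZ).2.eq, mul_assoc, A.haa]⟩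
    · refine ⟨v1, hmem, ?_⟩
      rw [← hv1 v hv hvZ, ← mul_assoc, hv.2.2, one_mul]
  have hbv : ∀ v ∈ C.V, ∃ e ∈ C.U y, b * v * b = v * e := by
    intro v hv
    have hv' : y⁻¹ * v * y ∈ C.V := by
      have := conj_mem_of_norm (C.hMV (inv_mem A.hy)) hv
      rwa [inv_inv] at this
    obtain ⟨e, he, heq⟩ := hmul _ hv'
    refine ⟨e, he, ?_⟩
    calc b * v * b = y * (a * (y⁻¹ * v * y) * a) * y⁻¹ := by rw [hb]; group
      _ = v * (y * e * y⁻¹) := by rw [heq]; group
      _ = v * e := by rw [← (mem_cent1.1 he.2).eq, mul_inv_cancel_right]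
  have hbb : b * a = y * y := by
    calc b * a = y * (a * y⁻¹ * a) := by rw [hb]; group
      _ = y * y := by
          rw [← A.hinv, show a * (a * y * a) * a = a * a * y * (a * a) by group, A.haa, one_mul,
            mul_one]
  have hab : a * b = (y * y)⁻¹ := by
    rw [← hbb, mul_inv_rev, A.ai]
    congr 1
    rw [hb, mul_inv_rev, mul_inv_rev, A.ai, inv_inv, mul_assoc]
  have h4 : ∀ v ∈ C.V, ∃ e ∈ C.U y, y * y * v * (y * y)⁻¹ = v * e := by
    intro v hv
    obtain ⟨e, he, heq⟩ := hmul v hv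
    obtain ⟨f, hf, hfq⟩ := hbv (a * v * a) (A.a_conj_mem_V hv)
    refine ⟨e * f, mul_mem he hf, ?_⟩
    calc y * y * v * (y * y)⁻¹ = b * a * v * (a * b) := by rw [hbb, hab]
      _ = b * (a * v * a) * b := by group
      _ = v * (e * f) := by rw [hfq, heq, mul_assoc]
  obtain ⟨e, he, heq⟩ := h4 w hw
  have hy4 : y * y * (y * y) = y := by
    rw [show y * y * (y * y) = y ^ 3 * y by simp [pow_succ, mul_assoc], A.y3, one_mul]
  have hc : Commute e (y * y) := (mem_cent1.1 he.2).mul_right (mem_cent1.1 he.2)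
  have : y * w * y⁻¹ = w := by
    calc y * w * y⁻¹ = y * y * (y * y * w * (y * y)⁻¹) * (y * y)⁻¹ := by
          conv_lhs => rw [← hy4]
          group
      _ = y * y * (w * e) * (y * y)⁻¹ := by rw [heq]
      _ = y * y * w * (y * y)⁻¹ * (y * y * e * (y * y)⁻¹) := by group
      _ = w * (e * e) := by rw [heq, ← hc.eq, mul_inv_cancel_right, mul_assoc]
      _ = w := by rw [he.1.2.2, mul_one]
  exact mul_inv_eq_iff_eq_mul.1 this

theorem Act.U_le (h : Setup G) (A : Act C a y) : C.U y ≤ C.Z1 := by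
  intro u hu
  by_contra huZ
  obtain ⟨v1, -, -, hv1⟩ := A.exists_v1 h
  exact A.v1_not_U h hv1 (hv1 u hu.1 huZ ▸ mul_mem hu (A.a_comm_U hu))

theorem Act.card_Z1_U (h : Setup G) (A : Act C a y) : Nat.card C.Z1 = 2 * Nat.card (C.U y) := by
  have h1 := A.card_V_Z1 h
  have h2 : Nat.card C.V = 4 * Nat.card (C.U y) := A.hU
  omega

theorem Cfg.z_mem_Z1 (C : Cfg G) : C.z ∈ C.Z1 :=
  ⟨C.hWR C.hzW, fun r hr => (C.hzc r (C.hRS hr)).symm, C.z_sq⟩

theorem Act.not_mem_S (A : Act C a y) : y ∉ C.S := fun hy =>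
  not_two_group_of_mem Nat.prime_three (by norm_num) hy A.hy3 C.S.2

theorem Act.z_not_U (h : Setup G) (A : Act C a y) : C.z ∉ C.U y := fun hz => by
  have := mem_cent1.1 hz.2
  refine A.not_mem_S (?_ : y ∈ (C.S : Subgroup G))
  rw [← C.centz h]
  exact mem_cent1.2 this.symm

theorem Act.central_false (h : Setup G) (A : Act C a y) {u : G} (hu : u ∈ C.U y) (hu1 : u ≠ 1)
    (hc : (C.S : Subgroup G) ≤ centralizer ({u} : Set G)) : False := by
  refine A.not_mem_S (?_ : y ∈ (C.S : Subgroup G))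
  rw [← h.cent_eq C.S hu1 fun x hx => mem_cent1.1 (hc hx)]
  exact mem_cent1.2 (mem_cent1.1 hu.2).symm

theorem Cfg.R_le_centZ1 (C : Cfg G) : C.R ≤ centralizer (C.Z1 : Set G) :=
  fun r hr => mem_cent.2 fun x hx => (hx.2.1 r hr).symm

theorem Cfg.elem_V (C : Cfg G) : Elem C.V := elem_oz _

theorem Cfg.card_R_le (h : Setup G) (C : Cfg G) : Nat.card C.R ≤ 64 := by
  have hlt := C.R_lt_S h
  haveI : Fact (Nat.Prime 2) := ⟨Nat.prime_two⟩
  obtain ⟨r, hr⟩ := IsPGroup.iff_card.1 C.hR2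
  rw [hr, show (64 : ℕ) = 2 ^ 6 by norm_num]
  refine Nat.pow_le_pow_right (by norm_num) ?_
  by_contra h7
  refine hlt.ne (eq_of_le_of_card_ge hlt.le ?_)
  rw [h.hS, hr]
  exact Nat.pow_le_pow_right (by norm_num) (by omega)

theorem Step.ext_le (hs : Step C s) : C.R ⊔ zpowers s ≤ C.S :=
  sup_le C.hRS (zpowers_le.2 hs.hsS)

theorem Step.card_ext (hs : Step C s) :
    Nat.card (C.R ⊔ zpowers s : Subgroup G) = 2 * Nat.card C.R :=
  card_sup_zpowers hs.hsN hs.hsR hs.hs2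

theorem Step.norm_Z1 (hs : Step C s) : s ∈ normalizer (C.Z1 : Set G) := oz_norm hs.hsN

theorem Step.s2_comm (hs : Step C s) {x : G} (hx : x ∈ C.Z1) : Commute (s * s) x :=
  (hx.2.1 _ hs.hs2).symm

theorem Step.not_normV (h : Setup G) (hs : Step C s) : s ∉ normalizer (C.V : Set G) :=
  fun hn => hs.hsR (C.mem_R_of h ((C.normV h).le hn) hs.hsS)

theorem Step.cj_ne (h : Setup G) (hs : Step C s) : cj s C.V ≠ C.V :=
  fun e => hs.not_normV h (norm_of_cj_eq e)

theorem Step.cjW_ne (h : Setup G) (hs : Step C s) : cj s C.W ≠ C.W :=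
  fun e => hs.hsR (C.mem_R_of h (C.normW.le (norm_of_cj_eq e)) hs.hsS)

theorem Step.cjW_le (hs : Step C s) : cj s C.W ≤ C.R := cj_le_of_norm C.hWR hs.hsN

theorem Step.cjV_le (hs : Step C s) : cj s C.V ≤ C.R :=
  cj_le_of_norm (C.V_le.trans C.hWR) hs.hsN

theorem Step.cjW_eq (h : Setup G) (hs : Step C s) :
    cj s C.W = centralizer ((cj s C.V : Subgroup G) : Set G) := by
  rw [← cj_cent, C.centV h]

theorem Step.Z1_le_cjV (h : Setup G) (A : Act C a y) (hs : Step C s) : C.Z1 ≤ cj s C.V := by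
  intro x hx
  refine mem_cj.2 (A.Z1_le h ?_)
  have := conj_mem_of_norm (inv_mem hs.norm_Z1) hx
  rwa [inv_inv] at this

theorem Step.V_inf_cjV (h : Setup G) (A : Act C a y) (hs : Step C s) :
    C.V ⊓ cj s C.V = C.Z1 := by
  refine le_antisymm (fun x hx => ?_) (le_inf (A.Z1_le h) (hs.Z1_le_cjV h A))
  by_contra hxZ
  have := sup_zpowers_eq (A.Z1_le h) (A.card_V_Z1 h) hx.1 hxZ
  exact hs.cj_ne h (eq_of_le_of_card_ge
    (this.ge.trans (sup_le (hs.Z1_le_cjV h A) (zpowers_le.2 hx.2))) (card_cj s C.V).le).symm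

theorem Step.cj_cjV (hs : Step C s) : cj s (cj s C.V) = C.V := by
  rw [cj_cj]; exact cj_eq_of_norm (C.hMV (C.hRM hs.hs2))

theorem Step.cj_cjW (hs : Step C s) : cj s (cj s C.W) = C.W := by
  rw [cj_cj]; exact cj_eq_of_norm (C.hMW (C.hRM hs.hs2))

theorem Act.fixed_six (h : Setup G) (A : Act C a y) (hs : Step C s) (hr : Nat.card C.R = 64)
    {u : G} (hu : u ∈ C.U y) (hu1 : u ≠ 1) (hsu : Commute s u) : False := by
  have hT : C.R ⊔ zpowers s = C.S :=
    eq_of_le_of_card_ge hs.ext_le (by rw [h.hS, hs.card_ext, hr]; norm_num)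
  refine A.central_false h hu hu1 (hT ▸ sup_le ?_ (zpowers_le.2 (mem_cent1.2 hsu)))
  exact fun r hr' => mem_cent1.2 (mem_cent.1 (C.R_le_centZ1 hr') u (A.U_le h hu))

/-- An elementary subgroup of `R` of order `|V|` is `V` or `V^s` when `W = V`. -/
theorem Act.elem_in_R (h : Setup G) (A : Act C a y) (hWV : C.W = C.V) {E : Subgroup G}
    (hER : E ≤ C.R) (hE : Elem E) : E ≤ C.V ∨ E ≤ C.Z1 ⊔ zpowers a := by
  by_cases hEV : E ≤ C.V
  · exact Or.inl hEV
  obtain ⟨e, he, heV⟩ := SetLike.not_le_iff_exists.1 hEV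
  right
  have key : ∀ f ∈ E, f ∉ C.V → f * a ∈ C.Z1 := by
    intro f hf hfV
    have hw : f * a ∈ C.V := hWV ▸ A.mul_a_mem (hER hf) (hWV ▸ hfV)
    refine (A.mem_Z1 h).2 ⟨hw, ?_⟩
    have h1 : f * a * (f * a) = 1 := hw.2.2
    have h2 := hE f hf
    show f * a * a = a * (f * a)
    calc f * a * a = f * (a * a) := by group
      _ = f := by rw [A.haa, mul_one]
      _ = f * (f * a * (f * a)) := by rw [h1, mul_one]
      _ = f * f * a * (f * a) := by group
      _ = a * (f * a) := by rw [h2, one_mul]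
  intro x hx
  have haz : a ∈ C.Z1 ⊔ zpowers a := mem_sup_right (mem_zpowers a)
  by_cases hxV : x ∈ C.V
  · refine mem_sup_left ((A.mem_Z1 h).2 ⟨hxV, ?_⟩)
    have h1 := hE.comm hx he
    have h2 : Commute x (e * a) := C.elem_V.comm hxV (A.Z1_le h (key e he heV))
    have := h1.inv_right.mul_right h2
    rwa [inv_mul_cancel_left] at this
  · have hm := key x hx hxV
    rw [show x = x * a * a by rw [mul_assoc, A.haa, mul_one]]
    exact mul_mem (mem_sup_left hm) haz

theorem Act.card_Z1_a (h : Setup G) (A : Act C a y) :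
    Nat.card (C.Z1 ⊔ zpowers a : Subgroup G) = Nat.card C.V := by
  rw [card_sup_zpowers (s := a) ?_ (fun ha => A.haW (C.V_le (A.Z1_le h ha)))
    (by rw [A.haa]; exact one_mem _), A.card_V_Z1 h]
  refine le_norm_of_conj fun x hx => ?_
  rw [← ((A.mem_Z1 h).1 hx).2.eq, mul_inv_cancel_right]
  exact hx

theorem Act.elem_eq (h : Setup G) (A : Act C a y) (hs : Step C s) (hWV : C.W = C.V)
    {E : Subgroup G} (hER : E ≤ C.R) (hE : Elem E) (hcard : Nat.card E = Nat.card C.V) :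
    E = C.V ∨ E = cj s C.V := by
  rcases A.elem_in_R h hWV hER hE with hh | hh
  · exact Or.inl (eq_of_le_of_card_ge hh hcard.ge)
  right
  rw [eq_of_le_of_card_ge hh (by rw [A.card_Z1_a h, hcard])]
  rcases A.elem_in_R h hWV hs.cjV_le (cj_elem C.elem_V s) with h2 | h2
  · exact absurd (eq_of_le_of_card_ge h2 (card_cj s C.V).ge) (hs.cj_ne h)
  · exact (eq_of_le_of_card_ge h2 (by rw [A.card_Z1_a h, card_cj])).symm

/-- Outside `R`, an element of `T = R⟨s⟩` carries `V` to `V^s`. -/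
theorem Step.swap (h : Setup G) (A : Act C a y) (hs : Step C s) (hWV : C.W = C.V) {t : G}
    (ht : t ∈ C.R ⊔ zpowers s) (htR : t ∉ C.R) : cj t C.V = cj s C.V ∧ cj t (cj s C.V) = C.V := by
  have h1 : t * s ∈ C.R := mul_mem_of_card_two le_sup_left hs.card_ext ht
    (mem_sup_right (mem_zpowers s)) htR hs.hsR
  have hts : t * s⁻¹ ∈ C.R := by
    rw [show t * s⁻¹ = t * s * (s * s)⁻¹ by group]
    exact mul_mem h1 (inv_mem hs.hs2)
  have hV2n : cj (t * s⁻¹) (cj s C.V) = cj s C.V := by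
    rcases A.elem_eq h hs hWV (cj_le_of_norm hs.cjV_le (le_normalizer hts))
      (cj_elem (cj_elem C.elem_V s) _) (by rw [card_cj, card_cj]) with e | e
    · exfalso
      refine hs.cj_ne h ?_
      have e2 := congrArg (cj (t * s⁻¹)⁻¹) e
      rw [cj_cj (t * s⁻¹)⁻¹, inv_mul_cancel, cj_eq_of_norm (one_mem _),
        cj_eq_of_norm (C.hMV (C.hRM (inv_mem hts)))] at e2
      exact e2
    · exact e
  constructor
  · rw [← hV2n, cj_cj]; congr 1; group
  · rw [cj_cj]
    exact cj_eq_of_norm (C.hMV (C.hRM h1))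

end Cfsg.Agent.Len8
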