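import Mathlib
import Cfsg.Agent.S0215
import Cfsg.Agent.Lib.Involution.BaerSuzuki

/-!
# Simple groups of length at most eight with a Sylow `2`-subgroup of order `2⁷`: generalities
-/

set_option autoImplicit false
set_option linter.style.haveILetI false
set_option linter.unusedSectionVars false

namespace Cfsg.Agent.Len8

open Subgroup

variable {G : Type*} [Group G]

/-- The conjugate of a subgroup. -/
def cj (g : G) (H : Subgroup G) : Subgroup G := H.map (MulAut.conj g).toMonoidHom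

theorem mem_cj {g x : G} {H : Subgroup G} : x ∈ cj g H ↔ g⁻¹ * x * g ∈ H := by
  constructor
  · rintro ⟨h, hh, rfl⟩
    simpa [mul_assoc] using hh
  · intro h
    exact ⟨_, h, by simp [mul_assoc]⟩

theorem cj_mem {g x : G} {H : Subgroup G} (h : x ∈ H) : g * x * g⁻¹ ∈ cj g H :=
  ⟨x, h, rfl⟩

theorem card_cj (g : G) (H : Subgroup G) : Nat.card (cj g H) = Nat.card H :=
  (Nat.card_congr (H.equivMapOfInjective _ (MulAut.conj g).injective).toEquiv).symm

theorem mem_cent {x : G} {H : Subgroup G} :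
    x ∈ centralizer (H : Set G) ↔ ∀ h ∈ H, Commute x h := by
  rw [mem_centralizer_iff]
  exact ⟨fun h a ha => (h a ha).symm, fun h a ha => (h a ha).symm⟩

theorem mem_cent1 {x z : G} : x ∈ centralizer ({z} : Set G) ↔ Commute x z := by
  rw [mem_centralizer_singleton_iff]; rfl

theorem conj_commute {g a b : G} (h : Commute a b) :
    Commute (g * a * g⁻¹) (g * b * g⁻¹) :=
  h.map (MulAut.conj g)

/-- The central elements of `H` of order at most two. -/
def oz (H : Subgroup G) : Subgroup G where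
  carrier := {x | x ∈ H ∧ (∀ h ∈ H, Commute x h) ∧ x * x = 1}
  one_mem' := ⟨one_mem _, fun h _ => Commute.one_left h, one_mul 1⟩
  mul_mem' := fun {x y} hx hy => ⟨mul_mem hx.1 hy.1, fun h hh => (hx.2.1 h hh).mul_left (hy.2.1 h hh),
    by rw [(hy.2.1 x hx.1).mul_mul_mul_comm, hx.2.2, hy.2.2, one_mul]⟩
  inv_mem' := fun {x} hx => by
    have : x⁻¹ = x := inv_eq_of_mul_eq_one_left hx.2.2
    rw [this]; exact hx

theorem mem_oz {H : Subgroup G} {x : G} :
    x ∈ oz H ↔ x ∈ H ∧ (∀ h ∈ H, Commute x h) ∧ x * x = 1 := Iff.rfl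

theorem oz_le (H : Subgroup G) : oz H ≤ H := fun _ h => h.1

theorem le_norm_of_conj [Finite G] {H : Subgroup G} {g : G} (h : ∀ x ∈ H, g * x * g⁻¹ ∈ H) :
    g ∈ normalizer (H : Set G) := by
  have hle : cj g H ≤ H := by
    rintro _ ⟨x, hx, rfl⟩
    exact h x hx
  have heq : cj g H = H := eq_of_le_of_card_ge hle (card_cj g H).ge
  rw [mem_normalizer_iff]
  intro x
  refine ⟨h x, fun hx => ?_⟩
  rw [← heq] at hx
  simpa [mem_cj, mul_assoc] using hx

theorem conj_mem_of_norm {H : Subgroup G} {g x : G} (hg : g ∈ normalizer (H : Set G)) (hx : x ∈ H) :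
    g * x * g⁻¹ ∈ H := (mem_normalizer_iff.1 hg x).1 hx

theorem oz_norm [Finite G] {H : Subgroup G} :
    normalizer (H : Set G) ≤ normalizer (oz H : Set G) := by
  intro g hg
  refine le_norm_of_conj fun x hx => ⟨conj_mem_of_norm hg hx.1, fun h hh => ?_, ?_⟩
  · have := conj_commute (g := g) (hx.2.1 _ (conj_mem_of_norm (inv_mem hg) hh))
    simpa [mul_assoc] using this
  · have : g * x * g⁻¹ * (g * x * g⁻¹) = g * (x * x) * g⁻¹ := by group
    rw [this, hx.2.2]; group

theorem norm_inf_cent [Finite G] {H K : Subgroup G} :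
    normalizer (H : Set G) ⊓ normalizer (K : Set G) ≤
      normalizer ((H ⊓ centralizer (K : Set G) : Subgroup G) : Set G) := by
  intro g hg
  refine le_norm_of_conj fun x hx => ⟨conj_mem_of_norm hg.1 hx.1, mem_cent.2 fun k hk => ?_⟩
  have := conj_commute (g := g) (mem_cent.1 hx.2 _ (conj_mem_of_norm (inv_mem hg.2) hk))
  simpa [mul_assoc] using this

theorem cent_norm [Finite G] {K : Subgroup G} :
    normalizer (K : Set G) ≤ normalizer (centralizer (K : Set G) : Set G) := by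
  intro g hg
  refine le_norm_of_conj fun x hx => mem_cent.2 fun k hk => ?_
  have := conj_commute (g := g) (mem_cent.1 hx _ (conj_mem_of_norm (inv_mem hg) hk))
  simpa [mul_assoc] using this

theorem norm_sup {H K : Subgroup G} [Finite G] :
    normalizer (H : Set G) ⊓ normalizer (K : Set G) ≤
      normalizer ((H ⊔ K : Subgroup G) : Set G) := by
  intro g hg
  refine le_norm_of_conj fun x hx => ?_
  have hle : H ⊔ K ≤ cj g⁻¹ (H ⊔ K) := by
    refine sup_le (fun h hh => mem_cj.2 ?_) (fun h hh => mem_cj.2 ?_)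
    · rw [inv_inv]; exact mem_sup_left (conj_mem_of_norm hg.1 hh)
    · rw [inv_inv]; exact mem_sup_right (conj_mem_of_norm hg.2 hh)
  simpa using mem_cj.1 (hle hx)

/-- A descending chain of length `k` from `H`. -/
def Len (H : Subgroup G) (k : ℕ) : Prop :=
  ∃ c : ℕ → Subgroup G, c 0 = H ∧ ∀ i < k, c (i + 1) < c i

theorem len_zero (H : Subgroup G) : Len H 0 := ⟨fun _ => H, rfl, fun i hi => absurd hi i.not_lt_zero⟩

theorem len_step {K H : Subgroup G} {k : ℕ} (hlt : K < H) (h : Len K k) : Len H (k + 1) := by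
  obtain ⟨c, hc0, hc⟩ := h
  refine ⟨fun i => if i = 0 then H else c (i - 1), rfl, fun i hi => ?_⟩
  rcases i with _ | i
  · simpa [hc0] using hlt
  · simpa using hc i (by omega)

theorem len_mono {H : Subgroup G} {k l : ℕ} (hkl : l ≤ k) (h : Len H k) : Len H l := by
  obtain ⟨c, hc0, hc⟩ := h
  exact ⟨c, hc0, fun i hi => hc i (by omega)⟩

theorem not_len {H : Subgroup G} (h9 : ∀ c : Fin 10 → Subgroup G, ¬ StrictAnti c) : ¬ Len H 9 := by
  rintro ⟨c, -, hc⟩
  exact h9 (fun i => c i) (Fin.strictAnti_iff_succ_lt.2 fun i => hc i i.2)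

theorem len_two_group [Finite G] : ∀ (a : ℕ) (H : Subgroup G), Nat.card H = 2 ^ a → Len H a := by
  intro a
  induction a with
  | zero => exact fun H _ => len_zero H
  | succ a ih =>
    intro H hH
    haveI : Fact (Nat.Prime 2) := ⟨Nat.prime_two⟩
    obtain ⟨K, hK⟩ := Sylow.exists_subgroup_card_pow_prime 2 (G := H) (n := a)
      (hH ▸ Dvd.intro 2 (pow_succ 2 a).symm)
    have hK' : Nat.card (K.map H.subtype) = 2 ^ a :=
      (Nat.card_congr (K.equivMapOfInjective _ H.subtype_injective).toEquiv).symm.trans hK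
    refine len_step (lt_of_le_of_ne (map_subtype_le K) fun h => ?_) (ih _ hK')
    rw [h, hH] at hK'
    exact absurd (Nat.pow_right_injective (le_refl 2) hK') (by omega)

theorem exists_index_prime {X : Type*} [Group X] [Finite X] [Nontrivial X]
    (hX : Group.IsSolvable X) : ∃ K : Subgroup X, K.index.Prime := by
  haveI := hX
  have hc : commutator X ≠ ⊤ := (Group.IsSolvable.commutator_lt_top_of_nontrivial X).ne
  obtain hbot | ⟨K, hK, hKle⟩ := eq_top_or_exists_le_coatom (commutator X)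
  · exact absurd hbot hc
  haveI : K.Normal := Subgroup.Normal.of_commutator_le X hKle
  refine ⟨K, ?_⟩
  have hcard : Nat.card (X ⧸ K) = K.index := rfl
  obtain ⟨p, hp, hpd⟩ := Nat.exists_prime_and_dvd (n := K.index)
    (fun h => hK.1 (index_eq_one.1 h))
  haveI := Fact.mk hp
  obtain ⟨x, hx⟩ := exists_prime_orderOf_dvd_card' p (G := X ⧸ K) (hcard ▸ hpd)
  have hne : zpowers x ≠ ⊥ := fun h => by
    rw [zpowers_eq_bot] at h
    rw [h, orderOf_one] at hx
    exact hp.ne_one hx.symm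
  have htop : (zpowers x).comap (QuotientGroup.mk' K) = ⊤ := by
    refine hK.2 _ (lt_of_le_of_ne (QuotientGroup.le_comap_mk' K _) fun h => hne ?_)
    have := congrArg (map (QuotientGroup.mk' K)) h
    rw [map_comap_eq_self_of_surjective (QuotientGroup.mk'_surjective K),
      QuotientGroup.map_mk'_self] at this
    exact this.symm
  have : zpowers x = ⊤ := by
    rw [← map_comap_eq_self_of_surjective (QuotientGroup.mk'_surjective K) (zpowers x), htop,
      map_top_of_surjective _ (QuotientGroup.mk'_surjective K)]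
  rw [← hcard, ← card_top (G := X ⧸ K), ← this, Nat.card_zpowers, hx]
  exact hp

theorem len_solvable [Finite G] : ∀ (n : ℕ) (H : Subgroup G), Nat.card H = n → Group.IsSolvable H →
    Len H n.primeFactorsList.length := by
  intro n
  induction n using Nat.strong_induction_on with
  | _ n ih =>
    intro H hH hs
    rcases subsingleton_or_nontrivial H with hsub | hnt
    · rw [← hH, Nat.card_unique]; simpa using len_zero H
    obtain ⟨K, hK⟩ := exists_index_prime hs
    have hcard : Nat.card (K.map H.subtype) = Nat.card K :=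
      (Nat.card_congr (K.equivMapOfInjective _ H.subtype_injective).toEquiv).symm
    have hmul : Nat.card K * K.index = n := hH ▸ K.card_mul_index
    have hlt : Nat.card K < n := by
      rw [← hmul]
      exact lt_mul_of_one_lt_right Nat.card_pos hK.one_lt
    haveI := hs
    have hKs : Group.IsSolvable ↥(K.map H.subtype) :=
      Group.isSolvable_of_surjective (f := (K.equivMapOfInjective _ H.subtype_injective).toMonoidHom)
        (K.equivMapOfInjective _ H.subtype_injective).surjective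
    have h1 := ih _ hlt (K.map H.subtype) hcard hKs
    have hl : n.primeFactorsList.length = (Nat.card K).primeFactorsList.length + 1 := by
      rw [← hmul, (Nat.perm_primeFactorsList_mul Nat.card_pos.ne' hK.ne_zero).length_eq,
        List.length_append, Nat.primeFactorsList_prime hK]
      rfl
    rw [hl]
    refine len_step (lt_of_le_of_ne (map_subtype_le K) fun h => ?_) h1
    rw [h, hH] at hcard
    omega

theorem exists_odd_prime_mem [Finite G] {H : Subgroup G} (h : ¬ IsPGroup 2 H) :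
    ∃ (p : ℕ) (y : G), p.Prime ∧ p ≠ 2 ∧ y ∈ H ∧ orderOf y = p := by
  haveI : Fact (Nat.Prime 2) := ⟨Nat.prime_two⟩
  have hnot : ∃ p, p.Prime ∧ p ∣ Nat.card H ∧ p ≠ 2 := by
    by_contra hall
    push Not at hall
    apply h
    rw [IsPGroup.iff_card]
    exact ⟨_, Nat.eq_prime_pow_of_unique_prime_dvd Nat.card_pos.ne' fun {d} hd hdd => hall d hd hdd⟩
  obtain ⟨p, hp, hpd, hp2⟩ := hnot
  haveI := Fact.mk hp
  obtain ⟨x, hx⟩ := exists_prime_orderOf_dvd_card' p hpd
  exact ⟨p, x, hp, hp2, x.2, by rw [← hx, orderOf_coe]⟩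

theorem not_two_group_of_mem {H : Subgroup G} {p : ℕ} {y : G} (hp : p.Prime) (hp2 : p ≠ 2)
    (hy : y ∈ H) (ho : orderOf y = p) : ¬ IsPGroup 2 H := by
  intro h
  haveI : Fact (Nat.Prime 2) := ⟨Nat.prime_two⟩
  obtain ⟨k, hk⟩ := (IsPGroup.iff_orderOf.1 h) ⟨y, hy⟩
  rw [orderOf_mk, ho] at hk
  rcases k with _ | k
  · exact hp.ne_one (by simpa using hk)
  · exact hp2 ((Nat.prime_dvd_prime_iff_eq hp Nat.prime_two).1
      (hp.dvd_of_dvd_pow (dvd_of_eq hk)))

/-- In a `2`-group the normaliser of a proper subgroup is larger, by an element squaring into it. -/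
theorem exists_norm_step [Finite G] {H K : Subgroup G} (hK : IsPGroup 2 K) (hlt : H < K) :
    ∃ x ∈ K, x ∈ normalizer (H : Set G) ∧ x ∉ H ∧ x * x ∈ H := by
  haveI : Fact (Nat.Prime 2) := ⟨Nat.prime_two⟩
  haveI : Group.IsNilpotent K := hK.isNilpotent
  have h1 : H.subgroupOf K < ⊤ := by
    rw [lt_top_iff_ne_top, Ne, subgroupOf_eq_top]
    exact hlt.not_ge
  obtain ⟨⟨x, hxK⟩, hxn, hxH⟩ := SetLike.exists_of_lt (Group.normalizerCondition_of_isNilpotent _ h1)
  rw [mem_subgroupOf] at hxH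
  have hxn' : x ∈ normalizer (H : Set G) := by
    refine le_norm_of_conj fun h hh => ?_
    have := (mem_normalizer_iff.1 hxn ⟨h, hlt.le hh⟩).1 hh
    exact this
  obtain ⟨k, hk⟩ := (IsPGroup.iff_orderOf.1 hK) ⟨x, hxK⟩
  rw [orderOf_mk] at hk
  have hex : ∃ j, x ^ 2 ^ j ∈ H := ⟨k, by rw [← hk, pow_orderOf_eq_one]; exact one_mem _⟩
  classical
  have h0 : Nat.find hex ≠ 0 := fun h => hxH (by have := Nat.find_spec hex; rwa [h, pow_zero, pow_one] at this)
  refine ⟨x ^ 2 ^ (Nat.find hex - 1), pow_mem hxK _, pow_mem hxn' _, Nat.find_min hex (by omega), ?_⟩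
  rw [← pow_add, ← two_mul, ← pow_succ']
  have : Nat.find hex - 1 + 1 = Nat.find hex := by omega
  rw [this]
  exact Nat.find_spec hex

theorem two_group_sup [Finite G] {H K : Subgroup G} (hH : IsPGroup 2 H) (hK : IsPGroup 2 K)
    (h : K ≤ normalizer (H : Set G)) : IsPGroup 2 (H ⊔ K : Subgroup G) :=
  hH.to_sup_of_normal_left' hK h

theorem two_group_zpowers {x : G} {k : ℕ} (h : x ^ 2 ^ k = 1) : IsPGroup 2 (zpowers x) := by
  rintro ⟨g, hg⟩
  obtain ⟨m, rfl⟩ := hg
  refine ⟨k, Subtype.ext ?_⟩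
  show ((x ^ m) ^ 2 ^ k : G) = 1
  rw [← zpow_natCast (x ^ m), zpow_comm, zpow_natCast, h, one_zpow]

/-- Outside the largest normal `2`-subgroup an involution inverts an element of odd prime order. -/
theorem exists_inverted [Finite G] {M W : Subgroup G} {a : G} (ha : a ∈ M) (haa : a * a = 1)
    (hW : ∀ X : Subgroup G, X ≤ M → IsPGroup 2 X → M ≤ normalizer (X : Set G) → X ≤ W)
    (haW : a ∉ W) :
    ∃ (p : ℕ) (y : G), p.Prime ∧ p ≠ 2 ∧ y ∈ M ∧ orderOf y = p ∧ a * y * a = y⁻¹ := by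
  haveI : Fact (Nat.Prime 2) := ⟨Nat.prime_two⟩
  by_contra hcon
  apply haW
  have key : ∀ g : M, IsPGroup 2 (closure ({⟨a, ha⟩, g * ⟨a, ha⟩ * g⁻¹} : Set M)) := by
    intro g
    set A : M := ⟨a, ha⟩
    set B : M := g * A * g⁻¹ with hB
    have hA : A * A = 1 := Subtype.ext haa
    have hBB : B * B = 1 := by
      have : B * B = g * (A * A) * g⁻¹ := by rw [hB]; group
      rw [this, hA]; group
    have hAi : A⁻¹ = A := inv_eq_of_mul_eq_one_left hA
    have hBi : B⁻¹ = B := inv_eq_of_mul_eq_one_left hBB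
    have hinv : A * (A * B) * A⁻¹ = (A * B)⁻¹ := by
      rw [mul_inv_rev, hAi, hBi, ← mul_assoc A A B, hA, one_mul]
    have h2 : IsPGroup 2 (zpowers (A * B)) := by
      by_contra hn
      obtain ⟨p, y, hp, hp2, hy, ho⟩ := exists_odd_prime_mem hn
      obtain ⟨m, hm⟩ := mem_zpowers_iff.1 hy
      refine hcon ⟨p, y, hp, hp2, y.2, by rw [orderOf_coe, ho], ?_⟩
      have : A * y * A⁻¹ = y⁻¹ := by
        rw [← hm]
        show MulAut.conj A ((A * B) ^ m) = _
        rw [map_zpow]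
        show (A * (A * B) * A⁻¹) ^ m = _
        rw [hinv, inv_zpow]
      rw [hAi] at this
      exact congrArg Subtype.val this
    refine (two_group_sup h2 (two_group_zpowers (x := A) (k := 1) (by rw [pow_one, sq, hA]))
      ?_).to_le ((closure_le _).2 ?_)
    · rw [zpowers_le]
      refine le_norm_of_conj fun x hx => ?_
      obtain ⟨m, rfl⟩ := mem_zpowers_iff.1 hx
      show MulAut.conj A ((A * B) ^ m) ∈ _
      rw [map_zpow]
      show (A * (A * B) * A⁻¹) ^ m ∈ _
      rw [hinv]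
      exact zpow_mem (inv_mem (mem_zpowers _)) m
    · rintro x (rfl | rfl)
      · exact mem_sup_right (mem_zpowers _)
      · have h3 : A * (A * B) ∈ zpowers (A * B) ⊔ zpowers A :=
          mul_mem (mem_sup_right (mem_zpowers _)) (mem_sup_left (mem_zpowers _))
        have e1 : A * (A * B) = B := by rw [← mul_assoc, hA, one_mul]
        rwa [e1] at h3
  obtain ⟨N, hN, hN2, haN⟩ := Involution.baerSuzuki (⟨a, ha⟩ : M) key
  refine hW (N.map M.subtype) (map_subtype_le N) (hN2.map _) (fun g hg => le_norm_of_conj ?_)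
    ⟨_, haN, rfl⟩
  rintro _ ⟨n, hn, rfl⟩
  exact ⟨⟨g, hg⟩ * n * ⟨g, hg⟩⁻¹, hN.conj_mem n hn _, rfl⟩

/-- The hypotheses. -/
structure Setup (G : Type*) [Group G] : Prop where
  simple : IsSimpleGroup G
  nonab : ∃ a b : G, a * b ≠ b * a
  h9 : ∀ c : Fin 10 → Subgroup G, ¬ StrictAnti c
  hS : ∀ S : Sylow 2 G, Nat.card (S : Subgroup G) = 2 ^ 7

variable [Finite G]

theorem Setup.not_two (h : Setup G) : ¬ IsPGroup 2 G := by
  intro hG
  haveI := h.simple
  haveI : Fact (Nat.Prime 2) := ⟨Nat.prime_two⟩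
  haveI : Group.IsNilpotent G := hG.isNilpotent
  obtain ⟨a, b, hab⟩ := h.nonab
  exact hab (Subgroup.Normal.eq_bot_or_eq_top (inferInstance : (center G).Normal) |>.elim
    (fun hc => absurd hc (Group.IsNilpotent.center_ne_bot (G := G)))
    (fun hc => (mem_center_iff.1 (hc ▸ mem_top b) a)))

theorem Setup.eq_or_top (h : Setup G) (S : Sylow 2 G) {M : Subgroup G} (hle : (S : Subgroup G) ≤ M) :
    M = S ∨ M = ⊤ := by
  by_contra hcon
  push Not at hcon
  exact not_len h.h9 (len_step (lt_top_iff_ne_top.2 hcon.2)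
    (len_step (lt_of_le_of_ne hle (Ne.symm hcon.1)) (len_two_group 7 _ (h.hS S))))

theorem Setup.ne_top (h : Setup G) {H : Subgroup G} (hH : IsPGroup 2 H) : H ≠ ⊤ := by
  rintro rfl
  exact h.not_two (hH.of_equiv topEquiv)

theorem Setup.norm_ne_top (h : Setup G) {X : Subgroup G} (hX : IsPGroup 2 X) (hne : X ≠ ⊥) :
    normalizer (X : Set G) ≠ ⊤ := by
  intro htop
  haveI := h.simple
  have : X.Normal := normalizer_eq_top_iff.1 htop
  exact (this.eq_bot_or_eq_top).elim hne (h.ne_top hX)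

theorem Setup.norm_eq (h : Setup G) (S : Sylow 2 G) {X : Subgroup G} (hX : X ≤ S) (hne : X ≠ ⊥)
    (hn : (S : Subgroup G) ≤ normalizer (X : Set G)) : normalizer (X : Set G) = S :=
  (h.eq_or_top S hn).resolve_right (h.norm_ne_top (S.2.to_le hX) hne)

theorem Setup.sylow_ne_bot (h : Setup G) (S : Sylow 2 G) : (S : Subgroup G) ≠ ⊥ := by
  intro hb
  have := h.hS S
  rw [hb, card_bot] at this
  norm_num at this

theorem Setup.norm_sylow (h : Setup G) (S : Sylow 2 G) :
    normalizer ((S : Subgroup G) : Set G) = S :=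
  h.norm_eq S le_rfl (h.sylow_ne_bot S) le_normalizer

theorem Setup.cent_eq (h : Setup G) (S : Sylow 2 G) {z : G} (hz1 : z ≠ 1)
    (hc : ∀ x ∈ S, Commute x z) : centralizer ({z} : Set G) = S := by
  refine (h.eq_or_top S (fun x hx => mem_cent1.2 (hc x hx))).resolve_right fun htop => ?_
  haveI := h.simple
  have hzc : z ∈ center G := mem_center_iff.2 fun g => mem_cent1.1 (htop ▸ mem_top g)
  rcases (inferInstance : (center G).Normal).eq_bot_or_eq_top with hb | ht
  · exact hz1 (mem_bot.1 (hb ▸ hzc))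
  · obtain ⟨a, b, hab⟩ := h.nonab
    exact hab (mem_center_iff.1 (ht ▸ mem_top b) a)

theorem exists_central_involution (S : Sylow 2 G) (hne : (S : Subgroup G) ≠ ⊥) :
    ∃ z ∈ S, orderOf z = 2 ∧ ∀ x ∈ S, Commute x z := by
  haveI : Fact (Nat.Prime 2) := ⟨Nat.prime_two⟩
  haveI : Nontrivial (S : Subgroup G) := (nontrivial_iff_ne_bot _).2 hne
  haveI := S.2.center_nontrivial
  obtain ⟨k, hk⟩ := IsPGroup.iff_card.1 (S.2.to_subgroup (center (S : Subgroup G)))
  have hk0 : k ≠ 0 := by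
    rintro rfl
    exact (Finite.one_lt_card (α := center (S : Subgroup G))).ne' (by simpa using hk)
  obtain ⟨z, hz⟩ := exists_prime_orderOf_dvd_card' 2 (G := center (S : Subgroup G))
    (hk ▸ dvd_pow_self 2 hk0)
  refine ⟨z.1.1, z.1.2, by rw [orderOf_coe, orderOf_coe, hz], fun x hx => ?_⟩
  exact congrArg Subtype.val (mem_center_iff.1 z.2 ⟨x, hx⟩)

theorem ne_one_of_order_two {z : G} (hz : orderOf z = 2) : z ≠ 1 := by
  rintro rfl
  rw [orderOf_one] at hz
  omega

theorem mem_conj_sylow {g x : G} {S : Sylow 2 G} :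
    x ∈ g • S ↔ g⁻¹ * x * g ∈ S := by
  show x ∈ (↑(g • S) : Subgroup G) ↔ _
  rw [Sylow.coe_subgroup_smul, mem_pointwise_smul_iff_inv_smul_mem]
  simp [MulAut.smul_def]
  rfl

/-- A proper subgroup, not a `2`-group, with a normal `2`-subgroup containing a `2`-central
element. -/
def Good (M : Subgroup G) : Prop :=
  ¬ IsPGroup 2 M ∧ M ≠ ⊤ ∧ ∃ (S : Sylow 2 G) (z : G), z ≠ 1 ∧ z ∈ S ∧ (∀ x ∈ S, Commute x z) ∧
    ∃ W : Subgroup G, W ≤ M ∧ IsPGroup 2 W ∧ M ≤ normalizer (W : Set G) ∧ z ∈ W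

theorem Setup.exists_good (h : Setup G) : ∃ M : Subgroup G, Good M := by
  haveI : Fact (Nat.Prime 2) := ⟨Nat.prime_two⟩
  haveI := h.simple
  obtain ⟨S⟩ : Nonempty (Sylow 2 G) := inferInstance
  obtain ⟨z, hzS, hz2, hzc⟩ := exists_central_involution S (h.sylow_ne_bot S)
  have hz1 := ne_one_of_order_two hz2
  have hmove : ∃ g : G, g * z * g⁻¹ ∈ S ∧ g * z * g⁻¹ ≠ z := by
    by_contra hcon
    push Not at hcon
    obtain ⟨N, hN, hodd, hcomm⟩ := S0215.result S z hz2 hzS hcon
    rcases hN.eq_bot_or_eq_top with hb | ht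
    · have hall : ∀ g : G, Commute g z := by
        intro g
        have h1 := mem_bot.1 (hb ▸ hcomm g)
        rw [mul_inv_eq_one, mul_inv_eq_iff_eq_mul] at h1
        exact h1.symm
      have := h.cent_eq S hz1 (fun x _ => hall x)
      exact h.ne_top S.2 (eq_top_iff.2 fun g _ => this ▸ mem_cent1.2 (hall g))
    · subst ht
      rw [card_top] at hodd
      exact Nat.not_even_iff_odd.2 hodd (even_iff_two_dvd.2 (hz2 ▸ orderOf_dvd_natCard z))
  obtain ⟨g, hgS, hgz⟩ := hmove
  have hcS := h.cent_eq S hz1 hzc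
  have hc' : ∀ x ∈ g • S, Commute x (g * z * g⁻¹) := by
    intro x hx
    have := conj_commute (g := g) (hzc _ (mem_conj_sylow.1 hx))
    simpa [mul_assoc] using this
  have ht1 : g * z * g⁻¹ ≠ 1 := fun e => hz1 (conj_eq_one_iff.1 e)
  have hzS' : z ∈ g • S := by
    show z ∈ (↑(g • S) : Subgroup G)
    rw [← h.cent_eq (g • S) ht1 hc']
    exact mem_cent1.2 (hzc _ hgS).symm
  have hne : g • S ≠ S := by
    intro e
    have hg : g ∈ normalizer ((S : Subgroup G) : Set G) := Sylow.smul_eq_iff_mem_normalizer.1 e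
    rw [h.norm_sylow S] at hg
    exact hgz (mul_inv_eq_iff_eq_mul.2 (hzc g hg))
  let P : Set (Sylow 2 G × Sylow 2 G) :=
    {q | q.1 ≠ q.2 ∧ ∃ u : G, u ≠ 1 ∧ u ∈ q.1 ∧ u ∈ q.2 ∧ ∀ x ∈ q.1, Commute x u}
  obtain ⟨⟨S1, S2⟩, ⟨hne12, u, hu1, huS1, huS2, huc⟩, hmax⟩ := Set.exists_max_image P
    (fun q => Nat.card ((q.1 : Subgroup G) ⊓ q.2 : Subgroup G)) (Set.toFinite _)
    ⟨(S, g • S), hne.symm, z, hz1, hzS, hzS', hzc⟩
  set I : Subgroup G := (S1 : Subgroup G) ⊓ S2 with hI
  have hI2 : IsPGroup 2 I := S1.2.to_le inf_le_left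
  have hlt1 : I < S1 := by
    refine lt_of_le_of_ne inf_le_left fun e => hne12 (Sylow.ext ?_)
    exact eq_of_le_of_card_ge (e ▸ inf_le_right) ((h.hS S2).trans (h.hS S1).symm).le
  have hlt2 : I < S2 := by
    refine lt_of_le_of_ne inf_le_right fun e => hne12 (Sylow.ext ?_).symm
    exact eq_of_le_of_card_ge (e ▸ inf_le_left) ((h.hS S1).trans (h.hS S2).symm).le
  have huI : u ∈ I := ⟨huS1, huS2⟩
  refine ⟨normalizer (I : Set G), ?_, h.norm_ne_top hI2 (fun e => hu1 (mem_bot.1 (e ▸ huI))),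
    S1, u, hu1, huS1, huc, I, le_normalizer, hI2, le_rfl, huI⟩
  intro hN
  obtain ⟨S3, hS3⟩ := hN.exists_le_sylow
  obtain ⟨x1, hx1, hxn1, hxI1, -⟩ := exists_norm_step S1.2 hlt1
  obtain ⟨x2, hx2, hxn2, hxI2, -⟩ := exists_norm_step S2.2 hlt2
  by_cases he : S3 = S1
  · subst he
    exact hxI2 ⟨hS3 hxn2, hx2⟩
  · have := hmax (S1, S3) ⟨Ne.symm he, u, hu1, huS1, hS3 (le_normalizer huI), huc⟩
    have hlt : I < (S1 : Subgroup G) ⊓ S3 :=
      lt_of_le_not_ge (fun x hx => ⟨hx.1, hS3 (le_normalizer hx)⟩)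
        (fun hle => hxI1 (hle ⟨hx1, hS3 hxn1⟩))
    exact hlt.ne (eq_of_le_of_card_ge hlt.le this)

end Cfsg.Agent.Len8
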