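import Cfsg.Agent.Len8.Cfg
import Cfsg.Agent.Lib.CharCore.Burnside

/-!
# An involution of `R` inverts an element of order three, and `[R : W] = 2`
-/

set_option autoImplicit false
set_option linter.style.haveILetI false
set_option linter.unusedSectionVars false
set_option linter.unusedVariables false

namespace Cfsg.Agent.Len8

open Subgroup

variable {G : Type*} [Group G] [Finite G]

theorem conj_pow_eq {x y : G} : ∀ n : ℕ, (fun v => y * v * y⁻¹)^[n] x = y ^ n * x * (y ^ n)⁻¹ := by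
  intro n
  induction n with
  | zero => simp
  | succ n ih =>
    rw [Function.iterate_succ_apply', ih, pow_succ', mul_inv_rev]
    group

theorem card_mod_fixed {α : Type*} [Finite α] (p : ℕ) [Fact p.Prime] (f : α → α) (k : ℕ)
    (hf : ∀ x, f^[p ^ k] x = x) : Nat.card α % p = Nat.card {x : α // f x = x} % p := by
  classical
  haveI := Fintype.ofFinite α
  let F : Function.End α := f
  have hpow : ∀ (m : ℕ) (x : α), (F ^ m : Function.End α) x = f^[m] x := by
    intro m
    induction m with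
    | zero => intro x; rfl
    | succ m ih =>
      intro x
      rw [pow_succ', Function.iterate_succ', Function.comp_apply, ← ih]
      rfl
  have h : F ^ p ^ k = 1 := funext fun x => (hpow _ x).trans (hf x)
  have h1 := Equiv.Perm.card_fixedPoints_modEq (f := F) h
  rw [Nat.card_eq_fintype_card, Nat.card_eq_fintype_card]
  exact h1.trans (congrArg (· % p)
    (Fintype.card_congr (Equiv.subtypeEquivRight fun x => Iff.rfl)))

theorem Cfg.not_mem_W {p : ℕ} {y : G} (C : Cfg G) (hp : p.Prime) (hp2 : p ≠ 2) (hy : orderOf y = p) :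
    y ∉ C.W := fun h => not_two_group_of_mem hp hp2 h hy C.hW2

/-- A transvection inverting an element of odd prime order forces that order to be three. -/
theorem Cfg.transvection (h : Setup G) (C : Cfg G) {a y : G} {p : ℕ} (hp : p.Prime) (hp2 : p ≠ 2)
    (ha : a ∈ C.M) (haa : a * a = 1) (hy : y ∈ C.M) (hyp : orderOf y = p)
    (hinv : a * y * a = y⁻¹)
    (htr : Nat.card C.V ≤ 2 * Nat.card (C.V ⊓ centralizer ({a} : Set G) : Subgroup G)) :
    p = 3 ∧ Nat.card C.V = 4 * Nat.card (C.V ⊓ centralizer ({y} : Set G) : Subgroup G) := by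
  classical
  haveI : Fact (Nat.Prime 2) := ⟨Nat.prime_two⟩
  set V := C.V
  set U : Subgroup G := V ⊓ centralizer ({y} : Set G) with hU
  set Va : Subgroup G := V ⊓ centralizer ({a} : Set G) with hVa
  set Vb : Subgroup G := V ⊓ centralizer ({a * y} : Set G) with hVb
  obtain ⟨k, hk⟩ : ∃ k : ℕ, p = 2 * k + 1 := by
    rcases hp.eq_two_or_odd' with e | e
    · exact absurd e hp2
    · exact e
  have hay : ∀ n : ℕ, a * y ^ n = (y ^ n)⁻¹ * a := by
    intro n
    have ai : a⁻¹ = a := inv_eq_of_mul_eq_one_left haa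
    have e : (a * y * a⁻¹) ^ n = (y⁻¹) ^ n := by rw [ai, hinv]
    rw [conj_pow, inv_pow, mul_inv_eq_iff_eq_mul] at e
    exact e
  have hconj : y ^ k * a * (y ^ k)⁻¹ = a * y := by
    rw [mul_inv_eq_iff_eq_mul, mul_assoc, ← pow_succ', hay (k + 1)]
    rw [eq_inv_mul_iff_mul_eq, ← mul_assoc, ← pow_add]
    have : y ^ (k + 1 + k) = 1 := by
      rw [show k + 1 + k = p by omega, ← hyp, pow_orderOf_eq_one]
    rw [this, one_mul]
  have hsub : ∀ x ∈ Va, y ^ k * x * (y ^ k)⁻¹ ∈ Vb := fun x hx =>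
    ⟨conj_mem_of_norm (C.hMV (pow_mem hy k)) hx.1,
      mem_cent1.2 (hconj ▸ conj_commute (mem_cent1.1 hx.2))⟩
  have hcardb : Nat.card Va ≤ Nat.card Vb :=
    Nat.card_le_card_of_injective (fun x : Va => (⟨_, hsub x x.2⟩ : Vb))
      (fun x x' e => Subtype.ext (mul_left_cancel (mul_right_cancel (congrArg Subtype.val e))))
  have hint : Va ⊓ Vb ≤ U := by
    rintro x ⟨⟨hxV, hxa⟩, -, hxb⟩
    refine ⟨hxV, mem_cent1.2 ?_⟩
    have := (Commute.inv_right (mem_cent1.1 hxa)).mul_right (mem_cent1.1 hxb)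
    rwa [inv_mul_cancel_left] at this
  have hVabel : ∀ x ∈ V, ∀ x' ∈ V, Commute x x' := fun x hx x' hx' => (elem_oz C.W).comm hx hx'
  have h1 := card_sup_inf (le_norm_of_commute (A := Va) (B := Vb)
    fun x hx x' hx' => hVabel x hx.1 x' hx'.1)
  have h2 : Nat.card (Va ⊔ Vb : Subgroup G) ≤ Nat.card V :=
    card_le_of_le (sup_le inf_le_left inf_le_left)
  have h3 : Nat.card (Va ⊓ Vb : Subgroup G) ≤ Nat.card U := card_le_of_le hint
  have h4 : Nat.card V ≤ 4 * Nat.card U := by
    have e1 : Nat.card V * Nat.card V ≤ Nat.card V * (4 * Nat.card U) := by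
      calc Nat.card V * Nat.card V ≤ (2 * Nat.card Va) * (2 * Nat.card Vb) :=
            Nat.mul_le_mul htr (htr.trans (Nat.mul_le_mul_left 2 hcardb))
        _ = 4 * (Nat.card Va * Nat.card Vb) := by ring
        _ = 4 * (Nat.card (Va ⊔ Vb : Subgroup G) * Nat.card (Va ⊓ Vb : Subgroup G)) := by rw [h1]
        _ ≤ 4 * (Nat.card V * Nat.card U) := Nat.mul_le_mul_left 4 (Nat.mul_le_mul h2 h3)
        _ = Nat.card V * (4 * Nat.card U) := by ring
    exact Nat.le_of_mul_le_mul_left e1 Nat.card_pos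
  set U' : Subgroup V := U.subgroupOf V with hU'
  have hidx : Nat.card U * U'.index = Nat.card V := by
    rw [← Nat.card_congr (subgroupOfEquivOfLe (inf_le_left : U ≤ V)).toEquiv]
    exact U'.card_mul_index
  have hne : U'.index ≠ 1 := by
    rw [Ne, index_eq_one, hU', subgroupOf_eq_top]
    intro hle
    refine C.not_mem_W hp hp2 hyp ((C.centV h).le (mem_cent.2 fun v hv => ?_))
    exact (mem_cent1.1 (hle hv).2).symm
  haveI : Fact p.Prime := ⟨hp⟩
  let f : V → V := fun v => ⟨y * v * y⁻¹, conj_mem_of_norm (C.hMV hy) v.2⟩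
  have hf : ∀ v w : V, QuotientGroup.leftRel U' v w → QuotientGroup.leftRel U' (f v) (f w) := by
    intro v w hvw
    rw [QuotientGroup.leftRel_apply] at hvw ⊢
    rw [hU', mem_subgroupOf] at hvw ⊢
    have hc : Commute (↑(v⁻¹ * w) : G) y := mem_cent1.1 hvw.2
    have e : ((f v)⁻¹ * f w : V).1 = y * (v⁻¹ * w : V).1 * y⁻¹ := by
      show (y * v.1 * y⁻¹)⁻¹ * (y * w.1 * y⁻¹) = y * (v.1⁻¹ * w.1) * y⁻¹
      group
    rw [e, ← hc.eq, mul_inv_cancel_right]
    exact hvw
  let F : V ⧸ U' → V ⧸ U' := Quotient.map' f hf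
  have hiter : ∀ (n : ℕ) (v : V), F^[n] (QuotientGroup.mk v) = QuotientGroup.mk (f^[n] v) := by
    intro n
    induction n with
    | zero => intro v; rfl
    | succ n ih =>
      intro v
      rw [Function.iterate_succ_apply', ih, Function.iterate_succ_apply']
      rfl
  have hfit : ∀ (n : ℕ) (v : V), (f^[n] v).1 = y ^ n * v.1 * (y ^ n)⁻¹ := by
    intro n v
    rw [← conj_pow_eq]
    induction n with
    | zero => rfl
    | succ n ih => rw [Function.iterate_succ_apply', Function.iterate_succ_apply', ← ih]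
  have hFp : ∀ q, F^[p ^ 1] q = q := by
    intro q
    induction q using QuotientGroup.induction_on with
    | H v =>
      rw [pow_one, hiter]
      refine congrArg _ (Subtype.ext ?_)
      rw [hfit, ← hyp, pow_orderOf_eq_one]; group
  have hfix : Nat.card {q : V ⧸ U' // F q = q} = 1 := by
    rw [Nat.card_eq_one_iff_unique]
    refine ⟨⟨?_⟩, ⟨⟨QuotientGroup.mk 1, congrArg _ (Subtype.ext (by simp [f]))⟩⟩⟩
    have key : ∀ q : V ⧸ U', F q = q → q = QuotientGroup.mk 1 := by
      intro q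
      induction q using QuotientGroup.induction_on with
      | H v =>
        intro hq
        have hq' : (v⁻¹ * f v : V) ∈ U' := QuotientGroup.eq.1 hq.symm
        rw [hU', mem_subgroupOf] at hq'
        set u : G := ((v⁻¹ * f v : V) : G) with hu
        have hyv : y * v.1 * y⁻¹ = v.1 * u := by
          rw [hu]
          show _ = v.1 * (v.1⁻¹ * (y * v.1 * y⁻¹))
          group
        have hn : ∀ n : ℕ, y ^ n * v.1 * (y ^ n)⁻¹ = v.1 * u ^ n := by
          intro n
          induction n with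
          | zero => simp
          | succ n ih =>
            have hc : Commute u y := mem_cent1.1 hq'.2
            calc y ^ (n + 1) * v.1 * (y ^ (n + 1))⁻¹ = y * (y ^ n * v.1 * (y ^ n)⁻¹) * y⁻¹ := by
                  rw [pow_succ']; group
              _ = y * v.1 * y⁻¹ * (y * u ^ n * y⁻¹) := by rw [ih]; group
              _ = v.1 * u * u ^ n := by
                  rw [hyv, ← (hc.pow_left n).eq, mul_inv_cancel_right]
              _ = v.1 * u ^ (n + 1) := by rw [mul_assoc, ← pow_succ']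
        have hup : u ^ p = 1 := by
          have := hn p
          rw [← hyp, pow_orderOf_eq_one] at this
          simpa [hyp] using this.symm
        have hu1 : u = 1 := by
          rw [hk, pow_succ, pow_mul, sq, hq'.1.2.2, one_pow, one_mul] at hup
          exact hup
        refine (QuotientGroup.eq.2 ?_)
        rw [hU', mem_subgroupOf]
        refine ⟨(v⁻¹ * 1 : V).2, mem_cent1.2 ?_⟩
        rw [hu1, mul_one, mul_inv_eq_iff_eq_mul] at hyv
        simpa using (show Commute v.1 y from hyv.symm).inv_left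
    rintro ⟨q, hq⟩ ⟨q', hq'⟩
    exact Subtype.ext ((key q hq).trans (key q' hq').symm)
  have hmod : U'.index % p = 1 % p := by
    rw [← hfix, index_eq_card]
    exact card_mod_fixed p F 1 hFp
  rw [Nat.one_mod_eq_one.2 hp.ne_one] at hmod
  have hi0 : U'.index ≠ 0 := index_ne_zero_of_finite
  have hi4 : U'.index ≤ 4 := Nat.le_of_mul_le_mul_left
    (hidx.le.trans (h4.trans_eq (mul_comm _ _))) Nat.card_pos
  have h3 : U'.index ≠ 3 := by
    intro e
    obtain ⟨j, hj⟩ := IsPGroup.iff_card.1 (C.hW2.to_le C.V_le)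
    have hd : 3 ∣ 2 ^ j := ⟨Nat.card U, by rw [← hj, ← hidx, e]; ring⟩
    exact absurd (Nat.prime_three.dvd_of_dvd_pow hd) (by norm_num)
  have hp3 : 3 ≤ p := by have := hp.two_le; omega
  have hi : U'.index = 4 := by
    by_contra hne4
    have h2' : U'.index = 2 := by omega
    rw [h2', Nat.mod_eq_of_lt (by omega)] at hmod
    omega
  refine ⟨?_, by rw [← hidx, hi, mul_comm]⟩
  rw [hi] at hmod
  rcases Nat.lt_or_ge 4 p with hlt | hge
  · rw [Nat.mod_eq_of_lt hlt] at hmod; omega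
  · have : p ≠ 4 := fun e => absurd (e ▸ hp) (by norm_num)
    omega

theorem card_le_two_mul {H K : Subgroup G} (hle : H ≤ K)
    (hd : ∀ x ∈ K, x ∉ H → ∀ a ∈ K, a ∉ H → x * a⁻¹ ∈ H) :
    Nat.card K ≤ 2 * Nat.card H := by
  classical
  by_cases hKH : K ≤ H
  · have := card_le_of_le hKH; omega
  obtain ⟨a, haK, haH⟩ := SetLike.not_le_iff_exists.1 hKH
  let f : K → Bool × H := fun x =>
    if hx : x.1 ∈ H then (true, ⟨x.1, hx⟩) else (false, ⟨x.1 * a⁻¹, hd _ x.2 hx a haK haH⟩)
  refine (Nat.card_le_card_of_injective f ?_).trans (by rw [Nat.card_prod]; simp)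
  intro x x' e
  by_cases hx : x.1 ∈ H <;> by_cases hx' : x'.1 ∈ H <;>
    simp only [f, dif_pos, dif_neg, hx, hx', not_false_eq_true] at e
  · exact Subtype.ext (congrArg (fun q => q.2.1) e)
  · exact absurd (congrArg Prod.fst e) (by simp)
  · exact absurd (congrArg Prod.fst e) (by simp)
  · exact Subtype.ext (mul_right_cancel (congrArg (fun q => q.2.1) e))

theorem exists_comm_normal {X : Type*} [Group X] [Nontrivial X] (hX : Group.IsSolvable X) :
    ∃ N : Subgroup X, N.Normal ∧ N ≠ ⊥ ∧ ∀ a ∈ N, ∀ b ∈ N, Commute a b := by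
  classical
  have hex := hX.solvable
  have h0 : Nat.find hex ≠ 0 := by
    intro e
    have := Nat.find_spec hex
    rw [e, derivedSeries_zero] at this
    exact top_ne_bot this
  refine ⟨derivedSeries X (Nat.find hex - 1), derivedSeries_normal X _,
    Nat.find_min hex (by omega), fun a ha b hb => ?_⟩
  have hs := Nat.find_spec hex
  rw [show Nat.find hex = Nat.find hex - 1 + 1 by omega, derivedSeries_succ,
    commutator_eq_bot_iff_le_centralizer] at hs
  exact (mem_centralizer_iff.1 (hs ha) b hb).symm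

/-- In a solvable group of order `2^b q` without normal `2`-subgroup, a subgroup of order `q` is
normal, and only `1` among the elements of two-power order centralises it. -/
theorem exists_prime_normal {X : Type*} [Group X] [Finite X] {b q : ℕ} (hq : q.Prime) (hq2 : q ≠ 2)
    (hX : Nat.card X = 2 ^ b * q)
    (hO : ∀ N : Subgroup X, N.Normal → IsPGroup 2 N → N = ⊥) :
    ∃ x : X, orderOf x = q ∧ (zpowers x).Normal ∧
      ∀ t : X, ∀ j : ℕ, t ^ 2 ^ j = 1 → Commute t x → t = 1 := by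
  classical
  haveI : Fact (Nat.Prime 2) := ⟨Nat.prime_two⟩
  haveI : Fact q.Prime := ⟨hq⟩
  haveI : Nontrivial X := by
    rw [← Finite.one_lt_card_iff_nontrivial, hX]
    exact hq.one_lt.trans_le (Nat.le_mul_of_pos_left q (by positivity))
  have hs : Group.IsSolvable X :=
    CharCore.isSolvable_of_card_eq_prime_pow_mul Nat.prime_two hq _ X b 1 rfl (by rw [hX, pow_one])
  obtain ⟨N, hN, hNne, hNc⟩ := exists_comm_normal hs
  let T : Subgroup X :=
    { carrier := {x | x ∈ N ∧ x * x = 1}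
      one_mem' := ⟨one_mem _, one_mul 1⟩
      mul_mem' := fun {x y} hx hy => ⟨mul_mem hx.1 hy.1,
        by rw [(hNc y hy.1 x hx.1).mul_mul_mul_comm, hx.2, hy.2, one_mul]⟩
      inv_mem' := fun {x} hx => ⟨inv_mem hx.1, by rw [← mul_inv_rev, hx.2, inv_one]⟩ }
  have hT : T.Normal := ⟨fun x hx g => ⟨hN.conj_mem x hx.1 g, by
    have : g * x * g⁻¹ * (g * x * g⁻¹) = g * (x * x) * g⁻¹ := by group
    rw [this, hx.2]; group⟩⟩
  have hTb := hO T hT (two_group_of_elem (fun x hx => hx.2))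
  have hodd : ¬ 2 ∣ Nat.card N := by
    intro hd
    obtain ⟨n, hn⟩ := exists_prime_orderOf_dvd_card' 2 hd
    have hmem : n.1 ∈ T := ⟨n.2, by
      rw [← sq, ← hn, ← orderOf_coe, pow_orderOf_eq_one]⟩
    rw [hTb, mem_bot] at hmem
    rw [OneMemClass.coe_eq_one] at hmem
    rw [hmem, orderOf_one] at hn
    omega
  have hNq : Nat.card N = q := by
    have hd : Nat.card N ∣ 2 ^ b * q := hX ▸ card_subgroup_dvd_card N
    have hd' : Nat.card N ∣ q :=
      ((Nat.prime_two.coprime_iff_not_dvd.2 hodd).symm.pow_right b).dvd_of_dvd_mul_left hd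
    rcases (Nat.dvd_prime hq).1 hd' with e | e
    · exact absurd (card_eq_one.1 e) hNne
    · exact e
  obtain ⟨n, hn⟩ := exists_prime_orderOf_dvd_card' q (G := N) (by rw [hNq])
  have hzN : zpowers n.1 = N := eq_of_le_of_card_ge (zpowers_le.2 n.2)
    (by rw [Nat.card_zpowers, orderOf_coe, hn, hNq])
  refine ⟨n.1, by rw [orderOf_coe, hn], hzN.symm ▸ hN, fun t j ht htc => ?_⟩
  haveI := hN
  set K : Subgroup X := centralizer (N : Set X) with hK
  haveI : K.Normal := normalizer_eq_top_iff.1 (eq_top_iff.2 (by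
    rw [← normalizer_eq_top_iff.2 hN]; exact cent_norm))
  have hNK : N ≤ K := fun x hx => mem_cent.2 fun y hy => hNc x hx y hy
  have htK : t ∈ K := mem_cent.2 fun y hy => by
    rw [← hzN, mem_zpowers_iff] at hy
    obtain ⟨m, rfl⟩ := hy
    exact htc.zpow_right m
  obtain ⟨Q⟩ : Nonempty (Sylow 2 K) := inferInstance
  have hQn : (Q : Subgroup K).Normal := by
    set N' : Subgroup K := N.subgroupOf K
    have hN'c : Nat.card N' = q := (Nat.card_congr (subgroupOfEquivOfLe hNK).toEquiv).trans hNq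
    have hKd : Nat.card K ∣ 2 ^ b * q := hX ▸ card_subgroup_dvd_card K
    have hQc := Q.card_eq_multiplicity
    have hcop : N' ⊓ (Q : Subgroup K) = ⊥ := disjoint_iff.1 <| disjoint_of_coprime_natCard (by
      rw [hN'c, hQc]; exact Nat.Coprime.pow_right _ ((Nat.coprime_primes hq Nat.prime_two).2 hq2))
    have hcomm : ∀ x ∈ N', ∀ y ∈ (Q : Subgroup K), Commute x y := fun x hx y hy =>
      Subtype.ext (mem_cent.1 y.2 x.1 hx).symm
    have hsup : N' ⊔ (Q : Subgroup K) = ⊤ := by
      refine eq_of_le_of_card_ge le_top ?_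
      have := card_sup_inf (le_norm_of_commute hcomm)
      rw [hcop, card_bot, mul_one] at this
      rw [card_top, this, hN'c, hQc]
      obtain ⟨c, hc, q', hq', he⟩ : ∃ c, c ≤ b ∧ ∃ q', q' ∣ q ∧ Nat.card K = 2 ^ c * q' := by
        obtain ⟨y, z, hy, hz, e⟩ := exists_dvd_and_dvd_of_dvd_mul hKd
        obtain ⟨c, hc, rfl⟩ := (Nat.dvd_prime_pow Nat.prime_two).1 hy
        exact ⟨c, hc, z, hz, e⟩
      have hqK : q ∣ Nat.card K := hNq ▸ card_dvd_of_le hNK
      rcases (Nat.dvd_prime hq).1 hq' with rfl | rfl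
      · rw [mul_one] at he
        exact absurd (hq.dvd_of_dvd_pow (he ▸ hqK)) (fun hd2 =>
          hq2 ((Nat.prime_dvd_prime_iff_eq hq Nat.prime_two).1 hd2))
      · rw [he, mul_comm (2 ^ c), Nat.factorization_mul hq.ne_zero (by positivity),
          Finsupp.add_apply, Nat.prime_two.factorization_pow, Finsupp.single_eq_same,
          Nat.factorization_eq_zero_of_not_dvd (fun hd2 =>
            hq2 ((Nat.prime_dvd_prime_iff_eq Nat.prime_two hq).1 hd2).symm), zero_add]
    rw [← normalizer_eq_top_iff, eq_top_iff, ← hsup]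
    exact sup_le (le_norm_of_commute fun x hx y hy => (hcomm y hy x hx).symm) le_normalizer
  haveI := hQn
  haveI := Q.characteristic_of_normal hQn
  have hQm : ((Q : Subgroup K).map K.subtype).Normal := inferInstance
  have hQb := hO _ hQm (Q.2.map _)
  have htQ : (⟨t, htK⟩ : K) ∈ (Q : Subgroup K) := by
    obtain ⟨Q', hQ'⟩ := (two_group_zpowers (x := (⟨t, htK⟩ : K)) (k := j)
      (Subtype.ext (by simpa using ht))).exists_le_sylow
    haveI := Sylow.unique_of_normal Q hQn
    rw [Subsingleton.elim Q Q']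
    exact hQ' (mem_zpowers _)
  exact mem_bot.1 (hQb ▸ (⟨_, htQ, rfl⟩ : t ∈ (Q : Subgroup K).map K.subtype))

theorem inv_of_sq {X : Type*} [Group X] {x t : X} {q : ℕ} (hq : q.Prime) (hx : orderOf x = q)
    [(zpowers x).Normal] (ht : t * t = 1) : t * x * t⁻¹ = x ∨ t * x * t⁻¹ = x⁻¹ := by
  haveI := Fact.mk hq
  obtain ⟨k, hk⟩ := mem_zpowers_iff.1 ((inferInstance : (zpowers x).Normal).conj_mem x
    (mem_zpowers x) t)
  have h2 : x ^ (k * k) = x := by
    have e : MulAut.conj t (x ^ k) = x := by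
      rw [hk]
      show t * (t * x * t⁻¹) * t⁻¹ = x
      have : t⁻¹ = t := inv_eq_of_mul_eq_one_left ht
      rw [this, show t * (t * x * t) * t = t * t * x * (t * t) by group, ht]; group
    rw [map_zpow] at e
    rw [show MulAut.conj t x = x ^ k from hk.symm, ← zpow_mul] at e
    exact e
  have hd : (q : ℤ) ∣ (k - 1) * (k + 1) := by
    rw [← hx]
    refine orderOf_dvd_iff_zpow_eq_one.2 ?_
    rw [show (k - 1) * (k + 1) = k * k - 1 by ring, zpow_sub, h2, zpow_one, mul_inv_cancel]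
  rcases (Nat.prime_iff_prime_int.1 hq).dvd_or_dvd hd with h | h <;>
    rw [← hx, orderOf_dvd_iff_zpow_eq_one] at h
  · left
    rw [zpow_sub, zpow_one, mul_inv_eq_one] at h
    rw [← hk, h]
  · right
    rw [zpow_add, zpow_one] at h
    rw [← hk]
    exact eq_inv_of_mul_eq_one_left h

/-- The quotient by `W` when the index of `R` is a prime: two elements of `R ∖ W` that square into
`W` agree modulo `W`, and, when the prime is three, any two do. -/
theorem Cfg.prime_case (C : Cfg G) {q : ℕ} (hq : q.Prime) (hq2 : q ≠ 2)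
    (hM : Nat.card C.M = Nat.card C.R * q) :
    (∀ t ∈ C.R, ∀ u ∈ C.R, t ∉ C.W → u ∉ C.W → t * t ∈ C.W → u * u ∈ C.W → t * u⁻¹ ∈ C.W) ∧
    (q = 3 → ∀ t ∈ C.R, ∀ u ∈ C.R, t ∉ C.W → u ∉ C.W → t * u⁻¹ ∈ C.W) := by
  classical
  haveI : Fact (Nat.Prime 2) := ⟨Nat.prime_two⟩
  set W' : Subgroup C.M := C.W.subgroupOf C.M with hW'
  haveI : W'.Normal := normal_subgroupOf_of_le_normalizer C.hMW
  have hcW : Nat.card W' = Nat.card C.W := Nat.card_congr (subgroupOfEquivOfLe C.hWM).toEquiv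
  obtain ⟨w, hw⟩ := IsPGroup.iff_card.1 C.hW2
  obtain ⟨r, hr⟩ := IsPGroup.iff_card.1 C.hR2
  have hwr : w ≤ r := (Nat.pow_le_pow_iff_right (by norm_num)).1
    (hw ▸ hr ▸ card_le_of_le C.hWR)
  have hX : Nat.card (C.M ⧸ W') = 2 ^ (r - w) * q := by
    have e := W'.card_eq_card_quotient_mul_card_subgroup
    rw [hM, hr, hcW, hw, show 2 ^ r = 2 ^ (r - w) * 2 ^ w by rw [← pow_add]; congr 1; omega] at e
    exact Nat.eq_of_mul_eq_mul_right (show 0 < 2 ^ w by positivity) (by linarith)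
  have hO : ∀ N : Subgroup (C.M ⧸ W'), N.Normal → IsPGroup 2 N → N = ⊥ := by
    intro N hN hN2
    set P : Subgroup C.M := N.comap (QuotientGroup.mk' W')
    have hP2 : IsPGroup 2 P := hN2.comap_of_ker_isPGroup _ (by
      rw [QuotientGroup.ker_mk']; exact IsPGroup.of_card (hcW.trans hw))
    have hPn : P.Normal := hN.comap _
    have hle := C.Wmax (P.map C.M.subtype) (map_subtype_le P) (hP2.map _) (fun g hg =>
      le_norm_of_conj (by
        rintro _ ⟨n, hn, rfl⟩
        exact ⟨⟨g, hg⟩ * n * ⟨g, hg⟩⁻¹, hPn.conj_mem n hn _, rfl⟩))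
    rw [eq_bot_iff]
    intro x hx
    induction x using QuotientGroup.induction_on with
    | H g =>
      rw [mem_bot, QuotientGroup.eq_one_iff, hW', mem_subgroupOf]
      exact hle ⟨g, hx, rfl⟩
  obtain ⟨x, hx, hxn, hfaith⟩ := exists_prime_normal hq hq2 hX hO
  let φ : C.M →* C.M ⧸ W' := QuotientGroup.mk' W'
  have hone : ∀ (g : G) (hg : g ∈ C.M), φ ⟨g, hg⟩ = 1 ↔ g ∈ C.W := fun g hg => by
    simp [φ, hW', mem_subgroupOf]
  have hcc : ∀ (g : G) (hg : g ∈ C.R), Commute (φ ⟨g, C.hRM hg⟩) x → g ∈ C.W := by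
    intro g hg hc
    obtain ⟨j, hj⟩ := C.hR2 ⟨g, hg⟩
    refine (hone g _).1 (hfaith _ j ?_ hc)
    rw [← map_pow]
    have : (⟨g, C.hRM hg⟩ : C.M) ^ 2 ^ j = 1 := Subtype.ext (by simpa using congrArg Subtype.val hj)
    rw [this, map_one]
  have hsame : ∀ t (ht : t ∈ C.R) u (hu : u ∈ C.R),
      φ ⟨t, C.hRM ht⟩ * x * (φ ⟨t, C.hRM ht⟩)⁻¹ = φ ⟨u, C.hRM hu⟩ * x * (φ ⟨u, C.hRM hu⟩)⁻¹ →
      t * u⁻¹ ∈ C.W := by
    intro t ht u hu e
    have h1 : u⁻¹ * t ∈ C.W := by
      refine hcc _ (mul_mem (inv_mem hu) ht) ?_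
      have e2 : φ ⟨u⁻¹ * t, C.hRM (mul_mem (inv_mem hu) ht)⟩
          = (φ ⟨u, C.hRM hu⟩)⁻¹ * φ ⟨t, C.hRM ht⟩ := by
        rw [← map_inv, ← map_mul]; rfl
      rw [e2]
      calc (φ ⟨u, C.hRM hu⟩)⁻¹ * φ ⟨t, C.hRM ht⟩ * x
          = (φ ⟨u, C.hRM hu⟩)⁻¹ * (φ ⟨t, C.hRM ht⟩ * x * (φ ⟨t, C.hRM ht⟩)⁻¹) *
              φ ⟨t, C.hRM ht⟩ := by group
        _ = (φ ⟨u, C.hRM hu⟩)⁻¹ * (φ ⟨u, C.hRM hu⟩ * x * (φ ⟨u, C.hRM hu⟩)⁻¹) *
              φ ⟨t, C.hRM ht⟩ := by rw [e]
        _ = x * ((φ ⟨u, C.hRM hu⟩)⁻¹ * φ ⟨t, C.hRM ht⟩) := by group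
    have := conj_mem_of_norm (C.hMW (C.hRM hu)) h1
    rwa [show u * (u⁻¹ * t) * u⁻¹ = t * u⁻¹ by group] at this
  refine ⟨fun t ht u hu htW huW ht2 hu2 => ?_, fun hq3 t ht u hu htW huW => ?_⟩
  · haveI := hxn
    have key : ∀ (g : G) (hg : g ∈ C.R), g ∉ C.W → g * g ∈ C.W →
        φ ⟨g, C.hRM hg⟩ * x * (φ ⟨g, C.hRM hg⟩)⁻¹ = x⁻¹ := by
      intro g hg hgW hg2
      have hsq : φ ⟨g, C.hRM hg⟩ * φ ⟨g, C.hRM hg⟩ = 1 := by
        rw [← map_mul]; exact (hone (g * g) _).2 hg2
      rcases inv_of_sq hq hx hsq with e | e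
      · exact absurd (hcc g hg (mul_inv_eq_iff_eq_mul.1 e)) hgW
      · exact e
    exact hsame t ht u hu (by rw [key t ht htW ht2, key u hu huW hu2])
  · subst hq3
    have key : ∀ (g : G) (hg : g ∈ C.R), g ∉ C.W →
        φ ⟨g, C.hRM hg⟩ * x * (φ ⟨g, C.hRM hg⟩)⁻¹ = x⁻¹ := by
      intro g hg hgW
      obtain ⟨k, hk⟩ := mem_zpowers_iff.1 (hxn.conj_mem x (mem_zpowers x) (φ ⟨g, C.hRM hg⟩))
      rw [← hk, ← zpow_mod_orderOf, hx]
      have h0 : k % (3 : ℕ) = 0 ∨ k % (3 : ℕ) = 1 ∨ k % (3 : ℕ) = 2 := by omega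
      rcases h0 with e | e | e <;> rw [e]
      · exfalso
        rw [← zpow_mod_orderOf, hx, e, zpow_zero] at hk
        have := conj_eq_one_iff.1 hk.symm
        rw [this, orderOf_one] at hx
        omega
      · exfalso
        rw [← zpow_mod_orderOf, hx, e, zpow_one] at hk
        exact hgW (hcc g hg (mul_inv_eq_iff_eq_mul.1 hk.symm))
      · refine eq_inv_of_mul_eq_one_left ?_
        rw [show (2 : ℤ) = ((2 : ℕ) : ℤ) from rfl, zpow_natCast, ← pow_succ]
        have h3x := pow_orderOf_eq_one x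
        rw [hx] at h3x
        exact h3x
    exact hsame t ht u hu (by rw [key t ht htW, key u hu huW])

theorem Cfg.orbit_lt (h : Setup G) (C : Cfg G) :
    (C.R.subgroupOf C.M).index < Nat.card C.V := by
  classical
  let f : C.M ⧸ C.R.subgroupOf C.M → C.V := fun q =>
    ⟨q.out.1 * C.z * q.out.1⁻¹, conj_mem_of_norm (C.hMV q.out.2) C.z_mem_V⟩
  haveI := Fintype.ofFinite (C.M ⧸ C.R.subgroupOf C.M)
  haveI := Fintype.ofFinite C.V
  rw [index_eq_card, Nat.card_eq_fintype_card, Nat.card_eq_fintype_card]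
  refine Fintype.card_lt_of_injective_of_notMem f (fun q q' e => ?_) (b := 1) ?_
  · rw [← QuotientGroup.out_eq' q, ← QuotientGroup.out_eq' q', QuotientGroup.eq, mem_subgroupOf]
    refine C.mem_R_of_commute h (q.out⁻¹ * q'.out).2 ?_
    have e' := congrArg Subtype.val e
    simp only [f] at e'
    show (q.out.1⁻¹ * q'.out.1) * C.z = C.z * (q.out.1⁻¹ * q'.out.1)
    calc q.out.1⁻¹ * q'.out.1 * C.z
        = q.out.1⁻¹ * (q'.out.1 * C.z * q'.out.1⁻¹) * q'.out.1 := by group
      _ = q.out.1⁻¹ * (q.out.1 * C.z * q.out.1⁻¹) * q'.out.1 := by rw [e']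
      _ = C.z * (q.out.1⁻¹ * q'.out.1) := by group
  · rintro ⟨q, e⟩
    exact C.z_ne (conj_eq_one_iff.1 (congrArg Subtype.val e))

theorem solvable_of_pq {X : Type*} [Group X] [Finite X] {o : ℕ} (hc : Nat.card X = o)
    (ho : o = 9 ∨ o = 15) : Group.IsSolvable X := by
  rcases ho with rfl | rfl
  · exact CharCore.isSolvable_of_card_eq_prime_pow_mul Nat.prime_three Nat.prime_five _ X 2 0 rfl
      (by rw [hc]; norm_num)
  · exact CharCore.isSolvable_of_card_eq_prime_pow_mul Nat.prime_three Nat.prime_five _ X 1 1 rfl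
      (by rw [hc]; norm_num)

/-- The composite index in the case `[R : W] = 4`. -/
theorem Cfg.composite_false (h : Setup G) (C : Cfg G) {o : ℕ} (ho : o = 9 ∨ o = 15)
    (hR : Nat.card C.R = 2 ^ 6) (hW : Nat.card C.W = 2 ^ 4) (hM : Nat.card C.M = Nat.card C.R * o) :
    False := by
  classical
  haveI : Fact (Nat.Prime 2) := ⟨Nat.prime_two⟩
  by_cases hN : C.M ⊓ normalizer (C.R : Set G) ≤ C.R
  swap
  · have h1 : C.R < C.M ⊓ normalizer (C.R : Set G) :=
      lt_of_le_not_ge (le_inf C.hRM le_normalizer) hN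
    have h2 : C.M ⊓ normalizer (C.R : Set G) < C.M := by
      refine lt_of_le_of_ne inf_le_left fun e => ?_
      have hle := C.Wmax C.R C.hRM C.hR2 (e ▸ inf_le_right)
      have := card_le_of_le hle
      rw [hR, hW] at this
      norm_num at this
    exact not_len h.h9 (len_step (lt_top_iff_ne_top.2 C.M_ne_top)
      (len_step h2 (len_step h1 (len_two_group 6 _ hR))))
  set W' : Subgroup C.M := C.W.subgroupOf C.M with hW'
  haveI : W'.Normal := normal_subgroupOf_of_le_normalizer C.hMW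
  have hcW : Nat.card W' = 2 ^ 4 := (Nat.card_congr (subgroupOfEquivOfLe C.hWM).toEquiv).trans hW
  have hsW : Group.IsSolvable W' := by
    haveI := (IsPGroup.of_card hcW : IsPGroup 2 W').isNilpotent
    infer_instance
  have hX : Nat.card (C.M ⧸ W') = 4 * o := by
    have e := W'.card_eq_card_quotient_mul_card_subgroup
    rw [hM, hR, hcW] at e
    omega
  set R' : Subgroup C.M := C.R.subgroupOf C.M with hR'
  set P0 : Subgroup (C.M ⧸ W') := R'.map (QuotientGroup.mk' W') with hP0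
  have hcomap : P0.comap (QuotientGroup.mk' W') = R' := by
    rw [hP0, comap_map_eq, QuotientGroup.ker_mk', sup_eq_left]
    exact fun x hx => C.hWR hx
  have hP0c : Nat.card P0 = 4 := by
    have e1 : P0.index = R'.index := by
      rw [← hcomap, index_comap_of_surjective _ (QuotientGroup.mk'_surjective W')]
    have e2 := P0.card_mul_index
    have e3 := R'.card_mul_index
    rw [show Nat.card R' = Nat.card C.R from Nat.card_congr (subgroupOfEquivOfLe C.hRM).toEquiv,
      hM] at e3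
    rw [hX, e1, Nat.eq_of_mul_eq_mul_left Nat.card_pos e3] at e2
    exact Nat.eq_of_mul_eq_mul_right (by omega) e2
  have hfac : (Nat.card (C.M ⧸ W')).factorization 2 = 2 := by
    rw [hX]
    rcases ho with rfl | rfl
    · rw [show 4 * 9 = 2 ^ 2 * 9 by norm_num, Nat.factorization_mul (by norm_num) (by norm_num),
        Finsupp.add_apply, Nat.prime_two.factorization_pow, Finsupp.single_eq_same,
        Nat.factorization_eq_zero_of_not_dvd (by norm_num)]
    · rw [show 4 * 15 = 2 ^ 2 * 15 by norm_num, Nat.factorization_mul (by norm_num) (by norm_num),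
        Finsupp.add_apply, Nat.prime_two.factorization_pow, Finsupp.single_eq_same,
        Nat.factorization_eq_zero_of_not_dvd (by norm_num)]
  let P : Sylow 2 (C.M ⧸ W') := Sylow.ofCard P0 (by rw [hP0c, hfac]; norm_num)
  have hPc : ∀ a ∈ P0, ∀ b ∈ P0, Commute a b := by
    intro a ha b hb
    haveI : IsMulCommutative P0 := IsPGroup.isMulCommutative_of_card_eq_prime_sq (p := 2)
      (by rw [hP0c]; norm_num)
    exact congrArg Subtype.val (mul_comm' (⟨a, ha⟩ : P0) ⟨b, hb⟩)
  have hnorm : normalizer ((P : Subgroup (C.M ⧸ W')) : Set (C.M ⧸ W')) ≤ P0 := by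
    intro q hq
    induction q using QuotientGroup.induction_on with
    | H g =>
      have hg : g.1 ∈ C.M ⊓ normalizer (C.R : Set G) := by
        refine ⟨g.2, le_norm_of_conj fun r hr => ?_⟩
        have hmem : (⟨g.1 * r * g.1⁻¹, mul_mem (mul_mem g.2 (C.hRM hr)) (inv_mem g.2)⟩ : C.M) ∈
            P0.comap (QuotientGroup.mk' W') := by
          rw [mem_comap]
          exact conj_mem_of_norm hq (⟨⟨r, C.hRM hr⟩, hr, rfl⟩ :
            QuotientGroup.mk' W' ⟨r, C.hRM hr⟩ ∈ P0)
        rw [hcomap] at hmem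
        exact hmem
      exact ⟨g, hN hg, rfl⟩
  have hNC : normalizer ((P : Subgroup (C.M ⧸ W')) : Set (C.M ⧸ W')) ≤
      centralizer ((P : Subgroup (C.M ⧸ W')) : Set (C.M ⧸ W')) :=
    fun q hq => mem_cent.2 fun b hb => hPc q (hnorm hq) b hb
  have hcompl := MonoidHom.ker_transferSylow_isComplement' P hNC
  set K := (MonoidHom.transferSylow P hNC).ker with hK
  have hKc : Nat.card K = o := by
    have e := hcompl.card_mul_card
    rw [show Nat.card (P : Subgroup (C.M ⧸ W')) = 4 from hP0c, hX] at e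
    omega
  have hsX : Group.IsSolvable (C.M ⧸ W') := by
    haveI : Group.IsSolvable K := solvable_of_pq hKc ho
    haveI : Group.IsSolvable (P : Subgroup (C.M ⧸ W')) :=
      Group.isSolvable_of_comm fun a b => Subtype.ext (hPc a.1 a.2 b.1 b.2)
    exact Group.isSolvable_of_ker_le_range K.subtype (MonoidHom.transferSylow P hNC)
      (by rw [K.range_subtype])
  have hsM : Group.IsSolvable C.M := (Group.isSolvable_iff_subgroup_quotient W').2 ⟨hsW, hsX⟩
  refine not_len h.h9 (len_step (lt_top_iff_ne_top.2 C.M_ne_top) (len_mono ?_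
    (len_solvable _ _ rfl hsM)))
  rw [hM, hR]
  rcases ho with rfl | rfl
  · rw [← (Nat.primeFactorsList_unique (l := [2, 2, 2, 2, 2, 2, 3, 3]) (by norm_num)
      (by simp [Nat.prime_two, Nat.prime_three])).length_eq]
    simp
  · rw [← (Nat.primeFactorsList_unique (l := [2, 2, 2, 2, 2, 2, 3, 5]) (by norm_num)
      (by simp [Nat.prime_two, Nat.prime_three, Nat.prime_five])).length_eq]
    simp

theorem Cfg.card_le_two (h : Setup G) (C : Cfg G) : Nat.card C.R ≤ 2 * Nat.card C.W := by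
  classical
  haveI : Fact (Nat.Prime 2) := ⟨Nat.prime_two⟩
  by_contra hcon
  push Not at hcon
  obtain ⟨w, hw⟩ := IsPGroup.iff_card.1 C.hW2
  obtain ⟨d, hd⟩ := IsPGroup.iff_card.1 (C.hW2.to_le C.V_le)
  obtain ⟨r, hr⟩ := IsPGroup.iff_card.1 C.hR2
  have hdw : d ≤ w := (Nat.pow_le_pow_iff_right (by norm_num)).1
    (hw ▸ hd ▸ card_le_of_le C.V_le)
  have hwr : w + 2 ≤ r := by
    rw [hr, hw, ← pow_succ'] at hcon
    have := (Nat.pow_lt_pow_iff_right (by norm_num : 1 < 2)).1 hcon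
    omega
  have hr6 : r ≤ 6 := by
    have hlt := C.R_lt_S h
    by_contra h7
    refine hlt.ne (eq_of_le_of_card_ge hlt.le ?_)
    rw [h.hS, hr]
    exact Nat.pow_le_pow_right (by norm_num) (by omega)
  set o := (C.R.subgroupOf C.M).index with ho
  have hM : Nat.card C.M = Nat.card C.R * o := by
    rw [ho, ← (C.R.subgroupOf C.M).card_mul_index,
      Nat.card_congr (subgroupOfEquivOfLe C.hRM).toEquiv]
  have hodd : ¬ 2 ∣ o := by
    intro h2
    have hdvd : 2 ^ (r + 1) ∣ Nat.card C.M := by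
      rw [hM, hr, pow_succ]; exact Nat.mul_dvd_mul_left _ h2
    have := (Nat.prime_two.pow_dvd_iff_le_factorization Nat.card_pos.ne').1 hdvd
    have e := C.cardR
    rw [hr] at e
    have := Nat.pow_right_injective (le_refl 2) e
    omega
  have ho1 : o ≠ 1 := by
    intro e
    rw [e, mul_one] at hM
    exact C.not2 (IsPGroup.of_card (hM.trans hr))
  have holt : o < 2 ^ d := hd ▸ C.orbit_lt h
  have ho16 : o < 16 := holt.trans_le ((Nat.pow_le_pow_right (by norm_num) (by omega : d ≤ 4)))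
  by_cases hp : o.Prime
  · have hq2 : o ≠ 2 := fun e => hodd (e ▸ dvd_rfl)
    obtain ⟨hI, hII⟩ := C.prime_case hp hq2 hM
    obtain ⟨A, hAR, hAE, hAW, hoff⟩ := C.offender h
    obtain ⟨a, haA, haW⟩ := SetLike.not_le_iff_exists.1 hAW
    have haa := hAE a haA
    have hA2 : Nat.card A ≤ 2 * Nat.card (A ⊓ C.W : Subgroup G) := by
      refine card_le_two_mul inf_le_left fun x hx hxn u hu hun =>
      mem_inf.2 ⟨mul_mem hx (inv_mem hu), ?_⟩
      exact hI x (hAR hx) u (hAR hu) (fun hh => hxn ⟨hx, hh⟩) (fun hh => hun ⟨hu, hh⟩)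
        (by rw [hAE x hx]; exact one_mem _) (by rw [hAE u hu]; exact one_mem _)
    have hcv : Nat.card (A ⊓ C.V : Subgroup G) ≤
        Nat.card (C.V ⊓ centralizer ({a} : Set G) : Subgroup G) :=
      card_le_of_le fun x hx => ⟨hx.2, mem_cent1.2 (hAE.comm hx.1 haA)⟩
    have htr : Nat.card C.V ≤ 2 * Nat.card (C.V ⊓ centralizer ({a} : Set G) : Subgroup G) := by
      refine Nat.le_of_mul_le_mul_right ?_ (Nat.card_pos (α := (A ⊓ C.W : Subgroup G)))
      calc _ ≤ _ := hoff
        _ ≤ Nat.card (C.V ⊓ centralizer ({a} : Set G) : Subgroup G) *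
            (2 * Nat.card (A ⊓ C.W : Subgroup G)) := Nat.mul_le_mul hcv hA2
        _ = _ := by ring
    obtain ⟨p, y, hpp, hp2, hyM, hy, hinv⟩ := exists_inverted (C.hRM (hAR haA)) haa C.Wmax haW
    obtain ⟨hp3, -⟩ := C.transvection h hpp hp2 (C.hRM (hAR haA)) haa hyM hy hinv htr
    have hdvd : p ∣ Nat.card C.M := by
      rw [← hy]
      exact (orderOf_mk y hyM ▸ orderOf_dvd_natCard (⟨y, hyM⟩ : C.M) :)
    rw [hM, hr] at hdvd
    have ho3 : o = 3 := by
      rcases hpp.dvd_mul.1 hdvd with e | e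
      · exact absurd ((Nat.prime_dvd_prime_iff_eq hpp Nat.prime_two).1 (hpp.dvd_of_dvd_pow e)) hp2
      · rw [← (Nat.prime_dvd_prime_iff_eq hpp hp).1 e, hp3]
    have := card_le_two_mul C.hWR (fun x hx hxn u hu hun => hII ho3 x hx u hu hxn hun)
    omega
  · have ho915 : o = 9 ∨ o = 15 := by
      interval_cases o <;> first | (exact Or.inl rfl) | (exact Or.inr rfl) | (exfalso; revert hp hodd ho1; norm_num)
    have hd4 : d = 4 := by
      by_contra hne
      have : 2 ^ d ≤ 2 ^ 3 := Nat.pow_le_pow_right (by norm_num) (by omega)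
      omega
    exact C.composite_false h ho915 (by rw [hr, show r = 6 by omega]) (by rw [hw, show w = 4 by omega]) hM

/-- An involution of `R` outside `W` that inverts an element of order three and acts on `V` as a
transvection. -/
theorem Cfg.exists_main (h : Setup G) (C : Cfg G) : ∃ a y : G, a ∈ C.R ∧ a ∉ C.W ∧ a * a = 1 ∧
    y ∈ C.M ∧ orderOf y = 3 ∧ a * y * a = y⁻¹ ∧
    Nat.card C.V ≤ 2 * Nat.card (C.V ⊓ centralizer ({a} : Set G) : Subgroup G) ∧
    Nat.card C.V = 4 * Nat.card (C.V ⊓ centralizer ({y} : Set G) : Subgroup G) ∧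
    (∀ x ∈ C.R, x ∈ C.W ∨ x * a ∈ C.W) ∧ Nat.card C.R = 2 * Nat.card C.W := by
  classical
  haveI : Fact (Nat.Prime 2) := ⟨Nat.prime_two⟩
  have hb := C.card_le_two h
  obtain ⟨A, hAR, hAE, hAW, hoff⟩ := C.offender h
  obtain ⟨a, haA, haW⟩ := SetLike.not_le_iff_exists.1 hAW
  have haa := hAE a haA
  have hai : a⁻¹ = a := inv_eq_of_mul_eq_one_left haa
  have heq : Nat.card C.R = 2 * Nat.card C.W := by
    obtain ⟨w, hw⟩ := IsPGroup.iff_card.1 C.hW2
    obtain ⟨r, hr⟩ := IsPGroup.iff_card.1 C.hR2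
    rw [hr, hw, ← pow_succ'] at hb ⊢
    have h1 := (Nat.pow_le_pow_iff_right (by norm_num : 1 < 2)).1 hb
    have h2 : w < r := by
      by_contra hle
      exact hAW (hAR.trans (eq_of_le_of_card_ge C.hWR (by
        rw [hr, hw]; exact Nat.pow_le_pow_right (by norm_num) (by omega))).ge)
    rw [show r = w + 1 by omega]
  have hidx : (C.W.subgroupOf C.R).index = 2 := by
    have e := (C.W.subgroupOf C.R).card_mul_index
    rw [Nat.card_congr (subgroupOfEquivOfLe C.hWR).toEquiv, heq] at e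
    exact Nat.eq_of_mul_eq_mul_left Nat.card_pos (by rw [e]; ring)
  have hcos : ∀ x ∈ C.R, x ∈ C.W ∨ x * a ∈ C.W := by
    intro x hx
    by_cases hxW : x ∈ C.W
    · exact Or.inl hxW
    · right
      have := mul_mem_iff_of_index_two hidx (a := ⟨x, hx⟩) (b := ⟨a, hAR haA⟩)
      simpa [mem_subgroupOf, hxW, haW] using this
  have hA2 : Nat.card A ≤ 2 * Nat.card (A ⊓ C.W : Subgroup G) := by
    refine card_le_two_mul inf_le_left fun x hx hxn u hu hun =>
      mem_inf.2 ⟨mul_mem hx (inv_mem hu), ?_⟩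
    have h1 := (hcos x (hAR hx)).resolve_left fun hh => hxn ⟨hx, hh⟩
    have h2 := (hcos u (hAR hu)).resolve_left fun hh => hun ⟨hu, hh⟩
    rw [show x * u⁻¹ = x * a * (u * a)⁻¹ by group]
    exact mul_mem h1 (inv_mem h2)
  have hcv : Nat.card (A ⊓ C.V : Subgroup G) ≤
      Nat.card (C.V ⊓ centralizer ({a} : Set G) : Subgroup G) :=
    card_le_of_le fun x hx => ⟨hx.2, mem_cent1.2 (hAE.comm hx.1 haA)⟩
  have htr : Nat.card C.V ≤ 2 * Nat.card (C.V ⊓ centralizer ({a} : Set G) : Subgroup G) := by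
    refine Nat.le_of_mul_le_mul_right ?_ (Nat.card_pos (α := (A ⊓ C.W : Subgroup G)))
    calc _ ≤ _ := hoff
      _ ≤ Nat.card (C.V ⊓ centralizer ({a} : Set G) : Subgroup G) *
          (2 * Nat.card (A ⊓ C.W : Subgroup G)) := Nat.mul_le_mul hcv hA2
      _ = _ := by ring
  obtain ⟨p, y, hpp, hp2, hyM, hy, hinv⟩ := exists_inverted (C.hRM (hAR haA)) haa C.Wmax haW
  obtain ⟨rfl, hU⟩ := C.transvection h hpp hp2 (C.hRM (hAR haA)) haa hyM hy hinv htr
  exact ⟨a, y, hAR haA, haW, haa, hyM, hy, hinv, htr, hU, hcos, heq⟩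

end Cfsg.Agent.Len8
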