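import Cfsg.Agent.Len8.Basic

/-!
# A `2`-local subgroup, not a `2`-group, with the largest Sylow `2`-subgroup, and its offender
-/

set_option autoImplicit false
set_option linter.style.haveILetI false
set_option linter.unusedSectionVars false
set_option linter.unusedVariables false

namespace Cfsg.Agent.Len8

open Subgroup

variable {G : Type*} [Group G] [Finite G]

theorem card_sup_inf {H K : Subgroup G} (h : K ≤ normalizer (H : Set G)) :
    Nat.card (H ⊔ K : Subgroup G) * Nat.card (H ⊓ K : Subgroup G) = Nat.card H * Nat.card K := by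
  haveI : (H.subgroupOf (H ⊔ K)).Normal :=
    normal_subgroupOf_of_le_normalizer (sup_le le_normalizer h)
  have h1 : H.relIndex (H ⊔ K) = H.relIndex K := by
    rw [← relIndex_subgroupOf (H := H) le_rfl,
      ← relIndex_subgroupOf (H := H) (K := K) (le_sup_right : K ≤ H ⊔ K),
      ← relIndex_sup_left (K.subgroupOf (H ⊔ K)) (H.subgroupOf (H ⊔ K)),
      ← subgroupOf_sup le_sup_left le_sup_right]
  have h2 : Nat.card (H ⊔ K : Subgroup G) = Nat.card H * H.relIndex (H ⊔ K) := by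
    rw [← relIndex_bot_left, ← relIndex_bot_left,
      relIndex_mul_relIndex _ _ _ bot_le le_sup_left]
  have h3 : Nat.card K = Nat.card (H ⊓ K : Subgroup G) * H.relIndex K := by
    rw [← inf_relIndex_right, ← relIndex_bot_left, ← relIndex_bot_left,
      relIndex_mul_relIndex _ _ _ bot_le inf_le_right]
  rw [h2, h3, h1]
  ring

/-- Every element squares to one. -/
def Elem (A : Subgroup G) : Prop := ∀ x ∈ A, x * x = 1

theorem Elem.comm {A : Subgroup G} (h : Elem A) {x y : G} (hx : x ∈ A) (hy : y ∈ A) :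
    Commute x y := by
  have hxi : x⁻¹ = x := inv_eq_of_mul_eq_one_left (h x hx)
  have hyi : y⁻¹ = y := inv_eq_of_mul_eq_one_left (h y hy)
  have h2 : (x * y)⁻¹ = x * y := inv_eq_of_mul_eq_one_left (h _ (mul_mem hx hy))
  show x * y = y * x
  rw [← h2, mul_inv_rev, hxi, hyi]

theorem mem_sup_mul {A B : Subgroup G} (hB : B ≤ normalizer (A : Set G)) {x : G}
    (hx : x ∈ A ⊔ B) : ∃ a ∈ A, ∃ b ∈ B, a * b = x := by
  rw [← SetLike.mem_coe, coe_mul_of_right_le_normalizer_left A B hB] at hx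
  exact hx

theorem le_norm_of_commute {A B : Subgroup G} (hc : ∀ a ∈ A, ∀ b ∈ B, Commute a b) :
    B ≤ normalizer (A : Set G) := fun b hb => le_norm_of_conj fun a ha => by
  rw [← (hc a ha b hb).eq, mul_inv_cancel_right]; exact ha

theorem Elem.sup {A B : Subgroup G} (hA : Elem A) (hB : Elem B)
    (hc : ∀ a ∈ A, ∀ b ∈ B, Commute a b) : Elem (A ⊔ B : Subgroup G) := by
  intro x hx
  obtain ⟨a, ha, b, hb, rfl⟩ := mem_sup_mul (le_norm_of_commute hc) hx
  rw [(hc a ha b hb).symm.mul_mul_mul_comm, hA a ha, hB b hb, one_mul]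

theorem two_group_of_elem {A : Subgroup G} (hA : Elem A) : IsPGroup 2 A := fun ⟨x, hx⟩ =>
  ⟨1, Subtype.ext (by show x ^ 2 ^ 1 = 1; rw [pow_one, sq, hA x hx])⟩

theorem elem_oz (W : Subgroup G) : Elem (oz W) := fun _ hx => hx.2.2

/-- The configuration. -/
structure Cfg (G : Type*) [Group G] where
  M : Subgroup G
  W : Subgroup G
  R : Subgroup G
  S : Sylow 2 G
  z : G
  M_ne_top : M ≠ ⊤
  not2 : ¬ IsPGroup 2 M
  normW : normalizer (W : Set G) = M
  hW2 : IsPGroup 2 W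
  Wmax : ∀ X : Subgroup G, X ≤ M → IsPGroup 2 X → M ≤ normalizer (X : Set G) → X ≤ W
  centW : centralizer (W : Set G) ≤ W
  hRM : R ≤ M
  hR2 : IsPGroup 2 R
  Rmax : ∀ X : Subgroup G, X ≤ M → IsPGroup 2 X → R ≤ X → X = R
  cardR : Nat.card R = 2 ^ (Nat.card M).factorization 2
  hWR : W ≤ R
  hRS : R ≤ S
  hz : orderOf z = 2
  hzW : z ∈ W
  hzS : z ∈ S
  hzc : ∀ x ∈ S, Commute x z
  best : ∀ M' : Subgroup G, Good M' → ∀ X : Subgroup G, X ≤ M' → IsPGroup 2 X →
    Nat.card X ≤ Nat.card R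
  maxc : ∀ M' : Subgroup G, Good M' → M ≤ M' → M' = M

theorem Setup.exists_cfg (h : Setup G) : Nonempty (Cfg G) := by
  classical
  haveI : Fact (Nat.Prime 2) := ⟨Nat.prime_two⟩
  obtain ⟨M0, hM0⟩ := h.exists_good
  let wt : Subgroup G → ℕ := fun M =>
    (Nat.card M).factorization 2 * (Nat.card G + 1) + Nat.card M
  obtain ⟨M, hM, hmax⟩ := Set.exists_max_image {M : Subgroup G | Good M} wt (Set.toFinite _)
    ⟨M0, hM0⟩
  obtain ⟨hnot2, hne, S0, z0, hz01, hz0S, hz0c, W0, hW0M, hW02, hMW0, hz0W⟩ := id hM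
  obtain ⟨W, ⟨hWM, hW2, hMW, hz0W'⟩, hWmax⟩ := Set.exists_max_image
    {X : Subgroup G | X ≤ M ∧ IsPGroup 2 X ∧ M ≤ normalizer (X : Set G) ∧ z0 ∈ X}
    (fun X => Nat.card X) (Set.toFinite _) ⟨W0, hW0M, hW02, hMW0, hz0W⟩
  have Wmax : ∀ X : Subgroup G, X ≤ M → IsPGroup 2 X → M ≤ normalizer (X : Set G) → X ≤ W := by
    intro X hXM hX2 hMX
    have hle := hWmax (W ⊔ X) ⟨sup_le hWM hXM, two_group_sup hW2 hX2 (hXM.trans hMW),
      (le_inf hMW hMX).trans norm_sup, mem_sup_left hz0W'⟩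
    have := eq_of_le_of_card_ge le_sup_left hle
    rw [this]; exact le_sup_right
  have hWne : W ≠ ⊥ := fun e => hz01 (mem_bot.1 (e ▸ hz0W'))
  have hgood : Good (normalizer (W : Set G)) :=
    ⟨fun h2 => hnot2 (h2.to_le hMW), h.norm_ne_top hW2 hWne, S0, z0, hz01, hz0S, hz0c, W,
      le_normalizer, hW2, le_rfl, hz0W'⟩
  have hfle : ∀ M' : Subgroup G, Good M' →
      (Nat.card M').factorization 2 ≤ (Nat.card M).factorization 2 := by
    intro M' hM'
    have h1 : wt M' ≤ wt M := hmax M' hM'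
    simp only [wt] at h1
    have h2 : Nat.card M ≤ Nat.card G := card_le_card_group M
    by_contra hlt
    have : ((Nat.card M).factorization 2 + 1) * (Nat.card G + 1) ≤
        (Nat.card M').factorization 2 * (Nat.card G + 1) := Nat.mul_le_mul_right _ (by omega)
    rw [add_mul, one_mul] at this
    omega
  have maxc : ∀ M' : Subgroup G, Good M' → M ≤ M' → M' = M := by
    intro M' hM' hle
    refine (eq_of_le_of_card_ge hle ?_).symm
    have hf : (Nat.card M).factorization 2 ≤ (Nat.card M').factorization 2 :=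
      (Nat.factorization_le_iff_dvd Nat.card_pos.ne' Nat.card_pos.ne').2 (card_dvd_of_le hle) 2
    have h1 : wt M' ≤ wt M := hmax M' hM'
    simp only [wt] at h1
    rw [le_antisymm (hfle M' hM') hf] at h1
    omega
  have hN : normalizer (W : Set G) = M := maxc _ hgood hMW
  obtain ⟨R0⟩ : Nonempty (Sylow 2 M) := inferInstance
  set R : Subgroup G := (R0 : Subgroup M).map M.subtype with hR
  have hcardR : Nat.card R = 2 ^ (Nat.card M).factorization 2 := by
    rw [hR, ← R0.card_eq_multiplicity]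
    exact (Nat.card_congr ((R0 : Subgroup M).equivMapOfInjective _ M.subtype_injective).toEquiv).symm
  have hle2 : ∀ X M' : Subgroup G, X ≤ M' → IsPGroup 2 X →
      Nat.card X ≤ 2 ^ (Nat.card M').factorization 2 := by
    intro X M' hX hX2
    obtain ⟨k, hk⟩ := IsPGroup.iff_card.1 hX2
    rw [hk]
    refine Nat.pow_le_pow_right (by norm_num) ?_
    exact (Nat.prime_two.pow_dvd_iff_le_factorization Nat.card_pos.ne').1 (hk ▸ card_dvd_of_le hX)
  have hR2 : IsPGroup 2 R := R0.2.map _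
  have hRM : R ≤ M := map_subtype_le _
  have Rmax : ∀ X : Subgroup G, X ≤ M → IsPGroup 2 X → R ≤ X → X = R := by
    intro X hXM hX2 hRX
    exact (eq_of_le_of_card_ge hRX (hcardR ▸ hle2 X M hXM hX2)).symm
  have hWR : W ≤ R := by
    have := Rmax (W ⊔ R) (sup_le hWM hRM) (two_group_sup hW2 hR2 (hRM.trans hMW)) le_sup_right
    exact this ▸ le_sup_left
  have centW : centralizer (W : Set G) ≤ W := by
    have hle : centralizer (W : Set G) ≤ M := (centralizer_le_normalizer _).trans hN.le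
    refine Wmax _ hle (S0.2.to_le ?_) (hMW.trans cent_norm)
    rw [← h.cent_eq S0 hz01 hz0c]
    exact centralizer_le (Set.singleton_subset_iff.2 hz0W')
  obtain ⟨S, hRS⟩ := hR2.exists_le_sylow
  obtain ⟨z, hzS, hz2, hzc⟩ := exists_central_involution S (h.sylow_ne_bot S)
  refine ⟨⟨M, W, R, S, z, hne, hnot2, hN, hW2, Wmax, centW, hRM, hR2, Rmax, hcardR, hWR, hRS,
    hz2, centW (mem_cent.2 fun w hw => (hzc w (hRS (hWR hw))).symm), hzS, hzc, ?_, maxc⟩⟩
  intro M' hM' X hX hX2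
  rw [hcardR]
  exact (hle2 X M' hX hX2).trans (Nat.pow_le_pow_right (by norm_num) (hfle M' hM'))

variable (C : Cfg G)

/-- `Ω₁(Z(W))`. -/
def Cfg.V : Subgroup G := oz C.W

theorem Cfg.z_ne : C.z ≠ 1 := ne_one_of_order_two C.hz

theorem Cfg.z_sq : C.z * C.z = 1 := by
  rw [← sq, ← C.hz, pow_orderOf_eq_one]

theorem Cfg.hWM : C.W ≤ C.M := C.hWR.trans C.hRM

theorem Cfg.hMW : C.M ≤ normalizer (C.W : Set G) := C.normW.ge

theorem Cfg.V_le : C.V ≤ C.W := oz_le _

theorem Cfg.z_mem_V : C.z ∈ C.V :=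
  ⟨C.hzW, fun w hw => (C.hzc w (C.hRS (C.hWR hw))).symm, C.z_sq⟩

theorem Cfg.V_comm {v w : G} (hv : v ∈ C.V) (hw : w ∈ C.W) : Commute v w := hv.2.1 w hw

theorem Cfg.V_ne : C.V ≠ ⊥ := fun e => C.z_ne (mem_bot.1 (e ▸ C.z_mem_V))

theorem Cfg.hMV : C.M ≤ normalizer (C.V : Set G) := C.hMW.trans oz_norm

theorem Cfg.normV (h : Setup G) : normalizer (C.V : Set G) = C.M := by
  haveI : Fact (Nat.Prime 2) := ⟨Nat.prime_two⟩
  exact C.maxc _ ⟨fun h2 => C.not2 (h2.to_le C.hMV),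
    h.norm_ne_top (C.hW2.to_le C.V_le) C.V_ne, C.S, C.z, C.z_ne, C.hzS, C.hzc, C.V,
    le_normalizer, C.hW2.to_le C.V_le, le_rfl, C.z_mem_V⟩ C.hMV

theorem Cfg.centz (h : Setup G) : centralizer ({C.z} : Set G) = C.S := h.cent_eq C.S C.z_ne C.hzc

theorem Cfg.mem_R_of (h : Setup G) {g : G} (hg : g ∈ C.M) (hgS : g ∈ C.S) : g ∈ C.R := by
  have h2 : IsPGroup 2 ((C.S : Subgroup G) ⊓ C.M : Subgroup G) := C.S.2.to_le inf_le_left
  exact C.Rmax _ inf_le_right h2 (le_inf C.hRS C.hRM) ▸ (⟨hgS, hg⟩ : g ∈ (C.S : Subgroup G) ⊓ C.M)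

theorem Cfg.mem_R_of_commute (h : Setup G) {g : G} (hg : g ∈ C.M) (hc : Commute g C.z) :
    g ∈ C.R :=
  C.mem_R_of h hg (by show g ∈ (C.S : Subgroup G); rw [← C.centz h]; exact mem_cent1.2 hc)

theorem Cfg.centV (h : Setup G) : centralizer (C.V : Set G) = C.W := by
  refine le_antisymm (C.Wmax _ ((centralizer_le_normalizer _).trans (C.normV h).le)
    (C.S.2.to_le ?_) (C.hMV.trans cent_norm))
    (fun w hw => mem_cent.2 fun v hv => (C.V_comm hv hw).symm)
  rw [← C.centz h]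
  exact centralizer_le (Set.singleton_subset_iff.2 C.z_mem_V)

theorem Cfg.R_lt_S (h : Setup G) : C.R < C.S := by
  refine lt_of_le_of_ne C.hRS fun e => ?_
  rcases h.eq_or_top C.S (e ▸ C.hRM) with hM | hM
  · exact C.not2 (C.S.2.to_le hM.le)
  · exact C.M_ne_top hM

theorem Cfg.exists_s (h : Setup G) :
    ∃ s ∈ C.S, s ∈ normalizer (C.R : Set G) ∧ s ∉ C.R ∧ s * s ∈ C.R :=
  exists_norm_step C.S.2 (C.R_lt_S h)

theorem Cfg.exists_odd : ∃ (p : ℕ) (y : G), p.Prime ∧ p ≠ 2 ∧ y ∈ C.M ∧ orderOf y = p :=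
  exists_odd_prime_mem C.not2

/-- Pushing up: nothing is invariant under an element of odd order and more than `R`. -/
theorem Cfg.no_push (h : Setup G) {K : Subgroup G} (hK2 : IsPGroup 2 K) (hzK : C.z ∈ K)
    {p : ℕ} {y : G} (hp : p.Prime) (hp2 : p ≠ 2) (hy : orderOf y = p)
    (hyK : y ∈ normalizer (K : Set G)) (hRK : C.R ≤ normalizer (K : Set G))
    {s : G} (hsS : s ∈ C.S) (hsR : s ∉ C.R) (hsK : s ∈ normalizer (K : Set G)) : False := by
  haveI : Fact (Nat.Prime 2) := ⟨Nat.prime_two⟩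
  have hgood : Good (normalizer (K : Set G)) :=
    ⟨not_two_group_of_mem hp hp2 hyK hy,
      h.norm_ne_top hK2 (fun e => C.z_ne (mem_bot.1 (e ▸ hzK))),
      C.S, C.z, C.z_ne, C.hzS, C.hzc, K, le_normalizer, hK2, le_rfl, hzK⟩
  have hle := C.best _ hgood (C.R ⊔ zpowers s) (sup_le hRK (zpowers_le.2 hsK))
    (C.S.2.to_le (sup_le C.hRS (zpowers_le.2 hsS)))
  have := eq_of_le_of_card_ge le_sup_left hle
  exact hsR (this ▸ mem_sup_right (mem_zpowers s))

/-- Some maximal elementary subgroup of `R` offends on `V`. -/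
theorem Cfg.offender (h : Setup G) : ∃ A : Subgroup G, A ≤ C.R ∧ Elem A ∧ ¬ A ≤ C.W ∧
    Nat.card C.V * Nat.card (A ⊓ C.W : Subgroup G) ≤
      Nat.card (A ⊓ C.V : Subgroup G) * Nat.card A := by
  classical
  haveI : Fact (Nat.Prime 2) := ⟨Nat.prime_two⟩
  let E : Set (Subgroup G) := {A | A ≤ C.R ∧ Elem A}
  have hVE : C.V ∈ E := ⟨C.V_le.trans C.hWR, elem_oz _⟩
  obtain ⟨A0, hA0, hA0max⟩ := Set.exists_max_image E (fun A => Nat.card A) (Set.toFinite _) ⟨_, hVE⟩
  let J0 : Set (Subgroup G) := {A | A ∈ E ∧ Nat.card A = Nat.card A0}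
  by_cases hall : ∀ A ∈ J0, A ≤ C.W
  · exfalso
    set J : Subgroup G := sSup J0
    have hJW : J ≤ C.W := sSup_le hall
    have hconj : ∀ g : G, (∀ A ∈ J0, cj g A ≤ C.R) → g ∈ normalizer (J : Set G) := by
      intro g hg
      refine le_norm_of_conj fun x hx => ?_
      have hle : J ≤ cj g⁻¹ J := by
        refine sSup_le fun A hA a ha => mem_cj.2 ?_
        rw [inv_inv]
        refine le_sSup (a := cj g A) (show cj g A ∈ J0 from ⟨⟨hg A hA, ?_⟩, by rw [card_cj, hA.2]⟩)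
          (cj_mem ha)
        intro b hb
        have := hA.1.2 _ (mem_cj.1 hb)
        have e : b * b = g * (g⁻¹ * b * g * (g⁻¹ * b * g)) * g⁻¹ := by group
        rw [e, this]; group
      simpa using mem_cj.1 (hle hx)
    obtain ⟨p, y, hp, hp2, hyM, hy⟩ := C.exists_odd
    obtain ⟨s, hsS, hsN, hsR, -⟩ := C.exists_s h
    have hzA : C.z ∈ A0 := by
      have hzE : A0 ⊔ zpowers C.z ∈ E := by
        refine ⟨sup_le hA0.1 (zpowers_le.2 (C.hWR C.hzW)), hA0.2.sup ?_ ?_⟩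
        · intro x hx
          obtain ⟨m, rfl⟩ := mem_zpowers_iff.1 hx
          rw [← zpow_add, ← two_mul, zpow_mul, zpow_two, C.z_sq, one_zpow]
        · intro a ha b hb
          obtain ⟨m, rfl⟩ := mem_zpowers_iff.1 hb
          exact (C.hzc a (C.hRS (hA0.1 ha))).zpow_right m
      have := eq_of_le_of_card_ge le_sup_left (hA0max _ hzE)
      exact this ▸ mem_sup_right (mem_zpowers _)
    refine C.no_push h (C.hW2.to_le hJW) (le_sSup (show A0 ∈ J0 from ⟨hA0, rfl⟩) hzA) hp hp2 hy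
      (hconj y fun A hA x hx => ?_) (fun g hg => hconj g fun A hA x hx => ?_) hsS hsR
      (hconj s fun A hA x hx => ?_)
    · obtain ⟨a, ha, rfl⟩ := hx
      exact C.hWR (conj_mem_of_norm (C.hMW hyM) (hall A hA ha))
    · obtain ⟨a, ha, rfl⟩ := hx
      exact mul_mem (mul_mem hg (hA.1.1 ha)) (inv_mem hg)
    · obtain ⟨a, ha, rfl⟩ := hx
      exact conj_mem_of_norm hsN (hA.1.1 ha)
  · push Not at hall
    obtain ⟨A, ⟨⟨hAR, hAE⟩, hAcard⟩, hAW⟩ := hall
    refine ⟨A, hAR, hAE, hAW, ?_⟩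
    have hAW' : Elem (A ⊓ C.W : Subgroup G) := fun x hx => hAE x hx.1
    have hc : ∀ a ∈ A ⊓ C.W, ∀ b ∈ C.V, Commute a b := fun a ha b hb => (C.V_comm hb ha.2).symm
    have h1 := card_sup_inf (le_norm_of_commute hc)
    have h2 : Nat.card (A ⊓ C.W ⊔ C.V : Subgroup G) ≤ Nat.card A :=
      hAcard ▸ hA0max _ ⟨sup_le (inf_le_left.trans hAR) (C.V_le.trans C.hWR),
        hAW'.sup (elem_oz _) hc⟩
    have h3 : A ⊓ C.W ⊓ C.V = A ⊓ C.V := by rw [inf_assoc, inf_eq_right.2 C.V_le]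
    rw [h3] at h1
    rw [mul_comm, ← h1, mul_comm]
    exact Nat.mul_le_mul_left _ h2

end Cfsg.Agent.Len8
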