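import Cfsg.Agent.Len8.Push

/-!
# Shared facts when `|C_V(y)| = 2`
-/

set_option autoImplicit false
set_option linter.style.haveILetI false
set_option linter.unusedSectionVars false
set_option linter.unusedVariables false

namespace Cfsg.Agent.Len8

open Subgroup

variable {G : Type*} [Group G] [Finite G]
variable {C : Cfg G} {a y s u : G}

open MulAction in
/-- Transfer of an element with central square, whose conjugates in `H` have a common image. -/
theorem transfer_value {X : Type*} [Group X] [Finite X] (H : Subgroup X) {A : Type*} [CommGroup A]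
    (φ : H →* A) (hodd : Odd H.index) (x : X) (hx2 : x * x ∈ center X) (hx2H : x * x ∈ H)
    (α : A) (hα : α * α = 1) (h2 : φ ⟨x * x, hx2H⟩ = 1)
    (hconj : ∀ (g : X) (hm : g⁻¹ * x * g ∈ H), φ ⟨g⁻¹ * x * g, hm⟩ = α) :
    MonoidHom.transfer φ x = α := by
  classical
  letI := H.fintypeQuotientOfFiniteIndex
  rw [MonoidHom.transfer_eq_prod_quotient_orbitRel_zpowers_quot]
  have key : ∀ q : Quotient (orbitRel (zpowers x) (X ⧸ H)),
      φ ⟨q.out.out⁻¹ * x ^ Function.minimalPeriod (x • ·) q.out * q.out.out,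
        QuotientGroup.out_conj_pow_minimalPeriod_mem H x q.out⟩ =
      α ^ Function.minimalPeriod (x • ·) q.out := by
    intro q
    set g := q.out.out with hg
    have hcc : g⁻¹ * (x * x) * g = x * x := by
      rw [mul_assoc, ← mem_center_iff.1 hx2 g, inv_mul_cancel_left]
    have hper : Function.IsPeriodicPt (x • ·) 2 q.out := by
      show x • x • q.out = q.out
      rw [← QuotientGroup.out_eq' q.out, ← hg, ← mul_smul, MulAction.Quotient.smul_coe, smul_eq_mul,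
        QuotientGroup.eq,
        show (x * x * g)⁻¹ * g = (g⁻¹ * (x * x) * g)⁻¹ by group, hcc]
      exact inv_mem hx2H
    rcases (Nat.dvd_prime Nat.prime_two).1 hper.minimalPeriod_dvd with e | e
    · conv_rhs => rw [e, pow_one]
      have hm : g⁻¹ * x * g ∈ H := by
        have := QuotientGroup.out_conj_pow_minimalPeriod_mem H x q.out
        rwa [e, pow_one] at this
      refine Eq.trans (congrArg φ (Subtype.ext ?_)) (hconj g hm)
      simp [e, hg]
    · conv_rhs => rw [e, sq α, hα, ← h2]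
      refine congrArg φ (Subtype.ext ?_)
      show q.out.out⁻¹ * x ^ Function.minimalPeriod (x • ·) q.out * q.out.out = x * x
      rw [e, sq, ← hg, hcc]
  rw [Finset.prod_congr rfl fun q _ => key q, Finset.prod_pow_eq_pow_sum,
    ← index_eq_sum_minimalPeriod H x]
  obtain ⟨k, hk⟩ := hodd
  rw [hk, pow_add, pow_mul, sq, hα, one_pow, one_mul, pow_one]

theorem Act.y_norm_Z1 (h : Setup G) (A : Act C a y) : y ∉ normalizer (C.Z1 : Set G) := by
  intro hy
  have hm : y * C.z * y⁻¹ ∈ C.Z1 := conj_mem_of_norm hy C.z_mem_Z1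
  have hyz : ¬ Commute y C.z := fun hc => A.not_mem_S (by
    show y ∈ (C.S : Subgroup G)
    rw [← C.centz h]; exact mem_cent1.2 hc)
  have hnU : y * C.z * y⁻¹ ∉ C.U y := by
    intro hh
    have := mem_cent1.1 hh.2
    refine hyz ?_
    have e := congrArg (fun q => y⁻¹ * q * y) this.eq
    show y * C.z = C.z * y
    simpa [mul_assoc] using e.symm
  have hd := mul_mem_of_card_two (A.U_le h) (A.card_Z1_U h) hm C.z_mem_Z1 hnU (A.z_not_U h)
  set v := y * C.z * y⁻¹ * C.z with hv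
  have hvy : Commute v y := mem_cent1.1 hd.2
  have e1 : y * C.z * y⁻¹ = v * C.z := by rw [hv, mul_assoc _ C.z C.z, C.z_sq, mul_one]
  clear_value v
  have hn : ∀ n : ℕ, y ^ n * C.z * (y ^ n)⁻¹ = v ^ n * C.z := by
    intro n
    induction n with
    | zero => simp
    | succ n ih =>
      calc y ^ (n + 1) * C.z * (y ^ (n + 1))⁻¹ = y * (y ^ n * C.z * (y ^ n)⁻¹) * y⁻¹ := by
            rw [pow_succ']; group
        _ = y * v ^ n * (C.z * y⁻¹) := by rw [ih]; group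
        _ = v ^ n * (y * C.z * y⁻¹) := by rw [← (hvy.pow_left n).eq]; group
        _ = v ^ (n + 1) * C.z := by rw [e1, pow_succ, mul_assoc]
  have h3 := hn 3
  rw [A.y3, one_mul, inv_one, mul_one, pow_succ, sq, hd.1.2.2, one_mul] at h3
  refine hyz (mul_inv_eq_iff_eq_mul.1 ?_)
  rw [e1, ← h3]

/-- Every element of `V` is moved into `Z(R)` by a power of `y`. -/
theorem Act.cover (h : Setup G) (A : Act C a y) {w : G} (hw : w ∈ C.V) :
    ∃ n : ℕ, y ^ n * w * (y ^ n)⁻¹ ∈ C.Z1 := by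
  have hsub : ∀ m ∈ C.M, cj m C.Z1 ≤ C.V ∧ C.U y ≤ cj y C.Z1 := fun m hm =>
    ⟨cj_le_of_norm (A.Z1_le h) (C.hMV hm), fun x hx => mem_cj.2 (by
      have hc := mem_cent1.1 hx.2
      rw [mul_assoc, hc.eq, inv_mul_cancel_left]
      exact A.U_le h hx)⟩
  have hy2 : y * y ∈ C.M := mul_mem A.hy A.hy
  have hUyy : C.U y ≤ cj (y * y) C.Z1 := fun x hx => mem_cj.2 (by
    have hc := (mem_cent1.1 hx.2).mul_right (mem_cent1.1 hx.2)
    rw [mul_assoc, hc.eq, inv_mul_cancel_left]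
    exact A.U_le h hx)
  have hinter : ∀ P Q : Subgroup G, C.U y ≤ P → C.U y ≤ Q → Nat.card P = Nat.card C.Z1 →
      Nat.card Q = Nat.card C.Z1 → P ≠ Q → P ⊓ Q ≤ C.U y := by
    intro P Q hP hQ hPc hQc hne x hx
    by_contra hxU
    exact hne ((sup_zpowers_eq hP (hPc.trans (A.card_Z1_U h)) hx.1 hxU).symm.trans
      (sup_zpowers_eq hQ (hQc.trans (A.card_Z1_U h)) hx.2 hxU))
  have hy4 : y * y * (y * y) = y := by
    rw [show y * y * (y * y) = y ^ 3 * y by simp [pow_succ, mul_assoc], A.y3, one_mul]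
  have d1 : cj y C.Z1 ≠ C.Z1 := fun e => A.y_norm_Z1 h (norm_of_cj_eq e)
  have d2 : cj (y * y) C.Z1 ≠ C.Z1 := fun e => A.y_norm_Z1 h (by
    rw [← hy4]; exact mul_mem (norm_of_cj_eq e) (norm_of_cj_eq e))
  have d3 : cj y C.Z1 ≠ cj (y * y) C.Z1 := by
    intro e
    refine d1 ?_
    have := congrArg (cj y⁻¹) e
    rw [cj_cj, cj_cj, inv_mul_cancel, inv_mul_cancel_left, cj_eq_of_norm (one_mem _)] at this
    exact this.symm
  suffices hw' : w ∈ C.Z1 ∨ w ∈ cj y C.Z1 ∨ w ∈ cj (y * y) C.Z1 by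
    rcases hw' with h1 | h1 | h1
    · exact ⟨0, by simpa using h1⟩
    · refine ⟨2, ?_⟩
      have := mem_cj.1 h1
      rwa [show y ^ 2 = y⁻¹ from eq_inv_of_mul_eq_one_left (by rw [← pow_succ, A.y3]), inv_inv]
    · refine ⟨1, ?_⟩
      have := mem_cj.1 h1
      rwa [pow_one, show y = (y * y)⁻¹ from
        eq_inv_of_mul_eq_one_left (by rw [show y * (y * y) = y ^ 3 by simp [pow_succ, mul_assoc], A.y3]),
        inv_inv]
  by_cases h1 : w ∈ C.Z1
  · exact Or.inl h1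
  by_cases h2 : w ∈ cj y C.Z1
  · exact Or.inr (Or.inl h2)
  refine Or.inr (Or.inr ?_)
  have hUy := (hsub y A.hy).2
  obtain ⟨f, hf, hfU⟩ := SetLike.not_le_iff_exists.1 (show ¬ cj (y * y) C.Z1 ≤ C.U y from fun hle => by
    have := card_le_of_le hle
    rw [card_cj, A.card_Z1_U h] at this
    have := Nat.card_pos (α := C.U y)
    omega)
  have hfV := (hsub _ hy2).1 hf
  have f1 : f ∉ C.Z1 := fun hh =>
    hfU (hinter _ _ (A.U_le h) hUyy rfl (card_cj _ _) d2.symm ⟨hh, hf⟩)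
  have f2 : f ∉ cj y C.Z1 := fun hh =>
    hfU (hinter _ _ hUy hUyy (card_cj _ _) (card_cj _ _) d3 ⟨hh, hf⟩)
  have m1 := mul_mem_of_card_two (A.Z1_le h) (A.card_V_Z1 h) hw hfV h1 f1
  have m2 := mul_mem_of_card_two (hsub y A.hy).1 (by rw [card_cj]; exact A.card_V_Z1 h) hw hfV h2 f2
  have hmU := hinter _ _ (A.U_le h) hUy rfl (card_cj _ _) d1.symm ⟨m1, m2⟩
  rw [show w = w * f * f⁻¹ by group]
  exact mul_mem (hUyy hmU) (inv_mem hf)

theorem U_two (hUc : Nat.card (C.U y) = 2) (hu : u ∈ C.U y) (hu1 : u ≠ 1) :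
    ∀ x ∈ C.U y, x = 1 ∨ x = u := by
  intro x hx
  by_cases hx1 : x = 1
  · exact Or.inl hx1
  right
  have := mul_mem_of_card_two bot_le (K := C.U y) (by rw [hUc, card_bot]) hx hu
    (fun hh => hx1 (mem_bot.1 hh)) (fun hh => hu1 (mem_bot.1 hh))
  rw [mem_bot] at this
  rw [eq_inv_of_mul_eq_one_left this, inv_eq_of_mul_eq_one_left hu.1.2.2]

theorem Act.Z1_four (h : Setup G) (A : Act C a y) (hUc : Nat.card (C.U y) = 2) (hu : u ∈ C.U y)
    (hu1 : u ≠ 1) : ∀ x ∈ C.Z1, x = 1 ∨ x = u ∨ x = C.z ∨ x = u * C.z := by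
  intro x hx
  by_cases hxU : x ∈ C.U y
  · exact (U_two hUc hu hu1 x hxU).imp_right Or.inl
  have hm := mul_mem_of_card_two (A.U_le h) (A.card_Z1_U h) hx C.z_mem_Z1 hxU (A.z_not_U h)
  have e : x = x * C.z * C.z := by rw [mul_assoc, C.z_sq, mul_one]
  rcases U_two hUc hu hu1 _ hm with e1 | e1
  · exact Or.inr (Or.inr (Or.inl (by rw [e, e1, one_mul])))
  · exact Or.inr (Or.inr (Or.inr (by rw [e, e1])))

theorem Act.not_conj_u (h : Setup G) (A : Act C a y) (hu : u ∈ C.U y) (g : G) :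
    g * C.z * g⁻¹ ≠ u := by
  intro e
  have hy : y ∈ cj g (centralizer ({C.z} : Set G)) := by
    rw [mem_cj, mem_cent1]
    have := conj_commute (g := g⁻¹) (mem_cent1.1 hu.2).symm
    rwa [← e, inv_inv, show g⁻¹ * (g * C.z * g⁻¹) * g = C.z by group] at this
  rw [C.centz h] at hy
  refine not_two_group_of_mem Nat.prime_three (by norm_num) hy A.hy3 ?_
  exact C.S.2.map _

/-- The conjugates of `z` in `V` form one orbit of `y`. -/
theorem Act.z_class (h : Setup G) (A : Act C a y) (hUc : Nat.card (C.U y) = 2) (hu : u ∈ C.U y)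
    (hu1 : u ≠ 1) (huz : ∃ g : G, g * u * g⁻¹ = u * C.z) {w g : G} (hw : w ∈ C.V)
    (hwz : g * C.z * g⁻¹ = w) : ∃ n : ℕ, w = (y ^ n)⁻¹ * C.z * y ^ n := by
  obtain ⟨n, hn⟩ := A.cover h hw
  refine ⟨n, ?_⟩
  rcases A.Z1_four h hUc hu hu1 _ hn with e | e | e | e
  · exfalso
    rw [conj_eq_one_iff] at e
    exact C.z_ne (conj_eq_one_iff.1 (hwz.trans e))
  · exfalso
    refine A.not_conj_u h hu (y ^ n * g) ?_
    rw [← e, ← hwz]; group
  · rw [← e]; group
  · exfalso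
    obtain ⟨g0, hg0⟩ := huz
    refine A.not_conj_u h hu (g0⁻¹ * (y ^ n * g)) ?_
    calc g0⁻¹ * (y ^ n * g) * C.z * (g0⁻¹ * (y ^ n * g))⁻¹
        = g0⁻¹ * (y ^ n * (g * C.z * g⁻¹) * (y ^ n)⁻¹) * g0 := by group
      _ = g0⁻¹ * (g0 * u * g0⁻¹) * g0 := by rw [hwz, e, hg0]
      _ = u := by group

theorem Step.swap2 (hs : Step C s) {t : G} (ht : t ∈ C.R ⊔ zpowers s) (htR : t ∉ C.R) :
    cj t C.V = cj s C.V ∧ cj t (cj s C.V) = C.V ∧
      cj t C.W = cj s C.W ∧ cj t (cj s C.W) = C.W := by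
  have h1 : t * s ∈ C.R := mul_mem_of_card_two le_sup_left hs.card_ext ht
    (mem_sup_right (mem_zpowers s)) htR hs.hsR
  have hts : t * s⁻¹ ∈ C.R := by
    rw [show t * s⁻¹ = t * s * (s * s)⁻¹ by group]
    exact mul_mem h1 (inv_mem hs.hs2)
  have e : t = t * s⁻¹ * s := by group
  refine ⟨?_, ?_, ?_, ?_⟩
  · rw [e, ← cj_cj, cj_eq_of_norm (hs.R_norm_cjV hts)]
  · rw [cj_cj]; exact cj_eq_of_norm (C.hMV (C.hRM h1))
  · rw [e, ← cj_cj, cj_eq_of_norm (hs.R_norm_cjW hts)]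
  · rw [cj_cj]; exact cj_eq_of_norm (C.hMW (C.hRM h1))

theorem Act.card_Va (h : Setup G) (A : Act C a y) :
    Nat.card (C.Z1 ⊔ zpowers a : Subgroup G) = Nat.card C.V := A.card_Z1_a h

theorem Act.cjV_eq (h : Setup G) (A : Act C a y) (hs : Step C s) (ha : a ∈ cj s C.V) :
    cj s C.V = C.Z1 ⊔ zpowers a :=
  (eq_of_le_of_card_ge (sup_le (hs.Z1_le_cjV h A) (zpowers_le.2 ha))
    (by rw [card_cj, A.card_Va h])).symm

/-- The involutions of `R` lie in `V` or in `V^s`. -/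
theorem Act.invol_mem (h : Setup G) (A : Act C a y)
    (hK : ∀ k ∈ C.W, Commute k y → Commute k a)
    (hVK : C.V ⊔ (C.W ⊓ centralizer ({y} : Set G)) = C.W)
    (hKc : ∀ k ∈ C.W, ∀ k' ∈ C.W, Commute k y → Commute k' y → Commute k k')
    (hsep : ∀ v ∈ C.Z1, ∀ k ∈ C.W, Commute k y → v ≠ 1 → v ∉ C.U y → k * k ≠ v)
    {x : G} (hx : x ∈ C.R) (hx2 : x * x = 1) : x ∈ C.V ∨ x ∈ C.Z1 ⊔ zpowers a := by
  have hdec : ∀ w ∈ C.W, ∃ v ∈ C.V, ∃ k ∈ C.W ⊓ centralizer ({y} : Set G), v * k = w := by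
    intro w hw
    rw [← hVK] at hw
    exact mem_sup_mul (le_norm_of_commute (A := C.V) (B := C.W ⊓ centralizer ({y} : Set G))
      fun v hv k hk => C.V_comm hv hk.1) hw
  have hkV : ∀ k ∈ C.W ⊓ centralizer ({y} : Set G), k * k = 1 → k ∈ C.U y := by
    intro k hk hk2
    refine ⟨⟨hk.1, fun w hw => ?_, hk2⟩, hk.2⟩
    obtain ⟨v, hv, k', hk', rfl⟩ := hdec w hw
    exact (C.V_comm hv hk.1).symm.mul_right
      (hKc k hk.1 k' hk'.1 (mem_cent1.1 hk.2) (mem_cent1.1 hk'.2))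
  by_cases hxW : x ∈ C.W
  · left
    obtain ⟨v, hv, k, hk, rfl⟩ := hdec x hxW
    rw [(C.V_comm hv hk.1).symm.mul_mul_mul_comm, hv.2.2, one_mul] at hx2
    exact mul_mem hv (hkV k hk hx2).1
  · right
    obtain ⟨v, hv, k, hk, hvk⟩ := hdec _ (A.mul_a_mem hx hxW)
    have hxe : x = v * k * a := by rw [hvk, mul_assoc, A.haa, mul_one]
    have hka : Commute k a := hK k hk.1 (mem_cent1.1 hk.2)
    have hv' := A.a_conj_mem_V hv
    have e : v * (a * v * a) * (k * k) = 1 := by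
      calc v * (a * v * a) * (k * k) = v * ((a * v * a) * k) * k := by group
        _ = v * (k * (a * v * a)) * k := by rw [(C.V_comm hv' hk.1).eq]
        _ = v * k * a * v * (a * k) := by group
        _ = x * x := by rw [← hka.eq, hxe]; group
        _ = 1 := hx2
    obtain ⟨v1, hv1Z, hv11, hv1⟩ := A.exists_v1 h
    have hvZ : v ∈ C.Z1 := by
      by_contra hvZ
      rw [hv1 v hv hvZ] at e
      refine hsep v1 hv1Z k hk.1 (mem_cent1.1 hk.2) hv11 (A.v1_not_U h hv1) ?_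
      rw [eq_inv_of_mul_eq_one_right e, inv_eq_of_mul_eq_one_left hv1Z.2.2]
    have hka1 : k * k = 1 := by
      rw [← ((A.mem_Z1 h).1 hvZ).2.eq, mul_assoc v a a, A.haa, mul_one, hv.2.2, one_mul] at e
      exact e
    rw [hxe]
    exact mul_mem (mem_sup_left (mul_mem hvZ (A.U_le h (hkV k hk hka1))))
      (mem_sup_right (mem_zpowers a))

end Cfsg.Agent.Len8
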