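import Cfsg.Agent.Len8.Large
import Cfsg.Agent.CIT.Main
import Cfsg.Agent.S0107
import Cfsg.Agent.S1203
import Cfsg.Agent.S1206
import Cfsg.Agent.S1207
import Cfsg.Agent.Lib.LinearGroup.Card
import Cfsg.Agent.Lib.Involution.Dihedral
import Cfsg.Agent.TwoFusion36.QDFusion2

/-!
# The Sylow `2`-subgroup is dihedral; the identification
-/

set_option autoImplicit false
set_option linter.style.haveILetI false
set_option linter.unusedSectionVars false
set_option linter.unusedVariables false

namespace Cfsg.Agent.Len8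

open Subgroup

variable {G : Type*} [Group G] [Finite G]

theorem zpow_congr_ord {c : G} (hc : orderOf c = 64) {i j : ℤ} (h : (64 : ℤ) ∣ i - j) :
    c ^ i = c ^ j := by
  rw [← mul_inv_eq_one, ← zpow_sub, ← orderOf_dvd_iff_zpow_eq_one, hc]
  exact_mod_cast h

theorem residues (i : ℤ) (h : (64 : ℤ) ∣ i * i - 1) :
    (64 : ℤ) ∣ i - 1 ∨ (64 : ℤ) ∣ i - 31 ∨ (64 : ℤ) ∣ i - 33 ∨ (64 : ℤ) ∣ i - 63 := by
  have key : ∀ j : ZMod 64, j * j - 1 = 0 → j = 1 ∨ j = 31 ∨ j = 33 ∨ j = 63 := by decide +kernel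
  have h' : ((i * i - 1 : ℤ) : ZMod 64) = 0 := (ZMod.intCast_zmod_eq_zero_iff_dvd _ 64).2 h
  push_cast at h'
  have hd : ∀ r : ℤ, (i : ZMod 64) = (r : ZMod 64) → (64 : ℤ) ∣ i - r := fun r hr =>
    (ZMod.intCast_zmod_eq_zero_iff_dvd _ 64).1 (by push_cast; rw [hr, sub_self])
  rcases key (i : ZMod 64) h' with e | e | e | e
  · exact Or.inl (hd 1 (by simpa using e))
  · exact Or.inr (Or.inl (hd 31 (by simpa using e)))
  · exact Or.inr (Or.inr (Or.inl (hd 33 (by simpa using e))))
  · exact Or.inr (Or.inr (Or.inr (hd 63 (by simpa using e))))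

/-- A Sylow `2`-subgroup is dihedral or quasidihedral. -/
theorem Setup.dihedral_or (h : Setup G) : ∃ (S : Sylow 2 G) (c : G), c ∈ S ∧ orderOf c = 64 ∧
    (Nonempty ((S : Subgroup G) ≃* DihedralGroup (2 ^ 6)) ∨
      Cfsg.IsQuasiDihedral (S : Subgroup G)) := by
  haveI : Fact (Nat.Prime 2) := ⟨Nat.prime_two⟩
  obtain ⟨S, V, hVS, hV4, hVe, hVC⟩ := h.exists_four
  set A : Subgroup (S : Subgroup G) := V.subgroupOf S with hA
  have hA4 : Nat.card A = 2 ^ 2 := by
    rw [hA, Nat.card_congr (subgroupOfEquivOfLe hVS).toEquiv, hV4]; norm_num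
  have hAC : centralizer (A : Set (S : Subgroup G)) = A := by
    ext q
    rw [mem_cent, hA, mem_subgroupOf]
    constructor
    · intro hq
      refine hVC.le (mem_cent.2 fun v hv => ?_)
      exact congrArg Subtype.val (hq ⟨v, hVS hv⟩ hv)
    · intro hq v hv
      exact Subtype.ext (hVe.comm hq hv).eq
  have hclass := S0112.result 7 (h.hS S) A hA4 hAC
  obtain ⟨Cy, hCy, hCi⟩ := S0113.result 7 (by norm_num) (h.hS S) hclass
  obtain ⟨c0, hc0⟩ := hCy.exists_generator
  set c : G := c0.1.1 with hc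
  have hcS : c ∈ S := c0.1.2
  set Z : Subgroup G := zpowers c with hZ
  have hCyc : Nat.card Cy = 64 := by
    have e := Cy.card_mul_index
    rw [hCi, h.hS] at e
    omega
  have hord : orderOf c = 64 := by
    rw [hc, orderOf_coe, orderOf_coe, orderOf_eq_card_of_forall_mem_zpowers hc0, hCyc]
  have hZS : Z ≤ S := zpowers_le.2 hcS
  have hZc : Nat.card Z = 64 := by rw [hZ, Nat.card_zpowers, hord]
  have hSZ : Nat.card (S : Subgroup G) = 2 * Nat.card Z := by rw [h.hS, hZc]; norm_num
  have hZn : (S : Subgroup G) ≤ normalizer (Z : Set G) := norm_of_index_two hZS hSZ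
  have hVZ : ¬ V ≤ Z := fun hle => by
    have hcV : c ∈ centralizer (V : Set G) := mem_cent.2 fun v hv => by
      obtain ⟨m, rfl⟩ := mem_zpowers_iff.1 (hle hv)
      exact (Commute.refl c).zpow_right m
    rw [hVC] at hcV
    have h1 : c ^ 2 = 1 := by rw [sq]; exact hVe c hcV
    have := orderOf_dvd_of_pow_eq_one h1
    rw [hord] at this
    norm_num at this
  obtain ⟨τ, hτV, hτZ⟩ := SetLike.not_le_iff_exists.1 hVZ
  have hττ := hVe τ hτV
  have hτi : τ⁻¹ = τ := inv_eq_of_mul_eq_one_left hττ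
  have hτS : τ ∈ S := hVS hτV
  obtain ⟨i, hi⟩ := mem_zpowers_iff.1 (conj_mem_of_norm (hZn hτS) (mem_zpowers c))
  have hi2 : (64 : ℤ) ∣ i * i - 1 := by
    have e : MulAut.conj τ (c ^ i) = c := by
      rw [hi]
      show τ * (τ * c * τ⁻¹) * τ⁻¹ = c
      rw [hτi, show τ * (τ * c * τ) * τ = τ * τ * c * (τ * τ) by group, hττ]; group
    rw [map_zpow, show MulAut.conj τ c = c ^ i from hi.symm, ← zpow_mul] at e
    have e2 : c ^ (i * i - 1) = 1 := by rw [zpow_sub, e, zpow_one, mul_inv_cancel]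
    rw [← orderOf_dvd_iff_zpow_eq_one, hord] at e2
    exact_mod_cast e2
  have hrel : ∀ r : ℤ, (64 : ℤ) ∣ i - r → τ * c * τ⁻¹ = c ^ r := fun r hr => by
    rw [← hi]; exact zpow_congr_ord hord hr
  -- `c ^ 2` commutes with `τ` only if it centralises `V`
  have hno : ¬ Commute (c ^ (2 : ℕ)) τ := by
    intro hcom
    have hsup : Z ⊔ zpowers τ = S := sup_zpowers_eq hZS hSZ hτS hτZ
    have hle : (S : Subgroup G) ≤ centralizer ({c ^ 2} : Set G) := by
      rw [← hsup]
      exact sup_le (zpowers_le.2 (mem_cent1.2 ((Commute.refl c).pow_right 2)))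
        (zpowers_le.2 (mem_cent1.2 hcom.symm))
    have hmem : c ^ 2 ∈ centralizer (V : Set G) :=
      mem_cent.2 fun v hv => (mem_cent1.1 (hle (hVS hv))).symm
    rw [hVC] at hmem
    have h1 : (c ^ 2) ^ 2 = 1 := by rw [sq]; exact hVe _ hmem
    rw [← pow_mul] at h1
    have := orderOf_dvd_of_pow_eq_one h1
    rw [hord] at this
    norm_num at this
  have hc2 : ∀ r : ℤ, τ * c * τ⁻¹ = c ^ r → (64 : ℤ) ∣ r * 2 - 2 → False := by
    intro r hr hd
    refine hno ?_
    have e : τ * c ^ 2 * τ⁻¹ = c ^ 2 := by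
      rw [← conj_pow, hr, ← zpow_natCast (c ^ r), ← zpow_mul, ← zpow_natCast c]
      exact zpow_congr_ord hord (by simpa using hd)
    exact (mul_inv_eq_iff_eq_mul.1 e).symm
  have hτ2 : orderOf τ = 2 := orderOf_eq_prime (by rw [sq, hττ]) fun e => hτZ (e ▸ one_mem _)
  refine ⟨S, c, hcS, hord, ?_⟩
  rcases residues i hi2 with d | d | d | d
  · exact (hc2 1 (hrel 1 d) (by norm_num)).elim
  · right
    refine ⟨6, by norm_num, by rw [h.hS], ⟨c, hcS⟩, ⟨τ, hτS⟩, ?_, ?_, Subtype.ext ?_⟩
    · rw [← orderOf_coe]; exact hord.trans (by norm_num)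
    · rw [← orderOf_coe]; exact hτ2
    · show τ * c * τ⁻¹ = c ^ (2 ^ (6 - 1) - 1)
      rw [hrel 31 d, show (31 : ℤ) = ((31 : ℕ) : ℤ) from rfl, zpow_natCast]
      norm_num
  · exact (hc2 33 (hrel 33 d) (by norm_num)).elim
  · left
    have hinv : τ * c * τ⁻¹ = c⁻¹ := by
      rw [hrel 63 d, ← zpow_neg_one]; exact zpow_congr_ord hord (by norm_num)
    have hττc : τ * c * (τ * c) = 1 := by
      calc τ * c * (τ * c) = τ * c * τ⁻¹ * c := by rw [hτi]; group
        _ = 1 := by rw [hinv, inv_mul_cancel]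
    have hτc1 : τ * c ≠ 1 := fun e => hτZ (by
      rw [eq_inv_of_mul_eq_one_left e]; exact inv_mem (mem_zpowers c))
    obtain ⟨e⟩ := Involution.closure_pair_equiv_dihedral hτ2
      (orderOf_eq_prime (by rw [sq, hττc]) hτc1)
    rw [show τ * (τ * c) = c by rw [← mul_assoc, hττ, one_mul], hord] at e
    have hcl : closure ({τ, τ * c} : Set G) = S := by
      refine le_antisymm ((closure_le _).2 ?_) ?_
      · rintro q (rfl | rfl)
        exacts [hτS, mul_mem hτS hcS]
      · rw [← sup_zpowers_eq hZS hSZ hτS hτZ]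
        refine sup_le (zpowers_le.2 ?_) (zpowers_le.2 (subset_closure (Or.inl rfl)))
        have := mul_mem (subset_closure (Or.inl rfl) : τ ∈ closure ({τ, τ * c} : Set G))
          (subset_closure (Or.inr rfl) : τ * c ∈ closure ({τ, τ * c} : Set G))
        rwa [← mul_assoc, hττ, one_mul] at this
    exact ⟨(MulEquiv.subgroupCongr hcl.symm).trans (e.trans (MulEquiv.refl _))⟩

theorem Setup.not_quasi (h : Setup G) (S : Sylow 2 G) :
    ¬ Cfsg.IsQuasiDihedral (S : Subgroup G) := by
  intro hQD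
  haveI : Fact (Nat.Prime 2) := ⟨Nat.prime_two⟩
  haveI := h.simple
  obtain ⟨e, x, y, W⟩ := TwoFusion36.exists_qdSylow S hQD
  obtain ⟨eQ⟩ := W.qd.quat_equiv 0
  have hT : IsKleinFour (W.qd.four 0) := by
    obtain ⟨f⟩ := W.qd.four_equiv 0
    refine ⟨W.qd.card_four 0, ?_⟩
    rw [Monoid.exponent_eq_of_mulEquiv f]
    exact IsKleinFour.exponent_two
  have hTS := W.qd.four_le 0
  have hQS := W.qd.quat_le 0
  obtain ⟨d1, d2⟩ := S1203.result S hQD _ hT hTS _ hQS eQ
  set z : G := x ^ (4 * e : ℤ) with hz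
  have hzc : ∀ v ∈ (S : Subgroup G), Commute v z := fun v hv => (W.qd.c_comm hv).symm
  have hNQ : normalizer ((W.qd.quat 0 : Subgroup G) : Set G) ≤ S := by
    intro g hg
    refine (h.cent_eq S W.qd.c_ne_one hzc).le (mem_cent1.2 ?_)
    have hzQ : z ∈ W.qd.quat 0 := by
      rw [TwoFusion36.IsQD.mem_quat W.qd]
      exact ⟨2, Or.inl (by rw [hz]; congr 1; ring)⟩
    have hm := conj_mem_of_norm hg hzQ
    have hgz : g * z * g⁻¹ * (g * z * g⁻¹) = 1 := by
      rw [show g * z * g⁻¹ * (g * z * g⁻¹) = g * (z * z) * g⁻¹ by group, W.qd.c_sq]; group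
    obtain ⟨m, hm' | hm'⟩ := (TwoFusion36.IsQD.mem_quat W.qd).1 hm
    · rw [hm', ← zpow_add, W.qd.zpow_eq_one] at hgz
      obtain ⟨l, hl⟩ := hgz
      rcases Int.even_or_odd' l with ⟨j, rfl | rfl⟩
      · exfalso
        have : x ^ (2 * e * m : ℤ) = 1 := by rw [W.qd.zpow_eq_one]; exact ⟨j, by linarith⟩
        rw [this] at hm'
        exact W.qd.c_ne_one (conj_eq_one_iff.1 hm')
      · refine mul_inv_eq_iff_eq_mul.1 ?_
        rw [hm']
        exact W.qd.zpow_eq_of j (by linarith)
    · exfalso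
      rw [hm', show (2 * 0 + 1 + 2 * (e : ℤ) * m) = 2 * (e * m) + 1 by ring] at hgz
      rw [W.qd.b_sq_odd] at hgz
      exact W.qd.c_ne_one hgz
  have h2 : (W.qd.quat 0 ⊔ centralizer ((W.qd.quat 0 : Subgroup G) : Set G)).relIndex
      (normalizer ((W.qd.quat 0 : Subgroup G) : Set G)) = 2 := by
    refine d2.resolve_right fun h6 => ?_
    have hd : 6 ∣ Nat.card (normalizer ((W.qd.quat 0 : Subgroup G) : Set G) : Subgroup G) :=
      h6 ▸ relIndex_dvd_card _ _
    have h3 : 3 ∣ 2 ^ 7 := h.hS S ▸ ((show 3 ∣ 6 by norm_num).trans hd).trans (card_dvd_of_le hNQ)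
    norm_num at h3
  rcases d1 with h1 | h1
  · obtain ⟨⟨P, N, hN, hPN⟩, -, -⟩ := S1207.result S hQD _ hT hTS _ hQS eQ h1 h2
    rcases hN.eq_bot_or_eq_top with hb | ht
    · rw [hb] at hPN
      have htop : (P : Subgroup G) = ⊤ := isComplement'_bot_left.1 hPN
      exact h.ne_top P.2 htop
    · rw [ht] at hPN
      exact h.sylow_ne_bot P (isComplement'_top_left.1 hPN)
  · obtain ⟨⟨K, hK, hKi, -, -⟩, -, -⟩ := S1206.result S hQD _ hT hTS _ hQS eQ h1 h2
    rcases hK.eq_bot_or_eq_top with hb | ht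
    · rw [hb, index_bot] at hKi
      have hdvd := card_subgroup_dvd_card (S : Subgroup G)
      rw [h.hS, hKi] at hdvd
      norm_num at hdvd
    · rw [ht, index_top] at hKi
      norm_num at hKi

theorem Setup.cit (h : Setup G) : ∃ (S : Sylow 2 G) (c : G), c ∈ S ∧ orderOf c = 64 ∧
    ∀ t : G, orderOf t = 2 → IsPGroup 2 (centralizer ({t} : Set G)) := by
  haveI : Fact (Nat.Prime 2) := ⟨Nat.prime_two⟩
  haveI := h.simple
  obtain ⟨S, c, hcS, hc, hD | hQ⟩ := h.dihedral_or
  · refine ⟨S, c, hcS, hc, fun t ht => ?_⟩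
    have hres : Cfsg.pResidual 2 G = ⊤ := by
      have hn : (Cfsg.pResidual 2 G).Normal := ⟨fun q hq g => by
        have hle : Cfsg.pResidual 2 G ≤ cj g⁻¹ (Cfsg.pResidual 2 G) := by
          refine (closure_le _).2 fun r (hr : Nat.Coprime (orderOf r) 2) => mem_cj.2 ?_
          rw [inv_inv]
          refine subset_closure ?_
          show Nat.Coprime (orderOf (g * r * g⁻¹)) 2
          rw [show g * r * g⁻¹ = MulAut.conj g r from rfl, MulEquiv.orderOf_eq]
          exact hr
        simpa using mem_cj.1 (hle hq)⟩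
      refine hn.eq_bot_or_eq_top.resolve_left fun hb => ?_
      have hnot : ¬ IsPGroup 2 (⊤ : Subgroup G) := fun h2 => h.ne_top h2 rfl
      obtain ⟨p, w, hp, hp2, -, hw⟩ := exists_odd_prime_mem hnot
      have hmem : w ∈ Cfsg.pResidual 2 G := subset_closure (by
        show Nat.Coprime (orderOf w) 2
        rw [hw]; exact (Nat.coprime_primes hp Nat.prime_two).2 hp2)
      rw [hb, mem_bot] at hmem
      rw [hmem, orderOf_one] at hw
      exact hp.ne_one hw.symm
    obtain ⟨z, hzS, hz, hzc⟩ := exists_central_involution S (h.sylow_ne_bot S)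
    obtain ⟨g, hg⟩ := S0107.result S 6 (by norm_num) hD hres z t hz ht
    refine (S.2.map (MulAut.conj g).toMonoidHom).to_le fun q hq => ?_
    show q ∈ cj g (S : Subgroup G)
    rw [mem_cj, ← h.cent_eq S (ne_one_of_order_two hz) hzc, mem_cent1]
    have := conj_commute (g := g⁻¹) (mem_cent1.1 hq)
    rwa [← hg, inv_inv, show g⁻¹ * (g * z * g⁻¹) * g = z by group] at this
  · exact absurd hQ (h.not_quasi S)

theorem sq_eq_one_of_char_two {F : Type*} [Field F] [CharP F 2]
    (g : Matrix.SpecialLinearGroup (Fin 2) F) {k : ℕ} (hk : g ^ 2 ^ k = 1) : g * g = 1 := by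
  have h2 : (2 : F) = 0 := by exact_mod_cast CharP.cast_eq_zero F 2
  have htr : ∀ M : Matrix (Fin 2) (Fin 2) F, (M * M).trace = M.trace ^ 2 := by
    intro M
    simp only [Matrix.trace_fin_two, Matrix.mul_apply, Fin.sum_univ_two]
    linear_combination (M 0 1 * M 1 0 - M 0 0 * M 1 1) * h2
  have hall : ∀ (j : ℕ), ((g : Matrix (Fin 2) (Fin 2) F) ^ 2 ^ j).trace =
      (g : Matrix (Fin 2) (Fin 2) F).trace ^ 2 ^ j := by
    intro j
    induction j with
    | zero => simp
    | succ j ih => rw [pow_succ, pow_mul, sq, htr, ih, ← pow_mul]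
  have ht : (g : Matrix (Fin 2) (Fin 2) F).trace = 0 := by
    have e := hall k
    rw [← Matrix.SpecialLinearGroup.coe_pow, hk, Matrix.SpecialLinearGroup.coe_one,
      Matrix.trace_one, Fintype.card_fin] at e
    refine pow_eq_zero_iff (by positivity) |>.1 (e.symm.trans ?_)
    exact_mod_cast h2
  have hd : (g : Matrix (Fin 2) (Fin 2) F).det = 1 := g.2
  rw [Matrix.trace_fin_two] at ht
  rw [Matrix.det_fin_two] at hd
  apply Matrix.SpecialLinearGroup.ext
  intro p q
  rw [Matrix.SpecialLinearGroup.coe_mul, Matrix.SpecialLinearGroup.coe_one, Matrix.mul_apply,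
    Fin.sum_univ_two]
  fin_cases p <;> fin_cases q <;> simp
  · linear_combination (g : Matrix (Fin 2) (Fin 2) F) 0 0 * ht - hd - h2
  · linear_combination (g : Matrix (Fin 2) (Fin 2) F) 0 1 * ht
  · linear_combination (g : Matrix (Fin 2) (Fin 2) F) 1 0 * ht
  · linear_combination (g : Matrix (Fin 2) (Fin 2) F) 1 1 * ht - hd - h2

theorem fact_two_le {n k : ℕ} (hn : n ≠ 0) (h : ¬ 2 ^ (k + 1) ∣ n) : n.factorization 2 ≤ k := by
  by_contra hlt
  exact h ((Nat.prime_two.pow_dvd_iff_le_factorization hn).2 (by omega))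

theorem Setup.two_part (h : Setup G) : (Nat.card G).factorization 2 = 7 := by
  haveI : Fact (Nat.Prime 2) := ⟨Nat.prime_two⟩
  obtain ⟨S⟩ : Nonempty (Sylow 2 G) := inferInstance
  have e := S.card_eq_multiplicity
  rw [h.hS] at e
  exact (Nat.pow_right_injective (le_refl 2) e).symm

/-- The conclusion. -/
theorem Setup.main (h : Setup G) : ∃ (F : Type) (_ : Field F) (_ : Fintype F),
    Fintype.card F = 127 ∧ Nonempty (G ≃* Matrix.ProjectiveSpecialLinearGroup (Fin 2) F) := by
  haveI : Fact (Nat.Prime 2) := ⟨Nat.prime_two⟩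
  haveI := h.simple
  obtain ⟨S, c, hcS, hc, hcit⟩ := h.cit
  have hf := h.two_part
  rcases CIT.classify h.nonab hcit with ⟨F, iF, iT, hq, ⟨φ⟩⟩ | ⟨F, iF, iT, hq, ⟨φ⟩⟩ | ⟨-, -, m, hm, hcard⟩
  · refine ⟨F, iF, iT, ?_, ⟨φ⟩⟩
    have hPSL := LinearGroup.gcd_mul_card_PSL_two (F := F)
    rw [← Nat.card_congr φ.toEquiv, Nat.card_eq_fintype_card (α := F)] at hPSL
    rcases hq with hq | ⟨n, hq⟩ | ⟨hp, k, hk⟩
    · exfalso
      rw [hq] at hPSL
      norm_num at hPSL
      have : Nat.card G = 360 := by omega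
      rw [this] at hf
      have := fact_two_le (n := 360) (k := 3) (by norm_num) (by norm_num)
      omega
    · exfalso
      have hn : n ≠ 0 := by
        rintro rfl
        have := Fintype.one_lt_card (α := F)
        rw [hq, pow_zero] at this
        omega
      haveI : CharP F 2 := by
        have h2 : ringChar F = 2 := FiniteField.even_card_iff_char_two.mpr (by
          rw [hq, Nat.pow_mod]; simp [hn])
        exact h2 ▸ ringChar.charP F
      obtain ⟨g, hg⟩ := QuotientGroup.mk'_surjective _ (φ c)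
      have hg64 : (QuotientGroup.mk' (center (Matrix.SpecialLinearGroup (Fin 2) F))) (g ^ 2 ^ 6) = 1 := by
        rw [map_pow, hg, ← map_pow, show c ^ 2 ^ 6 = 1 by
          rw [← show orderOf c = 2 ^ 6 from hc.trans (by norm_num), pow_orderOf_eq_one], map_one]
      have hmem : g ^ 2 ^ 6 ∈ center (Matrix.SpecialLinearGroup (Fin 2) F) :=
        (QuotientGroup.eq_one_iff _).1 hg64
      obtain ⟨r, hr, hrg⟩ := Matrix.SpecialLinearGroup.mem_center_iff.1 hmem
      have hr1 : r = 1 := by
        rw [Fintype.card_fin] at hr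
        have : (r - 1) ^ 2 = 0 := by
          have h2 : (2 : F) = 0 := by exact_mod_cast CharP.cast_eq_zero F 2
          linear_combination hr - (r - 1) * h2
        exact sub_eq_zero.1 (eq_zero_of_pow_eq_zero this)
      have hgk : g ^ 2 ^ 6 = 1 := by
        refine Subtype.ext ?_
        rw [hr1, map_one] at hrg
        exact hrg.symm
      have hgg := sq_eq_one_of_char_two g hgk
      have hcc : φ (c * c) = 1 := by rw [map_mul, ← hg, ← map_mul, hgg, map_one]
      rw [φ.map_eq_one_iff, ← sq] at hcc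
      have := orderOf_dvd_of_pow_eq_one hcc
      rw [hc] at this
      norm_num at this
    · have hodd : Odd (Fintype.card F) := by
        refine hp.eq_two_or_odd'.resolve_left fun e2 => ?_
        rw [e2] at hPSL
        norm_num at hPSL
        rw [hPSL] at hf
        have := fact_two_le (n := 6) (k := 1) (by norm_num) (by norm_num)
        omega
      set q := Fintype.card F with hqdef
      obtain ⟨l, hl⟩ := hodd
      have hg2 : Nat.gcd 2 (q - 1) = 2 := Nat.gcd_eq_left ⟨l, by omega⟩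
      rw [hg2] at hPSL
      have hk1 : 2 ≤ k := by
        by_contra hk2
        have : q ≤ 3 := by
          interval_cases k <;> omega
        have hq3 : q = 3 := by have := hp.two_le; omega
        rw [hq3] at hPSL
        norm_num at hPSL
        have : Nat.card G = 12 := by omega
        rw [this] at hf
        have := fact_two_le (n := 12) (k := 2) (by norm_num) (by norm_num)
        omega
      obtain ⟨k', rfl⟩ : ∃ k', k = k' + 1 := ⟨k - 1, by omega⟩
      set P := 2 ^ k' with hP
      have hPk : 2 ^ (k' + 1) = 2 * P := by rw [pow_succ]; ring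
      rw [hPk] at hk
      have heven : Even P := by
        rw [hP, Nat.even_pow]; exact ⟨even_two, by omega⟩
      obtain ⟨j, hj⟩ := heven
      have hne : ∀ o, Odd o → Nat.card G = 2 * P * o → k' = 6 := by
        intro o ho e
        have ho2 : o.factorization 2 = 0 := Nat.factorization_eq_zero_of_not_dvd fun hd =>
          Nat.not_even_iff_odd.2 ho (even_iff_two_dvd.2 hd)
        have ho0 : o ≠ 0 := by rintro rfl; exact absurd ho (by simp)
        rw [e, ← hPk, Nat.factorization_mul (by positivity) ho0, Finsupp.add_apply,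
          Nat.prime_two.factorization_pow, Finsupp.single_eq_same, ho2] at hf
        omega
      rcases hk with hk | hk
      · -- `q = 2^k + 1`
        have hk6 : k' = 6 := by
          refine hne (q * (P + 1)) ?_ ?_
          · exact Odd.mul (⟨l, hl⟩ : Odd q) ⟨j, by omega⟩
          · have e1 : q ^ 2 - 1 = 4 * P * (P + 1) := by
              rw [hk, show (2 * P + 1) ^ 2 = 4 * P * (P + 1) + 1 by ring]; omega
            rw [e1] at hPSL
            have : 2 * Nat.card G = 2 * (2 * P * (q * (P + 1))) := by rw [hPSL]; ring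
            omega
        subst hk6
        exfalso
        rw [hP] at hk
        norm_num at hk
        rw [hk] at hp
        norm_num at hp
      · have hk6 : k' = 6 := by
          obtain ⟨j', rfl⟩ : ∃ j', j = j' + 1 := ⟨j - 1, by
            have : 0 < P := hP ▸ pow_pos (by norm_num) _
            omega⟩
          refine hne (q * (P - 1)) ?_ ?_
          · exact Odd.mul (⟨l, hl⟩ : Odd q) ⟨j', by omega⟩
          · have e1 : q ^ 2 - 1 = 4 * P * (P - 1) := by
              obtain ⟨P', hP'⟩ : ∃ P', P = P' + 1 := ⟨P - 1, by omega⟩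
              have hq' : q = 2 * P' + 1 := by omega
              rw [hq', hP', Nat.add_sub_cancel,
                show (2 * P' + 1) ^ 2 = 4 * (P' + 1) * P' + 1 by ring]
              omega
            rw [e1] at hPSL
            have : 2 * Nat.card G = 2 * (2 * P * (q * (P - 1))) := by rw [hPSL]; ring
            omega
        subst hk6
        rw [hP] at hk
        norm_num at hk
        omega
  · exfalso
    have hP := LinearGroup.gcd_mul_card_PSL (F := F) (n := Fin 3)
    rw [← Nat.card_congr φ.toEquiv, Fintype.card_fin, Nat.card_eq_fintype_card (α := F), hq] at hP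
    have hSL := LinearGroup.card_SL_mul (F := F) (m := 3) (by omega)
    rw [Fin.prod_univ_three, Nat.card_eq_fintype_card (α := F), hq] at hSL
    norm_num at hP hSL
    have : Nat.card G = 20160 := by omega
    rw [this] at hf
    have := fact_two_le (n := 20160) (k := 6) (by norm_num) (by norm_num)
    omega
  · exfalso
    set Q := 2 ^ (2 * m + 1) with hQ
    have ho : Odd ((Q ^ 2 + 1) * (Q - 1)) := by
      have hQe : Even Q := by rw [hQ, Nat.even_pow]; exact ⟨even_two, by omega⟩
      have hQ1 : 1 ≤ Q := Nat.one_le_two_pow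
      refine Odd.mul ?_ ?_
      · exact (hQe.pow_of_ne_zero (by norm_num)).add_one
      · exact Nat.Even.sub_odd hQ1 hQe odd_one
    have ho0 : (Q ^ 2 + 1) * (Q - 1) ≠ 0 := fun e => by rw [e] at ho; exact absurd ho (by simp)
    have hQf : (Q ^ 2).factorization 2 = (2 * m + 1) * 2 := by
      rw [hQ, ← pow_mul, Nat.prime_two.factorization_pow, Finsupp.single_eq_same]
    rw [hcard, mul_assoc, Nat.factorization_mul (pow_ne_zero _ (by positivity)) ho0,
      Finsupp.add_apply, hQf, Nat.factorization_eq_zero_of_not_dvd (fun hd =>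
        Nat.not_even_iff_odd.2 ho (even_iff_two_dvd.2 hd))] at hf
    omega

end Cfsg.Agent.Len8
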