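import Cfsg.Agent.Len8.Common

/-!
# The case `|W| = 16`, `|V| = 8`
-/

set_option autoImplicit false
set_option linter.style.haveILetI false
set_option linter.unusedSectionVars false
set_option linter.unusedVariables false

namespace Cfsg.Agent.Len8

open Subgroup

variable {G : Type*} [Group G] [Finite G]
variable {C : Cfg G} {a y s u : G}

open Classical in
/-- The homomorphism onto `±1` with kernel a subgroup of index two. -/
noncomputable def signHom {X : Type*} [Group X] (H : Subgroup X) (hi : H.index = 2) : X →* ℤˣ where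
  toFun x := if x ∈ H then 1 else -1
  map_one' := if_pos (one_mem H)
  map_mul' x x' := by
    by_cases h1 : x ∈ H <;> by_cases h2 : x' ∈ H <;>
      simp [mul_mem_iff_of_index_two hi, h1, h2]

theorem signHom_of_mem {X : Type*} [Group X] {H : Subgroup X} (hi : H.index = 2) {x : X}
    (hx : x ∈ H) : signHom H hi x = 1 := by simp [signHom, hx]

theorem signHom_of_not_mem {X : Type*} [Group X] {H : Subgroup X} (hi : H.index = 2) {x : X}
    (hx : x ∉ H) : signHom H hi x = -1 := by simp [signHom, hx]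

set_option maxHeartbeats 1600000 in
theorem five (h : Setup G) (A : Act C a y) (hs : Step C s) (ha : a ∈ cj s C.V)
    (hK : ∀ k ∈ C.W, Commute k y → Commute k a ∧ k ∈ cj s C.W)
    (hVK : C.V ⊔ (C.W ⊓ centralizer ({y} : Set G)) = C.W) (hU2 : Nat.card (C.U y) ≤ 2)
    (hWV : C.W ≠ C.V) : False := by
  classical
  haveI : Fact (Nat.Prime 2) := ⟨Nat.prime_two⟩
  obtain ⟨u, hu, hu1, hsu⟩ := A.squares h hs ha hK hVK hWV
  have hUc : Nat.card (C.U y) = 2 := by
    refine le_antisymm hU2 ((Finite.one_lt_card_iff_nontrivial).2 ?_)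
    exact (nontrivial_iff_exists_ne_one _).2 ⟨u, hu, hu1⟩
  have hVc : Nat.card C.V = 8 := by
    have h4 : Nat.card C.V = 4 * Nat.card (C.U y) := A.hU
    rw [h4, hUc]
  obtain ⟨w, d, hw, hd, hdw, hw5⟩ := C.card_W_pos h A
  have hd3 : d = 3 := by
    rw [hd, show (8 : ℕ) = 2 ^ 3 by norm_num] at hVc
    exact Nat.pow_right_injective (le_refl 2) hVc
  subst hd3
  have hw3 : w ≠ 3 := fun e => hWV (eq_of_le_of_card_ge C.V_le (by rw [hw, hd, e])).symm
  rcases (by omega : w = 5 ∨ w = 4) with rfl | rfl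
  · exact A.fixed_six h hs (by rw [A.hcard, hw]; norm_num) hu hu1 hsu
  have hW16 : Nat.card C.W = 16 := by rw [hw]; norm_num
  have hR32 : Nat.card C.R = 32 := by rw [A.hcard, hW16]
  -- the part centralising `y`
  set K : Subgroup G := C.W ⊓ centralizer ({y} : Set G) with hKdef
  have hVcomm : ∀ v ∈ C.V, ∀ k ∈ K, Commute v k := fun v hv k hk => C.V_comm hv hk.1
  have hKc4 : Nat.card K = 4 := by
    have e := card_sup_inf (le_norm_of_commute hVcomm)
    have hi : C.V ⊓ K = C.U y := by rw [hKdef, ← inf_assoc, inf_eq_left.2 C.V_le]; rfl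
    rw [hi, hVK, hW16, hUc, hVc] at e
    omega
  have hKab : ∀ k ∈ C.W, ∀ k' ∈ C.W, Commute k y → Commute k' y → Commute k k' := by
    haveI : IsMulCommutative K := IsPGroup.isMulCommutative_of_card_eq_prime_sq (p := 2)
      (by rw [hKc4]; norm_num)
    intro k hk k' hk' hky hk'y
    exact congrArg Subtype.val (mul_comm' (⟨k, hk, mem_cent1.2 hky⟩ : K) ⟨k', hk', mem_cent1.2 hk'y⟩)
  have hdec : ∀ x ∈ C.W, ∃ v ∈ C.V, ∃ k ∈ K, v * k = x := by
    intro x hx
    rw [← hVK] at hx
    exact mem_sup_mul (le_norm_of_commute hVcomm) hx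
  have hsqK : ∀ k ∈ K, k * k ∈ C.U y := by
    intro k hk
    have hk4 : k * k * (k * k) = 1 := by
      have h4 : (⟨k, hk⟩ : K) ^ 4 = 1 := hKc4 ▸ pow_card_eq_one'
      have := congrArg Subtype.val h4
      rw [show k * k * (k * k) = k ^ 4 by simp [pow_succ, mul_assoc]]
      exact this
    refine ⟨⟨mul_mem hk.1 hk.1, fun x hx => ?_, hk4⟩, mul_mem hk.2 hk.2⟩
    obtain ⟨v, hv, k', hk', rfl⟩ := hdec x hx
    have hkk := hKab k hk.1 k' hk'.1 (mem_cent1.1 hk.2) (mem_cent1.1 hk'.2)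
    exact ((C.V_comm hv (mul_mem hk.1 hk.1)).symm).mul_right (hkk.mul_left hkk)
  obtain ⟨k, hkK, hksq⟩ : ∃ k ∈ K, k * k = u := by
    by_contra hcon
    push Not at hcon
    refine hWV (le_antisymm ?_ C.V_le)
    have hall : ∀ x ∈ C.W, x * x = 1 := by
      intro x hx
      obtain ⟨v, hv, k, hk, rfl⟩ := hdec x hx
      rw [(hVcomm v hv k hk).symm.mul_mul_mul_comm, hv.2.2, one_mul]
      exact (U_two hUc hu hu1 _ (hsqK k hk)).resolve_right (hcon k hk)
    exact fun x hx => ⟨hx, fun x' hx' => Elem.comm hall hx hx', hall x hx⟩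
  have hUK : C.U y ≤ K := fun x hx => ⟨C.V_le hx.1, hx.2⟩
  have hku : k ∉ C.U y := fun hh => hu1 (hksq ▸ hh.1.2.2)
  -- `T` and the outer element
  set T : Subgroup G := C.R ⊔ zpowers s with hT
  have hTc : Nat.card T = 64 := by rw [hs.card_ext, hR32]
  have hRT : C.R ≤ T := le_sup_left
  have hTu : T ≤ centralizer ({u} : Set G) :=
    sup_le (fun r hr => mem_cent1.2 (mem_cent.1 (C.R_le_centZ1 hr) u (A.U_le h hu)))
      (zpowers_le.2 (mem_cent1.2 hsu))
  have hZ4 := A.Z1_four h hUc hu hu1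
  have hTZ : ∀ t ∈ T, ∀ x ∈ C.Z1, Commute t x := by
    intro t ht x hx
    have h1 : Commute t u := mem_cent1.1 (hTu ht)
    have h2 : Commute t C.z := C.hzc t (hs.ext_le ht)
    rcases hZ4 x hx with rfl | rfl | rfl | rfl
    exacts [Commute.one_right t, h1, h2, h1.mul_right h2]
  have hTS : T < C.S := lt_of_le_of_ne hs.ext_le (fun e => by
    have := h.hS C.S; rw [← e, hTc] at this; norm_num at this)
  obtain ⟨g, hgS, hgT, hgnT, hg2⟩ := exists_norm_step C.S.2 hTS
  have hST : T ⊔ zpowers g = C.S := eq_of_le_of_card_ge (sup_le hTS.le (zpowers_le.2 hgS)) (by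
    rw [h.hS, card_sup_zpowers hgT hgnT hg2, hTc]; norm_num)
  have hVW : C.V ≤ C.W := C.V_le
  have hVT : C.V ≤ T := (hVW.trans C.hWR).trans hRT
  have hozT : oz T = C.Z1 := by
    ext x
    constructor
    · rintro ⟨hxT, hxc, hx2⟩
      have hxW : x ∈ C.W := (C.centV h).le (mem_cent.2 fun v hv => hxc v (hVT hv))
      exact ⟨C.hWR hxW, fun r hr => hxc r (hRT hr), hx2⟩
    · intro hx
      exact ⟨hRT hx.1, fun r hr => (hTZ r hr x hx).symm, hx.2.2⟩
  have hgZ : g ∈ normalizer (C.Z1 : Set G) := hozT ▸ oz_norm hgT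
  have hgz : g * C.z * g⁻¹ = C.z := by rw [(C.hzc g hgS).eq, mul_inv_cancel_right]
  have hgu : g * u * g⁻¹ = u * C.z := by
    rcases hZ4 _ (conj_mem_of_norm hgZ (A.U_le h hu)) with e | e | e | e
    · exact absurd (conj_eq_one_iff.1 e) hu1
    · exact (A.central_false h hu hu1
        (hST ▸ sup_le hTu (zpowers_le.2 (mem_cent1.2 (mul_inv_eq_iff_eq_mul.1 e))))).elim
    · exfalso
      have : u = C.z := mul_left_cancel (mul_right_cancel (e.trans hgz.symm))
      exact A.z_not_U h (this ▸ hu)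
    · exact e
  have huz : ∃ g : G, g * u * g⁻¹ = u * C.z := ⟨g, hgu⟩
  obtain ⟨v1, hv1Z, hv11, hv1⟩ := A.exists_v1 h
  have hv1U := A.v1_not_U h hv1
  have hsep : ∀ v ∈ C.Z1, ∀ k ∈ C.W, Commute k y → v ≠ 1 → v ∉ C.U y → k * k ≠ v :=
    fun v _ k hk hky _ hvU e => hvU (e ▸ hsqK k ⟨hk, mem_cent1.2 hky⟩)
  have hV2 := A.cjV_eq h hs ha
  have hinv : ∀ x ∈ C.R, x * x = 1 → x ∈ C.V ∨ x ∈ cj s C.V := fun x hx hx2 => by
    rw [hV2]
    exact A.invol_mem h (fun k hk hc => (hK k hk hc).1) hVK hKab hsep hx hx2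
  -- the conjugate `V^g`
  set Vg : Subgroup G := cj g C.V with hVg
  have hVgT : Vg ≤ T := cj_le_of_norm hVT hgT
  have hVgE : Elem Vg := cj_elem C.elem_V g
  have hZVg : C.Z1 ≤ Vg := by
    intro x hx
    refine mem_cj.2 (A.Z1_le h ?_)
    have := conj_mem_of_norm (inv_mem hgZ) hx
    rwa [inv_inv] at this
  have hVgR : ¬ Vg ≤ C.R := by
    intro hle
    have hmem : ∀ x ∈ Vg, x ∈ C.V ∨ x ∈ cj s C.V := fun x hx => hinv x (hle hx) (hVgE x hx)
    by_cases hv : Vg ≤ C.V
    · have e := eq_of_le_of_card_ge hv (card_cj g C.V).ge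
      exact hgnT (hRT (C.mem_R_of h ((C.normV h).le (norm_of_cj_eq e)) hgS))
    by_cases hv2 : Vg ≤ cj s C.V
    · have e := eq_of_le_of_card_ge hv2 (by rw [card_cj, hVg, card_cj])
      have e2 : cj (s⁻¹ * g) C.V = C.V := by
        rw [← cj_cj, ← hVg, e, cj_cj, inv_mul_cancel, cj_eq_of_norm (one_mem _)]
      have hm := C.mem_R_of h ((C.normV h).le (norm_of_cj_eq e2)) (mul_mem (inv_mem hs.hsS) hgS)
      refine hgnT ?_
      rw [show g = s * (s⁻¹ * g) by group]
      exact mul_mem (mem_sup_right (mem_zpowers s)) (hRT hm)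
    obtain ⟨x, hx, hxV⟩ := SetLike.not_le_iff_exists.1 hv
    obtain ⟨x', hx', hx'V⟩ := SetLike.not_le_iff_exists.1 hv2
    have h1 := (hmem x hx).resolve_left hxV
    have h2 := (hmem x' hx').resolve_right hx'V
    rcases hmem _ (mul_mem hx hx') with h3 | h3
    · exact hxV ((mul_mem_cancel_right h2).1 h3)
    · exact hx'V ((mul_mem_cancel_left h1).1 h3)
  obtain ⟨t, htVg, htR⟩ := SetLike.not_le_iff_exists.1 hVgR
  have htT : t ∈ T := hVgT htVg
  have htt : t * t = 1 := hVgE t htVg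
  have hti : t⁻¹ = t := inv_eq_of_mul_eq_one_left htt
  obtain ⟨sV, sV2, sW, sW2⟩ := hs.swap2 htT htR
  have htV : ∀ x ∈ cj s C.V, t * x * t ∈ C.V := fun x hx => by
    rw [← sV2]; have := cj_mem (g := t) hx; rwa [hti] at this
  set v' := t * a * t with hv'def
  have hv'V : v' ∈ C.V := htV a ha
  have hv'Z : v' ∉ C.Z1 := by
    intro hh
    have e : t * v' * t = v' := by
      rw [(hTZ t htT v' hh).eq, mul_assoc, htt, mul_one]
    rw [show t * v' * t = (t * t) * a * (t * t) by rw [hv'def]; group, htt, one_mul, mul_one] at e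
    exact A.haW (C.V_le (e.symm ▸ hv'V))
  clear_value v'
  -- the conjugate `W^g`
  set Wg : Subgroup G := cj g C.W with hWg
  have hWgT : Wg ≤ T := cj_le_of_norm (C.hWR.trans hRT) hgT
  have hWgc : Wg = centralizer (Vg : Set G) := by rw [hWg, hVg, ← cj_cent, C.centV h]
  have hWgV : ∀ e ∈ Wg, ∀ x ∈ Vg, Commute e x := fun e he x hx => by
    rw [hWgc] at he; exact mem_cent.1 he x hx
  obtain ⟨e, heW, heR, heZ⟩ : ∃ e, e ∈ Wg ∧ e ∈ C.R ∧ e ∉ C.Z1 := by
    have hn : Wg ≤ normalizer (C.R : Set G) :=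
      hWgT.trans (sup_le le_normalizer (zpowers_le.2 hs.hsN))
    have ec := card_sup_inf hn
    rw [card_cj, hW16, hR32] at ec
    have hle : Nat.card (C.R ⊔ Wg : Subgroup G) ≤ 64 := hTc ▸ card_le_of_le (sup_le hRT hWgT)
    have hne : ¬ C.R ⊓ Wg ≤ C.Z1 := fun hh => by
      have := card_le_of_le hh
      rw [A.card_Z1_U h, hUc] at this
      nlinarith
    obtain ⟨e, he, heZ⟩ := SetLike.not_le_iff_exists.1 hne
    exact ⟨e, he.2, he.1, heZ⟩
  have hte : t * e * t = e := by
    rw [(hWgV e heW t htVg).symm.eq, mul_assoc, htt, mul_one]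
  have hesq : e * e = 1 ∨ e * e = u * C.z := by
    have hm : g⁻¹ * e * g ∈ C.W := mem_cj.1 heW
    obtain ⟨v, hv, k0, hk0, hvk⟩ := hdec _ hm
    have h1 : e * e = g * (k0 * k0) * g⁻¹ := by
      calc e * e = g * (g⁻¹ * e * g * (g⁻¹ * e * g)) * g⁻¹ := by group
        _ = g * (k0 * k0) * g⁻¹ := by
          rw [← hvk, (hVcomm v hv k0 hk0).symm.mul_mul_mul_comm, hv.2.2, one_mul]
    rcases U_two hUc hu hu1 _ (hsqK k0 hk0) with e0 | e0
    · exact Or.inl (by rw [h1, e0]; group)
    · exact Or.inr (by rw [h1, e0, hgu])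
  have hKW2 : ∀ k ∈ K, Commute k a ∧ k ∈ cj s C.W := fun k hk => hK k hk.1 (mem_cent1.1 hk.2)
  have huzne : u * C.z ≠ 1 := fun e => A.z_not_U h (by
    rw [eq_inv_of_mul_eq_one_right e, inv_eq_of_mul_eq_one_left hu.1.2.2]; exact hu)
  have heW' : e ∉ C.W := by
    intro heW0
    have heW2 : e ∈ cj s C.W := by
      rw [← sW, ← hte]
      have := cj_mem (g := t) heW0
      rwa [hti] at this
    obtain ⟨v, hv, k0, hk0, hvk⟩ := hdec e heW0
    obtain ⟨hk0a, hk0W⟩ := hKW2 k0 hk0
    have hvW2 : v ∈ cj s C.W := (mul_mem_cancel_right hk0W).1 (hvk ▸ heW2)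
    have hvZ : v ∈ C.Z1 := by
      rw [hs.cjW_eq h] at hvW2
      exact (A.mem_Z1 h).2 ⟨hv, mem_cent.1 hvW2 a ha⟩
    have hee : e * e = k0 * k0 := by
      rw [← hvk, (hVcomm v hv k0 hk0).symm.mul_mul_mul_comm, hv.2.2, one_mul]
    have hk01 : k0 * k0 = 1 := by
      rcases U_two hUc hu hu1 _ (hsqK k0 hk0) with e0 | e0
      · exact e0
      · rcases hesq with e1 | e1 <;> rw [hee, e0] at e1
        · exact absurd e1 hu1
        · exact absurd (mul_left_cancel (a := u) (by rw [mul_one]; exact e1)) (Ne.symm C.z_ne)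
    have hk0V : k0 ∈ C.U y := by
      refine ⟨⟨hk0.1, fun x hx => ?_, hk01⟩, hk0.2⟩
      obtain ⟨v', hv', k', hk', rfl⟩ := hdec x hx
      exact (hVcomm v' hv' k0 hk0).symm.mul_right
        (hKab k0 hk0.1 k' hk'.1 (mem_cent1.1 hk0.2) (mem_cent1.1 hk'.2))
    exact heZ (hvk ▸ mul_mem hvZ (A.U_le h hk0V))
  have hea : e * a ∈ C.W := A.mul_a_mem heR heW'
  have heW2 : e ∉ cj s C.W := by
    intro hh
    refine heW' ?_
    rw [← sW2, ← hte]
    have := cj_mem (g := t) hh
    rwa [hti] at this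
  obtain ⟨v, hv, k0, hk0, hvk⟩ := hdec _ hea
  obtain ⟨hk0a, hk0W⟩ := hKW2 k0 hk0
  have haW2 : a ∈ cj s C.W := by
    rw [hs.cjW_eq h]
    exact mem_cent.2 fun x hx => (cj_elem C.elem_V s).comm ha hx
  have hvZ : v ∉ C.Z1 := by
    intro hvZ
    have hvW2 : v ∈ cj s C.W := by
      rw [hs.cjW_eq h]
      exact mem_cent.2 fun x hx => (cj_elem C.elem_V s).comm (hs.Z1_le_cjV h A hvZ) hx
    exact heW2 ((mul_mem_cancel_right haW2).1 (hvk ▸ mul_mem hvW2 hk0W))
  set c := v * v' with hcdef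
  have hcZ : c ∈ C.Z1 := mul_mem_of_card_two (A.Z1_le h) (A.card_V_Z1 h) hv hv'V hvZ hv'Z
  have hee : e = c * v' * k0 * a := by
    rw [hcdef, mul_assoc v v' v', hv'V.2.2, mul_one, hvk, mul_assoc, A.haa, mul_one]
  have hv'v1 : a * v' * a = v' * v1 := by
    rw [← hv1 v' hv'V hv'Z, ← mul_assoc, hv'V.2.2, one_mul]
  have htc : t * c * t = c := by rw [(hTZ t htT c hcZ).eq, mul_assoc, htt, mul_one]
  have hv1k : Commute v1 k0 := C.V_comm (A.Z1_le h hv1Z) hk0.1
  have htk : t * k0 * t = v1 * k0 := by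
    have h1 : t * e * t = c * a * (t * k0 * t) * v' := by
      rw [hee]
      calc t * (c * v' * k0 * a) * t
          = (t * c * t) * (t * v' * t) * (t * k0 * t) * (t * a * t) := by
            rw [show (t * c * t) * (t * v' * t) * (t * k0 * t) * (t * a * t) =
              t * c * (t * t) * v' * (t * t) * k0 * (t * t) * a * t by group, htt]; group
        _ = c * a * (t * k0 * t) * v' := by
            rw [htc, show t * v' * t = (t * t) * a * (t * t) by rw [hv'def]; group, htt, one_mul,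
              mul_one, ← hv'def]
    rw [hte, hee] at h1
    have h2 : v' * k0 * a = a * (t * k0 * t) * v' := mul_left_cancel (a := c)
      (by simpa [mul_assoc] using h1)
    calc t * k0 * t = (a * a) * (t * k0 * t) * (v' * v') := by
          rw [A.haa, hv'V.2.2, one_mul, mul_one]
      _ = a * (a * (t * k0 * t) * v') * v' := by group
      _ = a * v' * (k0 * a) * v' := by rw [← h2]; group
      _ = (a * v' * a) * k0 * v' := by rw [hk0a.eq]; group
      _ = v' * v1 * (v' * k0) := by rw [hv'v1, mul_assoc, (hVcomm v' hv'V k0 hk0).eq]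
      _ = v' * v' * v1 * k0 := by
          rw [show v' * v1 * (v' * k0) = v' * (v1 * v') * k0 by group,
            (C.elem_V.comm (A.Z1_le h hv1Z) hv'V).eq]; group
      _ = v1 * k0 := by rw [hv'V.2.2, one_mul]
  have hk0U : k0 ∉ C.U y := by
    intro hh
    have e0 : t * k0 * t = k0 := by rw [(hTZ t htT k0 (A.U_le h hh)).eq, mul_assoc, htt, mul_one]
    rw [htk] at e0
    exact hv11 (mul_eq_right.1 e0)
  have hk0sq : k0 * k0 = u := by
    rcases U_two hUc hu hu1 _ (hsqK k0 hk0) with e0 | e0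
    · exfalso
      refine hk0U ⟨⟨hk0.1, fun x hx => ?_, e0⟩, hk0.2⟩
      obtain ⟨v', hv', k', hk', rfl⟩ := hdec x hx
      exact (hVcomm v' hv' k0 hk0).symm.mul_right
        (hKab k0 hk0.1 k' hk'.1 (mem_cent1.1 hk0.2) (mem_cent1.1 hk'.2))
    · exact e0
  have hv1z : v1 = C.z := by
    have h1 : e * e = v1 * u := by
      have hc1 : Commute c (v' * k0 * a) :=
        ((C.elem_V.comm (A.Z1_le h hcZ) hv'V).mul_right (C.V_comm (A.Z1_le h hcZ) hk0.1)).mul_right
          ((A.mem_Z1 h).1 hcZ).2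
      rw [hee, show c * v' * k0 * a = c * (v' * k0 * a) by group, hc1.symm.mul_mul_mul_comm,
        hcZ.2.2, one_mul]
      calc v' * k0 * a * (v' * k0 * a) = v' * k0 * (a * v') * (a * k0) := by
            rw [← hk0a.eq]; group
        _ = v' * (k0 * (a * v' * a)) * k0 := by group
        _ = v' * ((a * v' * a) * k0) * k0 := by
            rw [(C.V_comm (A.a_conj_mem_V hv'V) hk0.1).eq]
        _ = v' * v' * v1 * (k0 * k0) := by rw [hv'v1]; group
        _ = v1 * u := by rw [hv'V.2.2, one_mul, hk0sq]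
    rcases hesq with e1 | e1 <;> rw [h1] at e1
    · exact absurd (by rw [eq_inv_of_mul_eq_one_left e1, inv_eq_of_mul_eq_one_left hu.1.2.2]; exact hu) hv1U
    · rw [(C.elem_V.comm hu.1 C.z_mem_V).eq] at e1
      exact mul_right_cancel e1
  rw [hv1z] at htk hv'v1
  -- inside the centraliser of `u`
  set X : Subgroup G := centralizer ({u} : Set G) with hX
  have hTX : T ≤ X := hTu
  have hyX : y ∈ X := mem_cent1.2 (mem_cent1.1 hu.2).symm
  have hcentu : ∀ m ∈ X, m * u * m⁻¹ = u := fun m hm => by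
    rw [(mem_cent1.1 hm).eq, mul_inv_cancel_right]
  have hSX : ∀ x ∈ C.S, x ∈ X → x ∈ T := by
    intro x hx hxX
    have hle : T ≤ (C.S : Subgroup G) ⊓ X := le_inf hTS.le hTX
    by_contra hxT
    have hlt : T < (C.S : Subgroup G) ⊓ X := lt_of_le_not_ge hle fun hh => hxT (hh ⟨hx, hxX⟩)
    obtain ⟨r, hr⟩ := IsPGroup.iff_card.1 (C.S.2.to_le (inf_le_left : (C.S : Subgroup G) ⊓ X ≤ _))
    have h7 : r ≥ 7 := by
      by_contra h6
      refine hlt.ne (eq_of_le_of_card_ge hle ?_)
      rw [hr, hTc, show (64 : ℕ) = 2 ^ 6 by norm_num]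
      exact Nat.pow_le_pow_right (by norm_num) (by omega)
    have e : (C.S : Subgroup G) ⊓ X = C.S := eq_of_le_of_card_ge inf_le_left (by
      rw [hr, h.hS]; exact Nat.pow_le_pow_right (by norm_num) h7)
    exact A.central_false h hu hu1 (e ▸ inf_le_right)
  set L : Subgroup G := C.R ⊔ zpowers y with hLdef
  have hML : C.M ≤ L := by
    intro m hm
    obtain ⟨n, hn⟩ := A.z_class h hUc hu hu1 huz (conj_mem_of_norm (C.hMV hm) C.z_mem_V) rfl
    have hmR : y ^ n * m ∈ C.R := by
      refine C.mem_R_of_commute h (mul_mem (pow_mem A.hy _) hm) ?_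
      show y ^ n * m * C.z = C.z * (y ^ n * m)
      calc y ^ n * m * C.z = y ^ n * (m * C.z * m⁻¹) * m := by group
        _ = C.z * (y ^ n * m) := by rw [hn]; group
    rw [show m = (y ^ n)⁻¹ * (y ^ n * m) by group]
    exact mul_mem (inv_mem (pow_mem (mem_sup_right (mem_zpowers y)) _)) (mem_sup_left hmR)
  have hLX : L ≤ X := sup_le (hRT.trans hTX) (zpowers_le.2 hyX)
  have hLM : L = C.M := le_antisymm (sup_le C.hRM (zpowers_le.2 A.hy)) hML
  -- `t` is not fused with `z`
  have hnoz : ∀ h0 ∈ X, ∀ t' ∈ Vg, t' ∉ C.R → h0 * C.z * h0⁻¹ ≠ t' := by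
    intro h0 hh0 t' ht' ht'R he
    set T' : Subgroup G := cj h0 T with hT'
    have hWT' : Wg ≤ T' := by
      intro x hx
      refine mem_cj.2 (hSX _ ?_ (mul_mem (mul_mem (inv_mem hh0) (hTX (hWgT hx))) hh0))
      show h0⁻¹ * x * h0 ∈ (C.S : Subgroup G)
      rw [← C.centz h, mem_cent1]
      have := conj_commute (g := h0⁻¹) (hWgV x hx t' ht')
      rwa [← he, inv_inv, show h0⁻¹ * (h0 * C.z * h0⁻¹) * h0 = C.z by group] at this
    have hlt : Wg < T' := lt_of_le_of_ne hWT' fun e => by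
      have := congrArg (fun H : Subgroup G => Nat.card H) e
      simp only [hT', hWg, card_cj, hW16, hTc] at this
      omega
    obtain ⟨x, hxT', hxN, hxW, -⟩ := exists_norm_step ((C.S.2.to_le hTS.le).map _) hlt
    have hxX : x ∈ X := by
      obtain ⟨q, hq, rfl⟩ := hxT'
      exact mul_mem (mul_mem hh0 (hTX hq)) (inv_mem hh0)
    have hxt : Commute x t' := by
      obtain ⟨q, hq, rfl⟩ := hxT'
      rw [← he]
      exact conj_commute (C.hzc q (hs.ext_le hq))
    have hm : g⁻¹ * x * g ∈ C.M := by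
      rw [← C.normW]
      refine le_norm_of_conj fun w hw => ?_
      have := mem_cj.1 (conj_mem_of_norm hxN (cj_mem (g := g) hw))
      simpa [mul_assoc] using this
    have hxuz : Commute x (u * C.z) := by
      have := conj_commute (g := g) (mem_cent1.1 (hLX (hLM.ge hm)))
      rwa [show g * (g⁻¹ * x * g) * g⁻¹ = x by group, hgu] at this
    have hxu : Commute x u := mem_cent1.1 hxX
    have hxz : Commute x C.z := by
      have := hxu.inv_right.mul_right hxuz
      rwa [inv_mul_cancel_left] at this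
    have hZlt : C.Z1 ⊔ zpowers t' = Vg := sup_zpowers_eq hZVg
      (by rw [hVg, card_cj]; exact A.card_V_Z1 h) ht' (fun hh => ht'R (C.hWR (C.V_le (A.Z1_le h hh))))
    refine hxW ?_
    rw [hWgc]
    refine mem_cent.2 fun q hq => ?_
    have hle : Vg ≤ centralizer ({x} : Set G) := hZlt ▸ sup_le (fun q hq => ?_)
      (zpowers_le.2 (mem_cent1.2 hxt.symm))
    · exact (mem_cent1.1 (hle hq)).symm
    · refine mem_cent1.2 ?_
      rcases hZ4 q hq with rfl | rfl | rfl | rfl
      exacts [Commute.one_left x, hxu.symm, hxz.symm, hxuz.symm]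
  have htuR : t * u ∉ C.R := fun hh =>
    htR ((mul_mem_cancel_right (C.hWR (C.V_le hu.1))).1 hh)
  have htu : t * u ∈ Vg := mul_mem htVg (hZVg (A.U_le h hu))
  have hnot : ∀ h0 ∈ X, h0 * t * h0⁻¹ ∉ C.R := by
    intro h0 hh0 hin
    obtain ⟨m, hm, hmV⟩ : ∃ m ∈ X, m * t * m⁻¹ ∈ C.V := by
      rcases hinv _ hin (by
        rw [show h0 * t * h0⁻¹ * (h0 * t * h0⁻¹) = h0 * (t * t) * h0⁻¹ by group, htt]; group)
        with h1 | h1
      · exact ⟨h0, hh0, h1⟩
      · refine ⟨t * h0, mul_mem (hTX htT) hh0, ?_⟩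
        have := htV _ h1
        rwa [mul_inv_rev, hti, show t * h0 * t * (h0⁻¹ * t) = t * (h0 * t * h0⁻¹) * t by group]
    obtain ⟨n, hn⟩ := A.cover h hmV
    set q := y ^ n * m with hq
    have hqX : q ∈ X := mul_mem (pow_mem hyX _) hm
    have hqt : q * t * q⁻¹ ∈ C.Z1 := by
      rw [show q * t * q⁻¹ = y ^ n * (m * t * m⁻¹) * (y ^ n)⁻¹ by rw [hq]; group]
      exact hn
    have hq' : q⁻¹ ∈ X := inv_mem hqX
    rcases hZ4 _ hqt with e | e | e | e
    · exact htR (by rw [conj_eq_one_iff] at e; rw [e]; exact one_mem _)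
    · refine htR ?_
      have : t = u := mul_left_cancel (mul_right_cancel (e.trans (hcentu q hqX).symm))
      rw [this]; exact C.hWR (C.V_le hu.1)
    · refine hnoz q⁻¹ hq' t htVg htR ?_
      rw [← e]; group
    · refine hnoz q⁻¹ hq' (t * u) htu htuR ?_
      calc q⁻¹ * C.z * q⁻¹⁻¹ = q⁻¹ * (u * C.z) * q * (q⁻¹ * u * q) := by
            have h5 : u * C.z * u = C.z := by
              rw [(C.elem_V.comm hu.1 C.z_mem_V).eq, mul_assoc, hu.1.2.2, mul_one]
            rw [show q⁻¹ * (u * C.z) * q * (q⁻¹ * u * q) = q⁻¹ * (u * C.z * u) * q by group, h5,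
              inv_inv]
        _ = t * u := by
            rw [← e, show q⁻¹ * u * q = u by
              have := hcentu q⁻¹ hq'; rwa [inv_inv] at this]
            group
  -- the transfer
  have hk0R : k0 ∈ C.R := C.hWR hk0.1
  have hv'R : v' ∈ C.R := C.hWR (C.V_le hv'V)
  have hRdec : ∀ r ∈ C.R, ∃ c ∈ C.Z1, ∃ δ, (δ = 1 ∨ δ = v' ∨ δ = a ∨ δ = v' * a) ∧
      ∃ κ, (κ = 1 ∨ κ = k0) ∧ r = c * δ * κ := by
    have hKdec : ∀ k' ∈ K, ∃ c' ∈ C.U y, ∃ κ, (κ = 1 ∨ κ = k0) ∧ k' = c' * κ := by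
      intro k' hk'
      by_cases hku' : k' ∈ C.U y
      · exact ⟨k', hku', 1, Or.inl rfl, (mul_one _).symm⟩
      · refine ⟨k' * k0⁻¹, ?_, k0, Or.inr rfl, by group⟩
        exact mul_mem_of_card_two hUK (by rw [hKc4, hUc]) hk' (inv_mem hk0) hku'
          (fun hh => hk0U (inv_mem_iff.1 hh))
    have hWdec : ∀ x ∈ C.W, ∃ c ∈ C.Z1, ∃ δ, (δ = 1 ∨ δ = v') ∧ ∃ κ, (κ = 1 ∨ κ = k0) ∧
        x = c * δ * κ := by
      intro x hx
      obtain ⟨v0, hv0, k', hk', rfl⟩ := hdec x hx
      obtain ⟨c', hc', κ, hκ, rfl⟩ := hKdec k' hk'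
      by_cases hv0Z : v0 ∈ C.Z1
      · exact ⟨v0 * c', mul_mem hv0Z (A.U_le h hc'), 1, Or.inl rfl, κ, hκ, by group⟩
      · refine ⟨v0 * v' * c', mul_mem (mul_mem_of_card_two (A.Z1_le h) (A.card_V_Z1 h) hv0 hv'V
          hv0Z hv'Z) (A.U_le h hc'), v', Or.inr rfl, κ, hκ, ?_⟩
        rw [show v0 * v' * c' * v' * κ = v0 * (v' * c') * v' * κ by group,
          (C.elem_V.comm hv'V hc'.1).eq,
          show v0 * (c' * v') * v' * κ = v0 * c' * (v' * v') * κ by group, hv'V.2.2]
        group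
    intro r hr
    by_cases hrW : r ∈ C.W
    · obtain ⟨c, hc, δ, hδ, κ, hκ, e⟩ := hWdec r hrW
      exact ⟨c, hc, δ, hδ.imp_right Or.inl, κ, hκ, e⟩
    · obtain ⟨c, hc, δ, hδ, κ, hκ, e⟩ := hWdec _ (A.mul_a_mem hr hrW)
      have hκa : Commute κ a := by
        rcases hκ with rfl | rfl
        exacts [Commute.one_left a, hk0a]
      refine ⟨c, hc, δ * a, ?_, κ, hκ, ?_⟩
      · rcases hδ with rfl | rfl
        · exact Or.inr (Or.inr (Or.inl (one_mul a)))
        · exact Or.inr (Or.inr (Or.inr rfl))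
      · calc r = r * a * a := by rw [mul_assoc, A.haa, mul_one]
          _ = c * δ * (κ * a) := by rw [e]; group
          _ = _ := by rw [hκa.eq]; group
  have hsq : ∀ x ∈ T, x ∉ C.R → x * x ≠ u := by
    intro x hx hxR
    have hxt : x * t ∈ C.R := mul_mem_of_card_two hRT hs.card_ext hx htT hxR htR
    obtain ⟨c, hc, δ, hδ, κ, hκ, e⟩ := hRdec _ hxt
    have hx' : x = c * δ * κ * t := by rw [← e, mul_assoc, htt, mul_one]
    have hδt : t * δ * t ∈ C.R := by
      have hδR : δ ∈ C.R := by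
        rcases hδ with rfl | rfl | rfl | rfl
        exacts [one_mem _, hv'R, A.haR, mul_mem hv'R A.haR]
      have hn : t ∈ normalizer (C.R : Set G) := (sup_le le_normalizer (zpowers_le.2 hs.hsN)) htT
      have := conj_mem_of_norm hn hδR
      rwa [hti] at this
    have hκc : ∀ q ∈ C.R, q ∈ ({a, v', 1, v' * a, a * v'} : Set G) → Commute κ q := by
      intro q _ hq
      have hv : Commute k0 v' := (hVcomm v' hv'V k0 hk0).symm
      rcases hκ with rfl | rfl
      · exact Commute.one_left q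
      simp only [Set.mem_insert_iff, Set.mem_singleton_iff] at hq
      rcases hq with rfl | rfl | rfl | rfl | rfl
      exacts [hk0a, hv, Commute.one_right _, hv.mul_right hk0a, hk0a.mul_right hv]
    have htv' : t * v' * t = a := by
      rw [show t * v' * t = (t * t) * a * (t * t) by rw [hv'def]; group, htt, one_mul, mul_one]
    have hδ' : t * δ * t ∈ ({a, v', 1, v' * a, a * v'} : Set G) := by
      rcases hδ with rfl | rfl | rfl | rfl
      · simp [htt]
      · simp [htv']
      · simp [← hv'def]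
      · simp [show t * (v' * a) * t = (t * v' * t) * (t * a * t) by
          rw [show (t * v' * t) * (t * a * t) = t * v' * (t * t) * a * t by group, htt]; group,
          htv', ← hv'def]
    have hxx : x * x = δ * (t * δ * t) * (κ * (t * κ * t)) := by
      have hct : Commute c t := (hTZ t htT c hc).symm
      have hcδ : Commute c (δ * κ * t) := by
        refine ((?_ : Commute c δ).mul_right ?_).mul_right hct
        · rcases hδ with rfl | rfl | rfl | rfl
          exacts [Commute.one_right c, C.elem_V.comm (A.Z1_le h hc) hv'V, ((A.mem_Z1 h).1 hc).2,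
            (C.elem_V.comm (A.Z1_le h hc) hv'V).mul_right ((A.mem_Z1 h).1 hc).2]
        · rcases hκ with rfl | rfl
          exacts [Commute.one_right c, C.V_comm (A.Z1_le h hc) hk0.1]
      rw [hx', show c * δ * κ * t = c * (δ * κ * t) by group, hcδ.symm.mul_mul_mul_comm, hc.2.2,
        one_mul]
      calc δ * κ * t * (δ * κ * t) = δ * κ * (t * δ * (t * t) * κ * t) := by rw [htt]; group
        _ = δ * (κ * (t * δ * t)) * (t * κ * t) := by group
        _ = δ * ((t * δ * t) * κ) * (t * κ * t) := by rw [(hκc _ hδt hδ').eq]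
        _ = _ := by group
    have hκ2 : κ * (t * κ * t) = 1 ∨ κ * (t * κ * t) = u * C.z := by
      rcases hκ with rfl | rfl
      · left; simp [htt]
      · right
        rw [htk, show κ * (C.z * κ) = κ * C.z * κ by group,
          ((C.V_comm C.z_mem_V hk0.1).symm.eq), mul_assoc, hk0sq]
        exact (C.elem_V.comm C.z_mem_V hu.1).eq
    have hδ2 : δ * (t * δ * t) = 1 ∨ δ * (t * δ * t) ∉ C.W := by
      rcases hδ with rfl | rfl | rfl | rfl
      · left; simp [htt]
      · right; rw [htv']; exact fun hh => A.haW ((mul_mem_cancel_left (C.V_le hv'V)).1 hh)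
      · right; rw [← hv'def]; exact fun hh => A.haW ((mul_mem_cancel_right (C.V_le hv'V)).1 hh)
      · left
        rw [show t * (v' * a) * t = (t * v' * t) * (t * a * t) by
          rw [show (t * v' * t) * (t * a * t) = t * v' * (t * t) * a * t by group, htt]; group,
          htv', ← hv'def, show v' * a * (a * v') = v' * (a * a) * v' by group, A.haa, mul_one,
          hv'V.2.2]
    intro hxu
    rw [hxx] at hxu
    have huW : u ∈ C.W := C.V_le hu.1
    rcases hδ2 with e1 | e1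
    · rw [e1, one_mul] at hxu
      rcases hκ2 with e2 | e2 <;> rw [e2] at hxu
      · exact hu1 hxu.symm
      · exact C.z_ne (mul_eq_left.1 hxu)
    · refine e1 ?_
      rcases hκ2 with e2 | e2 <;> rw [e2] at hxu
      · rw [mul_one] at hxu; rw [hxu]; exact huW
      · rw [show δ * (t * δ * t) = u * (u * C.z)⁻¹ from eq_mul_inv_iff_mul_eq.2 hxu]
        exact mul_mem huW (inv_mem (mul_mem huW C.hzW))
  set H : Subgroup X := T.subgroupOf X with hH
  set R' : Subgroup H := (C.R.subgroupOf X).subgroupOf H with hR'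
  have hHc : Nat.card H = 64 := (Nat.card_congr (subgroupOfEquivOfLe hTX).toEquiv).trans hTc
  have hR'i : R'.index = 2 := by
    have e := R'.card_mul_index
    rw [hHc, show Nat.card R' = 32 by
      rw [hR', Nat.card_congr (subgroupOfEquivOfLe (show C.R.subgroupOf X ≤ H from
        fun q hq => hRT hq)).toEquiv, Nat.card_congr (subgroupOfEquivOfLe (hRT.trans hTX)).toEquiv,
        hR32]] at e
    omega
  have hodd : Odd H.index := by
    rw [← Nat.not_even_iff_odd, even_iff_two_dvd]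
    intro h2
    have hd : 2 ^ 7 ∣ Nat.card X := by
      rw [← H.card_mul_index, hHc, show (2 : ℕ) ^ 7 = 64 * 2 by norm_num]
      exact Nat.mul_dvd_mul_left 64 h2
    obtain ⟨P, hP, hTP⟩ := Sylow.exists_subgroup_card_pow_prime_le 2 hd H
      (by rw [hHc]; norm_num) (show 6 ≤ 7 by norm_num)
    have hP2 : IsPGroup 2 (P.map X.subtype) := (IsPGroup.of_card hP).map _
    obtain ⟨S', hS'⟩ := hP2.exists_le_sylow
    have hPc : Nat.card (P.map X.subtype) = 2 ^ 7 :=
      (Nat.card_congr (P.equivMapOfInjective _ X.subtype_injective).toEquiv).symm.trans hP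
    have hTP' : T ≤ P.map X.subtype := fun q hq => ⟨⟨q, hTX hq⟩, hTP hq, rfl⟩
    have hS'X : (S' : Subgroup G) ≤ X := (eq_of_le_of_card_ge hS'
      (by rw [h.hS, hPc])).ge.trans (map_subtype_le P)
    -- a central involution of `S'` lies in `Ω Z(T)` and is `z` up to `u`
    obtain ⟨z', hz'S, hz'2, hz'c⟩ := exists_central_involution S' (h.sylow_ne_bot S')
    have hTS' : T ≤ S' := hTP'.trans hS'
    have hz'Z : z' ∈ C.Z1 := by
      have hz'W : z' ∈ C.W := (C.centV h).le (mem_cent.2 fun q hq => (hz'c q (hTS' (hVT hq))).symm)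
      exact ⟨C.hWR hz'W, fun r hr => (hz'c r (hTS' (hRT hr))).symm,
        by rw [← sq, ← hz'2, pow_orderOf_eq_one]⟩
    rcases hZ4 z' hz'Z with e | e | e | e
    · exact ne_one_of_order_two hz'2 e
    · refine A.not_mem_S ?_ |>.elim
      exfalso
      refine not_two_group_of_mem Nat.prime_three (by norm_num) ?_ A.hy3 S'.2
      rw [← h.cent_eq S' hu1 fun q hq => e ▸ hz'c q hq]
      exact mem_cent1.2 (mem_cent1.1 hu.2).symm
    · have hSS : (S' : Subgroup G) = C.S := by
        rw [← h.cent_eq S' C.z_ne fun q hq => e ▸ hz'c q hq, C.centz h]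
      exact A.central_false h hu hu1 (hSS ▸ hS'X)
    · -- `u` and `u z` central give `z` central
      have hSS : (S' : Subgroup G) = C.S := by
        rw [← h.cent_eq S' C.z_ne fun q hq => ?_, C.centz h]
        have h1 : Commute q u := mem_cent1.1 (hS'X hq)
        have h2 : Commute q (u * C.z) := e ▸ hz'c q hq
        have := h1.inv_right.mul_right h2
        rwa [inv_mul_cancel_left] at this
      exact A.central_false h hu hu1 (hSS ▸ hS'X)
  let φ : H →* ℤˣ := signHom R' hR'i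
  let ψ : X →* ℤˣ := MonoidHom.transfer φ
  have hφ : ∀ (q : H), φ q = if (q : X).1 ∈ C.R then 1 else -1 := fun q => by
    by_cases hq : (q : X).1 ∈ C.R
    · rw [if_pos hq]; exact signHom_of_mem hR'i hq
    · rw [if_neg hq]; exact signHom_of_not_mem hR'i hq
  have huc : ∀ q : X, Commute q.1 u := fun q => mem_cent1.1 q.2
  have hψt : ψ ⟨t, hTX htT⟩ = -1 := by
    have hc : (⟨t, hTX htT⟩ : X) * ⟨t, hTX htT⟩ = 1 := Subtype.ext htt
    refine transfer_value H φ hodd _ (hc ▸ one_mem _) (hc ▸ one_mem _) (-1) (by norm_num) ?_ ?_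
    · simp only [hc]; exact map_one φ
    · intro q hm
      rw [hφ, if_neg]
      intro hh
      have := hnot q.1⁻¹ (inv_mem q.2)
      rw [inv_inv] at this
      exact this hh
  have hψk : ψ ⟨k0, hTX (hRT hk0R)⟩ = 1 := by
    refine transfer_value H φ hodd _ ?_ ?_ 1 (one_mul 1) ?_ ?_
    · rw [mem_center_iff]
      intro q
      refine Subtype.ext ?_
      show q.1 * (k0 * k0) = k0 * k0 * q.1
      rw [hk0sq]; exact (huc q).eq
    · show k0 * k0 ∈ T
      exact mul_mem (hRT hk0R) (hRT hk0R)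
    · rw [hφ, if_pos]
      exact mul_mem hk0R hk0R
    · intro q hm
      rw [hφ, if_pos]
      by_contra hnR
      refine hsq _ hm hnR ?_
      show q.1⁻¹ * k0 * q.1 * (q.1⁻¹ * k0 * q.1) = u
      rw [show q.1⁻¹ * k0 * q.1 * (q.1⁻¹ * k0 * q.1) = q.1⁻¹ * (k0 * k0) * q.1 by group, hk0sq,
        mul_assoc, (huc q).symm.eq, inv_mul_cancel_left]
  clear_value ψ
  set N : Subgroup G := ψ.ker.map X.subtype with hN
  have hmemN : ∀ (q : G) (hq : q ∈ X), ψ ⟨q, hq⟩ = 1 → q ∈ N := fun q hq e => ⟨⟨q, hq⟩, e, rfl⟩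
  have hNX : N ≤ X := map_subtype_le _
  have htN : t ∉ N := by
    rintro ⟨⟨q, hq⟩, hk', e⟩
    simp only [coe_subtype] at e
    subst e
    rw [SetLike.mem_coe, MonoidHom.mem_ker, hψt] at hk'
    norm_num at hk'
  have hconjN : ∀ q ∈ N, ∀ m ∈ X, m * q * m⁻¹ ∈ N := by
    rintro _ ⟨q, hq, rfl⟩ m hm
    exact ⟨⟨m, hm⟩ * q * ⟨m, hm⟩⁻¹, (MonoidHom.normal_ker ψ).conj_mem q hq _, rfl⟩
  have hsqN : ∀ q ∈ X, q * q ∈ N := fun q hq => hmemN (q * q) (mul_mem hq hq) (by
    show ψ (⟨q, hq⟩ * ⟨q, hq⟩) = 1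
    rw [map_mul]; exact Int.units_mul_self _)
  have hyN : y ∈ N := by
    have := hsqN (y * y) (mul_mem hyX hyX)
    rwa [show y * y * (y * y) = y ^ 3 * y by simp [pow_succ, mul_assoc], A.y3, one_mul] at this
  have hkN : k0 ∈ N := hmemN k0 (hTX (hRT hk0R)) hψk
  have huN : u ∈ N := hk0sq ▸ mul_mem hkN hkN
  have hv'X : v' ∈ X := hTX (hRT hv'R)
  have haX : a ∈ X := hTX (hRT A.haR)
  have hzN : C.z ∈ N := by
    have : C.z = (a * v') * (a * v') := by
      rw [show a * v' * (a * v') = (a * v' * a) * v' by group, hv'v1,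
        (C.elem_V.comm hv'V C.z_mem_V).eq, mul_assoc, hv'V.2.2, mul_one]
    rw [this]; exact hsqN _ (mul_mem haX hv'X)
  have hZN : C.Z1 ≤ N := by
    intro x hx
    rcases hZ4 x hx with rfl | rfl | rfl | rfl
    exacts [one_mem _, huN, hzN, mul_mem huN hzN]
  have hv'N : v' ∈ N := by
    obtain ⟨n, hn⟩ := A.cover h hv'V
    have := hconjN _ (hZN hn) (y ^ n)⁻¹ (inv_mem (pow_mem hyX n))
    rwa [inv_inv, show (y ^ n)⁻¹ * (y ^ n * v' * (y ^ n)⁻¹) * y ^ n = v' by group] at this
  have haN : a ∈ N := by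
    have := hconjN _ hv'N t (hTX htT)
    rwa [hti, show t * v' * t = (t * t) * a * (t * t) by rw [hv'def]; group, htt, one_mul,
      mul_one] at this
  have hRN : C.R ≤ N := by
    intro r hr
    obtain ⟨c, hc, δ, hδ, κ, hκ, rfl⟩ := hRdec r hr
    refine mul_mem (mul_mem (hZN hc) ?_) ?_
    · rcases hδ with rfl | rfl | rfl | rfl
      exacts [one_mem _, hv'N, haN, mul_mem hv'N haN]
    · rcases hκ with rfl | rfl
      exacts [one_mem _, hkN]
  have hLN : L < N := by
    refine lt_of_le_of_ne (sup_le hRN (zpowers_le.2 hyN)) fun e => ?_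
    have htM : t ∈ normalizer (C.M : Set G) := by
      rw [← hLM, e]
      exact le_norm_of_conj fun q hq => hconjN q hq t (hTX htT)
    have hle := C.Wmax (cj t C.W) (cj_le_of_norm C.hWM htM) (C.hW2.map _) (fun m hm =>
      norm_cjH C.hMW (by
        have := conj_mem_of_norm (inv_mem htM) hm
        rwa [inv_inv] at this))
    rw [sW] at hle
    exact hs.cjW_ne h (eq_of_le_of_card_ge hle (card_cj s C.W).ge)
  have hRL : C.R < L := lt_of_le_not_ge le_sup_left fun hh =>
    A.not_mem_S (C.hRS (hh (mem_sup_right (mem_zpowers y))))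
  have hNlt : N < X := lt_of_le_not_ge hNX fun hh => htN (hh (hTX htT))
  have hXtop : X < ⊤ := by
    refine lt_top_iff_ne_top.2 fun e => ?_
    exact A.central_false h hu hu1 (fun q _ => e.ge (mem_top q))
  exact not_len h.h9 (len_step hXtop (len_step hNlt (len_step hLN (len_step hRL
    (len_two_group 5 _ (by rw [hR32]; norm_num))))))

end Cfsg.Agent.Len8
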