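import Cfsg.Agent.Len8.Small
import Cfsg.Agent.S0113

/-!
# `C_S(u)` of index two in `S` is impossible, and the conclusion of the local analysis
-/

set_option autoImplicit false
set_option linter.style.haveILetI false
set_option linter.unusedSectionVars false
set_option linter.unusedVariables false

namespace Cfsg.Agent.Len8

open Subgroup

variable {G : Type*} [Group G] [Finite G]
variable {C : Cfg G} {a y s u : G}

theorem mem_sup_invol {H : Subgroup G} {b x : G} (hn : b ∈ normalizer (H : Set G)) (hb : b * b = 1)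
    (hx : x ∈ H ⊔ zpowers b) : x ∈ H ∨ x * b ∈ H := by
  obtain ⟨p, hp, q, hq, rfl⟩ := mem_sup_mul (zpowers_le.2 hn) hx
  obtain ⟨m, rfl⟩ := mem_zpowers_iff.1 hq
  rcases Int.even_or_odd' m with ⟨j, rfl | rfl⟩
  · left; rw [zpow_mul, zpow_two, hb, one_zpow, mul_one]; exact hp
  · right; rw [zpow_add, zpow_mul, zpow_two, hb, one_zpow, one_mul, zpow_one, mul_assoc, hb, mul_one]
    exact hp

theorem not_two_top (h : Setup G) (L : Low C a y u) {X : Subgroup G} (hX : X ≤ centralizer ({u} : Set G))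
    (hX2 : IsPGroup 2 X) (hV : C.V ≤ X) (hR : C.R ≤ X) : Nat.card X ≤ 64 := by
  haveI : Fact (Nat.Prime 2) := ⟨Nat.prime_two⟩
  by_contra hlt
  obtain ⟨S', hS'⟩ := hX2.exists_le_sylow
  obtain ⟨r, hr⟩ := IsPGroup.iff_card.1 hX2
  have h7 : 7 ≤ r := by
    by_contra h6
    have : 2 ^ r ≤ 2 ^ 6 := Nat.pow_le_pow_right (by norm_num) (by omega)
    omega
  have heq : X = S' := eq_of_le_of_card_ge hS' (by
    rw [h.hS, hr]; exact Nat.pow_le_pow_right (by norm_num) h7)
  obtain ⟨z', hz'S, hz'2, hz'c⟩ := exists_central_involution S' (h.sylow_ne_bot S')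
  have hTS' : ∀ q ∈ X, q ∈ S' := fun q hq => hS' hq
  have hz'Z : z' ∈ C.Z1 := by
    have hz'W : z' ∈ C.W := (C.centV h).le (mem_cent.2 fun q hq => (hz'c q (hTS' q (hV hq))).symm)
    exact ⟨C.hWR hz'W, fun r hr => (hz'c r (hTS' r (hR hr))).symm,
      by rw [← sq, ← hz'2, pow_orderOf_eq_one]⟩
  have hS'u : ∀ q ∈ S', Commute q u := fun q hq => mem_cent1.1 (hX (heq.ge hq))
  refine not_two_group_of_mem Nat.prime_three (by norm_num) ?_ L.act.hy3 S'.2
  rw [← h.cent_eq S' L.hu1 hS'u]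
  exact mem_cent1.2 (mem_cent1.1 L.hu.2).symm

theorem cyclic_invol {X : Type*} [Group X] [Finite X] (hc : IsCyclic X) {p q : X} (hp : p * p = 1)
    (hq : q * q = 1) (hp1 : p ≠ 1) (hq1 : q ≠ 1) : p = q := by
  classical
  haveI := Fintype.ofFinite X
  by_contra hne
  have hle := IsCyclic.card_pow_eq_one_le (α := X) (n := 2) (by norm_num)
  have hsub : ({1, p, q} : Finset X) ⊆ Finset.univ.filter (fun x => x ^ 2 = 1) := by
    intro x hx
    simp only [Finset.mem_insert, Finset.mem_singleton] at hx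
    simp only [Finset.mem_filter, Finset.mem_univ, true_and]
    rcases hx with rfl | rfl | rfl
    exacts [one_pow 2, by rw [sq]; exact hp, by rw [sq]; exact hq]
  have h3 : ({1, p, q} : Finset X).card = 3 := by
    rw [Finset.card_insert_of_notMem, Finset.card_pair hne]
    simp [Ne.symm hp1, Ne.symm hq1]
  have := (Finset.card_le_card hsub).trans hle
  omega

open Classical in
set_option maxHeartbeats 1600000 in
theorem Low.large_cent (h : Setup G) (L : Low C a y u) (hs : Step C s) (ha : a ∈ cj s C.V)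
    (hsu : Commute s u)
    (hT : Nat.card ((C.S : Subgroup G) ⊓ centralizer ({u} : Set G) : Subgroup G) = 64) : False := by
  haveI : Fact (Nat.Prime 2) := ⟨Nat.prime_two⟩
  have A := L.act
  set T : Subgroup G := (C.S : Subgroup G) ⊓ centralizer ({u} : Set G) with hTdef
  have hTu : ∀ t ∈ T, Commute t u := fun t ht => mem_cent1.1 ht.2
  have hTS : T ≤ C.S := inf_le_left
  have hST : (C.S : Subgroup G) ≤ normalizer (T : Set G) :=
    norm_of_index_two hTS (by rw [h.hS, hT]; norm_num)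
  have hRT : C.R ≤ T := le_inf C.hRS fun r hr =>
    mem_cent1.2 (mem_cent.1 (C.R_le_centZ1 hr) u (L.u_Z1 h))
  have hVT : C.V ≤ T := (C.V_le.trans C.hWR).trans hRT
  have hT2 : IsPGroup 2 T := C.S.2.to_le hTS
  have hozT : oz T = C.Z1 := by
    ext q
    constructor
    · rintro ⟨hqT, hqc, hq2⟩
      have hqW : q ∈ C.W := (C.centV h).le (mem_cent.2 fun v hv => hqc v (hVT hv))
      exact ⟨C.hWR hqW, fun r hr => hqc r (hRT hr), hq2⟩
    · intro hq
      exact ⟨hRT hq.1, fun r hr => (L.commute_Z1 h (hTS hr) (hTu r hr) hq).symm, hq.2.2⟩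
  have hSZ : (C.S : Subgroup G) ≤ normalizer (C.Z1 : Set G) := hozT ▸ hST.trans oz_norm
  have hnle : ¬ (C.S : Subgroup G) ≤ T := fun hle => by
    have := card_le_of_le hle
    rw [h.hS, hT] at this
    norm_num at this
  obtain ⟨x, hxS, hxT⟩ := SetLike.not_le_iff_exists.1 hnle
  have hxu : x * u * x⁻¹ = u * C.z :=
    L.moved h hxS (hSZ hxS) fun hc => hxT ⟨hxS, mem_cent1.2 hc⟩
  have huz : ∃ g : G, g * u * g⁻¹ = u * C.z := ⟨x, hxu⟩
  have hx2 : x * x ∈ T := by
    have := mul_mem_of_card_two hTS (by rw [h.hS, hT]; norm_num) hxS hxS hxT hxT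
    exact this
  have hZT : C.Z1 ≤ T := fun q hq => hRT hq.1
  -- classes of involutions in `V`
  set v' := y * C.z * y⁻¹ with hv'def
  have hv'V : v' ∈ C.V := conj_mem_of_norm (C.hMV A.hy) C.z_mem_V
  have hyz : ¬ Commute y C.z := fun hc => A.not_mem_S (by
    show y ∈ (C.S : Subgroup G)
    rw [← C.centz h]; exact mem_cent1.2 hc)
  have hzclass : ∀ q ∈ C.Z1, ∀ g : G, g * C.z * g⁻¹ = q → q = C.z := by
    intro q hq g hg
    rcases A.Z1_four h L.hUc L.hu L.hu1 q hq with e | e | e | e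
    · exact absurd (conj_eq_one_iff.1 (hg.trans e)) C.z_ne
    · exact absurd (hg.trans e) (A.not_conj_u h L.hu g)
    · exact e
    · exfalso
      obtain ⟨g0, hg0⟩ := huz
      refine A.not_conj_u h L.hu (g0⁻¹ * g) ?_
      calc g0⁻¹ * g * C.z * (g0⁻¹ * g)⁻¹ = g0⁻¹ * (g * C.z * g⁻¹) * g0 := by group
        _ = g0⁻¹ * (g0 * u * g0⁻¹) * g0 := by rw [hg, e, hg0]
        _ = u := by group
  have hv'Z : v' ∉ C.Z1 := fun hh => hyz (mul_inv_eq_iff_eq_mul.1 (hzclass v' hh y rfl))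
  clear_value v'
  -- the derived subgroup
  set TD : Subgroup G := ⁅T, T⁆ with hTD
  have hTDmap : (commutator T).map T.subtype = TD := by
    rw [commutator_def, Subgroup.map_commutator, ← MonoidHom.range_eq_map, T.range_subtype]
  have hTDmem : ∀ p ∈ T, ∀ q ∈ T, p * q * p⁻¹ * q⁻¹ ∈ TD := fun p hp q hq =>
    Subgroup.commutator_mem_commutator hp hq
  have hTDle : TD ≤ T := hTDmap ▸ map_subtype_le _
  have hTDn : (C.S : Subgroup G) ≤ normalizer (TD : Set G) := fun g hg => norm_of_cj_eq (by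
    have hc := cj_eq_of_norm (hST hg)
    show (⁅T, T⁆).map _ = ⁅T, T⁆
    rw [Subgroup.map_commutator]
    exact congrArg (fun K : Subgroup G => ⁅K, K⁆) hc)
  set U0 : Subgroup T := (zpowers u).subgroupOf T with hU0
  have huT : u ∈ T := hVT L.hu.1
  have hU0mem : ∀ q : T, q ∈ U0 ↔ q.1 = 1 ∨ q.1 = u := by
    intro q
    rw [hU0, mem_subgroupOf]
    constructor
    · rintro ⟨m, hm⟩
      rcases Int.even_or_odd' m with ⟨j, rfl | rfl⟩
      · left; rw [← hm]; show u ^ (2 * j) = 1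
        rw [zpow_mul, zpow_two, L.hu.1.2.2, one_zpow]
      · right; rw [← hm]; show u ^ (2 * j + 1) = u
        rw [zpow_add, zpow_mul, zpow_two, L.hu.1.2.2, one_zpow, one_mul, zpow_one]
    · rintro (e | e) <;> rw [e]
      exacts [one_mem _, mem_zpowers u]
  haveI : U0.Normal := ⟨fun q hq g => by
    rw [hU0mem] at hq ⊢
    show g.1 * q.1 * g.1⁻¹ = 1 ∨ g.1 * q.1 * g.1⁻¹ = u
    rcases hq with e | e <;> rw [e]
    · left; group
    · right; rw [(hTu g.1 g.2).eq, mul_inv_cancel_right]⟩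
  have hu2 : orderOf u = 2 := orderOf_eq_prime (by rw [sq]; exact L.hu.1.2.2) L.hu1
  have hU0c : Nat.card U0 = 2 := by
    rw [hU0, Nat.card_congr (subgroupOfEquivOfLe (zpowers_le.2 huT)).toEquiv, Nat.card_zpowers, hu2]
  let π : T →* T ⧸ U0 := QuotientGroup.mk' U0
  have hπ : Function.Surjective π := QuotientGroup.mk'_surjective U0
  have hπ1 : ∀ q : T, π q = 1 ↔ q.1 = 1 ∨ q.1 = u := fun q => by
    rw [← hU0mem]; exact QuotientGroup.eq_one_iff q
  have hQ : Nat.card (T ⧸ U0) = 2 ^ 5 := by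
    have e := U0.card_eq_card_quotient_mul_card_subgroup
    rw [hT, hU0c] at e
    omega
  set Vb : Subgroup (T ⧸ U0) := (C.V.subgroupOf T).map π with hVb
  have hVb4 : Nat.card Vb = 2 ^ 2 := by
    have e1 : Vb.comap π = C.V.subgroupOf T := by
      rw [hVb, comap_map_eq, QuotientGroup.ker_mk', sup_eq_left]
      intro q hq
      rw [mem_subgroupOf]
      rcases (hU0mem q).1 hq with e | e <;> rw [e]
      exacts [one_mem _, L.hu.1]
    have e2 := index_comap_of_surjective Vb hπ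
    rw [e1] at e2
    have e3 := (C.V.subgroupOf T).card_mul_index
    rw [Nat.card_congr (subgroupOfEquivOfLe hVT).toEquiv, L.cardV, e2, hT] at e3
    have e4 := Vb.card_mul_index
    rw [hQ, show Vb.index = 8 by omega] at e4
    omega
  obtain ⟨v1, hv1Z, hv11, hv1⟩ := A.exists_v1 h
  have hv1U := A.v1_not_U h hv1
  have hVbC : centralizer (Vb : Set (T ⧸ U0)) = Vb := by
    refine le_antisymm (fun q hq => ?_) (fun q hq => mem_cent.2 fun p hp => ?_)
    · obtain ⟨t, rfl⟩ := hπ q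
      have hc : ∀ v ∈ C.V, t.1 * v * t.1⁻¹ * v⁻¹ = 1 ∨ t.1 * v * t.1⁻¹ * v⁻¹ = u := by
        intro v hv
        have hm : π ⟨v, hVT hv⟩ ∈ Vb := ⟨⟨v, hVT hv⟩, hv, rfl⟩
        have hcc := mem_cent.1 hq _ hm
        have e : π (t * ⟨v, hVT hv⟩ * t⁻¹ * (⟨v, hVT hv⟩ : T)⁻¹) = 1 := by
          rw [map_mul, map_mul, map_mul, map_inv, map_inv, hcc.eq]; group
        exact (hπ1 _).1 e
      have htn : t.1 ∈ normalizer (C.V : Set G) := le_norm_of_conj fun v hv => by
        rw [show t.1 * v * t.1⁻¹ = t.1 * v * t.1⁻¹ * v⁻¹ * v by group]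
        rcases hc v hv with e | e <;> rw [e]
        exacts [mul_mem (one_mem _) hv, mul_mem L.hu.1 hv]
      have htR : t.1 ∈ C.R := C.mem_R_of h ((C.normV h).le htn) (hTS t.2)
      refine ⟨t, ?_, rfl⟩
      show t.1 ∈ C.V
      by_contra htV
      have hqV : t.1 * a ∈ C.V := L.hWV ▸ A.mul_a_mem htR (L.hWV ▸ htV)
      have e : t.1 * v' * t.1⁻¹ * v'⁻¹ = v1 := by
        set p := t.1 * a
        have ht : t.1 = p * a := by simp [p, mul_assoc, A.haa]
        have hai : a⁻¹ = a := A.ai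
        have hcp : Commute p (a * v' * a) := C.elem_V.comm hqV (A.a_conj_mem_V hv'V)
        rw [ht, show p * a * v' * (p * a)⁻¹ * v'⁻¹ = p * (a * v' * a⁻¹) * p⁻¹ * v'⁻¹ by group, hai,
          hcp.eq, mul_inv_cancel_right, inv_eq_of_mul_eq_one_left hv'V.2.2,
          (C.elem_V.comm (A.a_conj_mem_V hv'V) hv'V).eq]
        exact hv1 v' hv'V hv'Z
      rcases hc v' hv'V with e1 | e1 <;> rw [e] at e1
      · exact hv11 e1
      · exact hv1U (e1 ▸ L.hu)
    · obtain ⟨v, hv, rfl⟩ := hq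
      obtain ⟨w, hw, rfl⟩ := hp
      have hvw : Commute v w := Subtype.ext (C.elem_V.comm hv hw).eq
      exact hvw.map π
  have hclass := S0112.result 5 hQ Vb hVb4 hVbC
  have hK := (S0115.result 5 (by norm_num) hQ).1 hclass
  have hQ' : (commutator T).map π = commutator (T ⧸ U0) := by
    rw [commutator_def, commutator_def, Subgroup.map_commutator, map_top_of_surjective π hπ]
  set P0 : Subgroup T := (commutator (T ⧸ U0)).comap π with hP0
  have hP0i : P0.index = 4 := by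
    rw [hP0, index_comap_of_surjective _ hπ, index_eq_card]
    exact hK.card_four
  have hP0eq : P0 = commutator T ⊔ U0 := by
    rw [hP0, ← hQ', comap_map_eq, QuotientGroup.ker_mk']
  set P : Subgroup G := TD ⊔ zpowers u with hPdef
  have hPmap : P0.map T.subtype = P := by
    rw [hP0eq, Subgroup.map_sup, hTDmap, hU0, map_subgroupOf_eq_of_le (zpowers_le.2 huT)]
  have hP16 : Nat.card P = 16 := by
    have e := P0.card_mul_index
    rw [hP0i, hT] at e
    rw [← hPmap, ← Nat.card_congr (P0.equivMapOfInjective _ T.subtype_injective).toEquiv]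
    omega
  have huTD : u ∉ TD := by
    intro hu'
    have hU : U0 ≤ commutator T := by
      intro q hq
      rcases (hU0mem q).1 hq with e | e
      · rw [show q = 1 from Subtype.ext e]; exact one_mem _
      · rw [← hTDmap] at hu'
        obtain ⟨p, hp, hpe⟩ := hu'
        rwa [show q = p from Subtype.ext (e.trans hpe.symm)]
    have hP0T : P0 = commutator T := by rw [hP0eq, sup_eq_left.2 hU]
    have hq4 : Nat.card (T ⧸ commutator T) = 4 := by rw [← index_eq_card, ← hP0T, hP0i]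
    haveI : Nontrivial (T ⧸ commutator T) :=
      Finite.one_lt_card_iff_nontrivial.1 (by rw [hq4]; norm_num)
    haveI hKT : IsKleinFour (T ⧸ commutator T) := by
      refine ⟨hq4, ?_⟩
      rw [Monoid.exponent_eq_prime_iff Nat.prime_two]
      intro q hq
      induction q using QuotientGroup.induction_on with
      | H t =>
        refine orderOf_eq_prime ?_ hq
        rw [← QuotientGroup.mk_pow, QuotientGroup.eq_one_iff, ← hP0T, hP0, mem_comap, map_pow]
        refine (QuotientGroup.eq_one_iff _).1 ?_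
        rw [QuotientGroup.mk_pow]
        exact hK.exponent_two ▸ Monoid.pow_exponent_eq_one _
    have hcl := (S0115.result 6 (by norm_num) (hT.trans (by norm_num) : Nat.card T = 2 ^ 6)).2 hKT
    obtain ⟨e⟩ := S0114.result 6 (by norm_num) (hT.trans (by norm_num)) hcl
    have hc : Nat.card (Subgroup.center T) = 2 := by
      have e1 := Nat.card_congr e.toEquiv
      rw [DihedralGroup.nat_card] at e1
      have e2 := (Subgroup.center T).card_eq_card_quotient_mul_card_subgroup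
      rw [e1, hT] at e2
      omega
    have hmem : ∀ q (hq : q ∈ C.Z1), (⟨q, hZT hq⟩ : T) ∈ Subgroup.center T := fun q hq =>
      mem_center_iff.2 fun t => Subtype.ext (L.commute_Z1 h (hTS t.2) (hTu t.1 t.2) hq).eq
    have hle : C.Z1.subgroupOf T ≤ Subgroup.center T := fun q hq => hmem q.1 hq
    have := card_le_of_le hle
    rw [Nat.card_congr (subgroupOfEquivOfLe hZT).toEquiv, L.cardZ1 h, hc] at this
    omega
  have hcomm1 : v1 ∈ TD := by
    have e : a * v' * a⁻¹ * v'⁻¹ = v1 := by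
      rw [A.ai, inv_eq_of_mul_eq_one_left hv'V.2.2,
        (C.elem_V.comm (A.a_conj_mem_V hv'V) hv'V).eq]
      exact hv1 v' hv'V hv'Z
    exact e ▸ hTDmem a (hRT A.haR) v' (hVT hv'V)
  have hzD : C.z ∈ TD := by
    rcases A.Z1_four h L.hUc L.hu L.hu1 v1 hv1Z with e | e | e | e
    · exact absurd e hv11
    · exact absurd (e ▸ hcomm1) huTD
    · exact e ▸ hcomm1
    · exfalso
      have h1 : u * C.z ∈ TD := e ▸ hcomm1
      have h2 := conj_mem_of_norm (hTDn (inv_mem hxS)) h1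
      rw [inv_inv, ← hxu, show x⁻¹ * (x * u * x⁻¹) * x = u by group] at h2
      exact huTD h2
  have hv1z : v1 = C.z := by
    rcases A.Z1_four h L.hUc L.hu L.hu1 v1 hv1Z with e | e | e | e
    · exact absurd e hv11
    · exact absurd (e ▸ hcomm1) huTD
    · exact e
    · exfalso
      refine huTD ?_
      have h1 : u * C.z ∈ TD := e ▸ hcomm1
      exact (mul_mem_cancel_right hzD).1 h1
  have huP : u ∈ P := mem_sup_right (mem_zpowers u)
  have hZP : C.Z1 ≤ P := by
    intro q hq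
    rcases A.Z1_four h L.hUc L.hu L.hu1 q hq with rfl | rfl | rfl | rfl
    exacts [one_mem _, huP, mem_sup_left hzD, mul_mem huP (mem_sup_left hzD)]
  -- the maximal subgroup without outside involutions
  obtain ⟨Cb, hCb, hCbi⟩ := S0113.result 5 (by norm_num) hQ hclass
  have hQCb : commutator (T ⧸ U0) ≤ Cb := by
    haveI := Subgroup.normal_of_index_eq_two hCbi
    have hq2 : Nat.card ((T ⧸ U0) ⧸ Cb) = 2 := hCbi
    haveI : IsCyclic ((T ⧸ U0) ⧸ Cb) := isCyclic_of_prime_card hq2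
    letI := IsCyclic.commGroup (α := (T ⧸ U0) ⧸ Cb)
    have h1 := Abelianization.commutator_subset_ker (QuotientGroup.mk' Cb)
    rwa [QuotientGroup.ker_mk'] at h1
  set Cc : Subgroup G := (Cb.comap π).map T.subtype with hCc
  have hCcT : Cc ≤ T := map_subtype_le _
  have hCc32 : Nat.card Cc = 32 := by
    have e := (Cb.comap π).card_mul_index
    rw [index_comap_of_surjective _ hπ, hCbi, hT] at e
    rw [hCc, ← Nat.card_congr ((Cb.comap π).equivMapOfInjective _ T.subtype_injective).toEquiv]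
    omega
  have hPCc : P ≤ Cc := by
    rw [← hPmap, hP0, hCc]; exact map_mono (comap_mono hQCb)
  have hCcInv : ∀ w ∈ Cc, w * w = 1 → w ∈ C.Z1 := by
    rintro _ ⟨q, hq, rfl⟩ hw2
    have hz : π ⟨C.z, hZT C.z_mem_Z1⟩ ∈ Cb := by
      obtain ⟨p, hp, hpe⟩ := hPCc (mem_sup_left hzD : C.z ∈ P)
      rw [show (⟨C.z, hZT C.z_mem_Z1⟩ : T) = p from Subtype.ext hpe.symm]
      exact hp
    have hz1 : π ⟨C.z, hZT C.z_mem_Z1⟩ ≠ 1 := fun e => by
      rcases (hπ1 _).1 e with e1 | e1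
      · exact C.z_ne e1
      · exact L.uz_ne h e1.symm
    show q.1 ∈ C.Z1
    by_cases hq1 : π q = 1
    · rcases (hπ1 q).1 hq1 with e | e <;> rw [e]
      exacts [one_mem _, L.u_Z1 h]
    · have hqq : q * q = 1 := Subtype.ext hw2
      have hzz : (⟨C.z, hZT C.z_mem_Z1⟩ : T) * ⟨C.z, hZT C.z_mem_Z1⟩ = 1 := Subtype.ext C.z_sq
      have e := cyclic_invol (X := Cb) hCb (p := ⟨π q, hq⟩) (q := ⟨π ⟨C.z, hZT C.z_mem_Z1⟩, hz⟩)
        (Subtype.ext (by
          show π q * π q = 1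
          rw [← map_mul, hqq, map_one]))
        (Subtype.ext (by
          show π ⟨C.z, hZT C.z_mem_Z1⟩ * π ⟨C.z, hZT C.z_mem_Z1⟩ = 1
          rw [← map_mul, hzz, map_one]))
        (fun e => hq1 (congrArg Subtype.val e)) (fun e => hz1 (congrArg Subtype.val e))
      have e2 : π (q * (⟨C.z, hZT C.z_mem_Z1⟩ : T)⁻¹) = 1 := by
        have e' : π q = π ⟨C.z, hZT C.z_mem_Z1⟩ := congrArg Subtype.val e
        rw [map_mul, map_inv, e', mul_inv_cancel]
      have hq3 : q.1 = q.1 * C.z⁻¹ * C.z := by group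
      rw [hq3]
      refine mul_mem ?_ C.z_mem_Z1
      rcases (hπ1 _).1 e2 with e3 | e3
      · rw [show q.1 * C.z⁻¹ = 1 from e3]; exact one_mem _
      · rw [show q.1 * C.z⁻¹ = u from e3]; exact L.u_Z1 h
  -- the conjugates of `V ∖ Z1` fill `T ∖ Cc`
  set R' : Subgroup (C.S : Subgroup G) := C.R.subgroupOf C.S with hR'
  let f : ((C.S : Subgroup G) ⧸ R') × C.Z1 → G := fun p => p.1.out.1 * (v' * p.2.1) * p.1.out.1⁻¹
  have hvc : ∀ c ∈ C.Z1, v' * c ∈ C.V ∧ v' * c ∉ C.Z1 := fun c hc =>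
    ⟨mul_mem hv'V (A.Z1_le h hc), fun hh => hv'Z ((mul_mem_cancel_right hc).1 hh)⟩
  have hfinj : Function.Injective f := by
    rintro ⟨p, c⟩ ⟨q, d⟩ e
    simp only [f] at e
    have hsup : ∀ (g : G), g ∈ C.S → ∀ c ∈ C.Z1,
        C.Z1 ⊔ zpowers (g * (v' * c) * g⁻¹) = cj g C.V := by
      intro g hg c hc
      have hle : C.Z1 ≤ cj g C.V := fun q hq => mem_cj.2 (A.Z1_le h (by
        have := conj_mem_of_norm (inv_mem (hSZ hg)) hq
        rwa [inv_inv] at this))
      refine sup_zpowers_eq hle (by rw [card_cj, A.card_V_Z1 h]) (cj_mem (hvc c hc).1) fun hh => ?_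
      have := conj_mem_of_norm (inv_mem (hSZ hg)) hh
      rw [inv_inv, show g⁻¹ * (g * (v' * c) * g⁻¹) * g = v' * c by group] at this
      exact (hvc c hc).2 this
    have h1 := hsup _ p.out.2 _ c.2
    rw [e, hsup _ q.out.2 _ d.2] at h1
    have h2 : cj (p.out.1⁻¹ * q.out.1) C.V = C.V := by
      rw [← cj_cj, h1, cj_cj, inv_mul_cancel, cj_eq_of_norm (one_mem _)]
    have hpq : p = q := by
      rw [← QuotientGroup.out_eq' p, ← QuotientGroup.out_eq' q, QuotientGroup.eq]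
      show (p.out⁻¹ * q.out : (C.S : Subgroup G)).1 ∈ C.R
      exact C.mem_R_of h ((C.normV h).le (norm_of_cj_eq h2)) (p.out⁻¹ * q.out).2
    subst hpq
    exact Prod.ext rfl (Subtype.ext (mul_left_cancel (mul_left_cancel (mul_right_cancel e))))
  have hfrange : Set.range f ⊆ (T : Set G) \ (Cc : Set G) := by
    rintro _ ⟨⟨p, c⟩, rfl⟩
    refine ⟨conj_mem_of_norm (hST p.out.2) (hVT (hvc c.1 c.2).1), fun hh => ?_⟩
    have hz := hCcInv _ hh (by
      show p.out.1 * (v' * c.1) * p.out.1⁻¹ * (p.out.1 * (v' * c.1) * p.out.1⁻¹) = 1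
      rw [show p.out.1 * (v' * c.1) * p.out.1⁻¹ * (p.out.1 * (v' * c.1) * p.out.1⁻¹)
        = p.out.1 * (v' * c.1 * (v' * c.1)) * p.out.1⁻¹ by group, (hvc c.1 c.2).1.2.2]; group)
    have := conj_mem_of_norm (inv_mem (hSZ p.out.2)) hz
    rw [inv_inv, show p.out.1⁻¹ * (p.out.1 * (v' * c.1) * p.out.1⁻¹) * p.out.1 = v' * c.1 by group]
      at this
    exact (hvc c.1 c.2).2 this
  have hfc : (Set.range f).ncard = 32 := by
    rw [Set.ncard_range_of_injective hfinj, Nat.card_prod, L.cardZ1 h]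
    have e := R'.card_mul_index
    rw [Nat.card_congr (subgroupOfEquivOfLe C.hRS).toEquiv, L.cardR, h.hS] at e
    rw [← index_eq_card, show R'.index = 8 by omega]
  have hcov : ∀ w ∈ T, w ∉ Cc → ∃ q ∈ C.S, ∃ c ∈ C.Z1, q * (v' * c) * q⁻¹ = w := by
    intro w hw hwC
    have hdiff : ((T : Set G) \ (Cc : Set G)).ncard = 32 := by
      rw [Set.ncard_sdiff (show (Cc : Set G) ⊆ T from hCcT) (Set.toFinite _)]
      show Nat.card T - Nat.card Cc = 32
      rw [hT, hCc32]
    have heq := Set.eq_of_subset_of_ncard_le hfrange (by rw [hdiff, hfc]) (Set.toFinite _)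
    obtain ⟨⟨p, c⟩, hpc⟩ := heq.ge (show w ∈ (T : Set G) \ Cc from ⟨hw, hwC⟩)
    exact ⟨p.out.1, p.out.2, c.1, c.2, hpc⟩
  -- `D`
  set v3 := x * v' * x⁻¹ with hv3
  have hv'Cc : v' ∉ Cc := fun hh => hv'Z (hCcInv v' hh hv'V.2.2)
  have hv3T : v3 ∈ T := conj_mem_of_norm (hST hxS) (hVT hv'V)
  have hv33 : v3 * v3 = 1 := by
    rw [hv3, show x * v' * x⁻¹ * (x * v' * x⁻¹) = x * (v' * v') * x⁻¹ by group, hv'V.2.2]; group
  have hv3Cc : v3 ∉ Cc := fun hh => by
    have := conj_mem_of_norm (inv_mem (hSZ hxS)) (hCcInv v3 hh hv33)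
    rw [inv_inv, hv3, show x⁻¹ * (x * v' * x⁻¹) * x = v' by group] at this
    exact hv'Z this
  have hup : ∀ H : Subgroup G, TD ≤ H → H ≤ T → T ≤ normalizer (H : Set G) := by
    intro H hH hHT p hp
    refine le_norm_of_conj fun q hq => ?_
    rw [show p * q * p⁻¹ = p * q * p⁻¹ * q⁻¹ * q by group]
    exact mul_mem (hH (hTDmem p hp q (hHT hq))) hq
  have hTDP : TD ≤ P := le_sup_left
  have hPT : P ≤ T := hPCc.trans hCcT
  have hPS : (C.S : Subgroup G) ≤ normalizer (P : Set G) := by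
    intro g hg
    refine le_norm_of_conj fun q hq => ?_
    have hle : P ≤ cj g⁻¹ P := sup_le (fun p hp => mem_cj.2 (by
        rw [inv_inv]; exact hTDP (conj_mem_of_norm (hTDn hg) hp)))
      (zpowers_le.2 (mem_cj.2 (by
        rw [inv_inv]; exact hZP (conj_mem_of_norm (hSZ hg) (L.u_Z1 h)))))
    simpa using mem_cj.1 (hle hq)
  have hv'v3 : v' * v3 ∉ P := by
    intro hh
    have hall : ∀ q ∈ C.S, ∀ c ∈ C.Z1, v' * (q * (v' * c) * q⁻¹) ∈ P := by
      intro q hq c hc
      have hcP : q * c * q⁻¹ ∈ P := hZP (conj_mem_of_norm (hSZ hq) hc)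
      rw [show v' * (q * (v' * c) * q⁻¹) = v' * (q * v' * q⁻¹) * (q * c * q⁻¹) by group]
      refine mul_mem ?_ hcP
      by_cases hqT : q ∈ T
      · have := hTDP (hTDmem v' (hVT hv'V) q hqT)
        rwa [inv_eq_of_mul_eq_one_left hv'V.2.2,
          show v' * q * v' * q⁻¹ = v' * (q * v' * q⁻¹) by group] at this
      · have hm : q * x⁻¹ ∈ T := by
          have h1 := mul_mem_of_card_two hTS (by rw [h.hS, hT]; norm_num) hq (inv_mem hxS) hqT
            (fun hh => hxT (inv_mem_iff.1 hh))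
          exact h1
        set t := q * x⁻¹
        have e : q * v' * q⁻¹ = t * v3 * t⁻¹ * v3⁻¹ * v3 := by simp [t, hv3, mul_assoc]
        rw [e, ← mul_assoc]
        have h2 : t * v3 * t⁻¹ * v3⁻¹ ∈ P := hTDP (hTDmem t hm v3 hv3T)
        rw [show v' * (t * v3 * t⁻¹ * v3⁻¹) * v3
          = v' * (t * v3 * t⁻¹ * v3⁻¹) * v'⁻¹ * (v' * v3) by group]
        exact mul_mem (conj_mem_of_norm (hPS (hTS (hVT hv'V))) h2) hh
    let F : ((C.S : Subgroup G) ⧸ R') × C.Z1 → P := fun p =>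
      ⟨v' * f p, hall _ p.1.out.2 _ p.2.2⟩
    have hF : Function.Injective F := fun p q e => hfinj (mul_left_cancel (congrArg Subtype.val e))
    have := Nat.card_le_card_of_injective F hF
    rw [← Set.ncard_range_of_injective hfinj, hfc, hP16] at this
    omega
  set D1 : Subgroup G := TD ⊔ zpowers v' with hD1
  set D : Subgroup G := D1 ⊔ zpowers v3 with hD
  have hD1T : D1 ≤ T := sup_le hTDle (zpowers_le.2 (hVT hv'V))
  have hDT : D ≤ T := sup_le hD1T (zpowers_le.2 hv3T)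
  have hTDD : TD ≤ D := le_sup_left.trans le_sup_left
  have hD1n : v3 ∈ normalizer (D1 : Set G) := hup D1 le_sup_left hD1T hv3T
  have hTDv : v' ∈ normalizer (TD : Set G) := hTDn (hTS (hVT hv'V))
  have hDdec : ∀ d ∈ D, ∃ o, (o = 1 ∨ o = v' ∨ o = v3 ∨ o = v3 * v') ∧ d * o ∈ TD := by
    intro d hd
    rcases mem_sup_invol hD1n hv33 hd with h1 | h1
    · rcases mem_sup_invol hTDv hv'V.2.2 h1 with h2 | h2
      · exact ⟨1, Or.inl rfl, by rwa [mul_one]⟩
      · exact ⟨v', Or.inr (Or.inl rfl), h2⟩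
    · rcases mem_sup_invol hTDv hv'V.2.2 h1 with h2 | h2
      · exact ⟨v3, Or.inr (Or.inr (Or.inl rfl)), h2⟩
      · exact ⟨v3 * v', Or.inr (Or.inr (Or.inr rfl)), by rwa [← mul_assoc]⟩
  have huD : u ∉ D := by
    intro hu'
    obtain ⟨o, ho, hm⟩ := hDdec u hu'
    have hoP : o ∈ P := (mul_mem_cancel_left huP).1 (hTDP hm)
    rcases ho with rfl | rfl | rfl | rfl
    · rw [mul_one] at hm; exact huTD hm
    · exact hv'Cc (hPCc hoP)
    · exact hv3Cc (hPCc hoP)
    · refine hv'v3 ?_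
      have := inv_mem hoP
      rwa [mul_inv_rev, inv_eq_of_mul_eq_one_left hv'V.2.2, inv_eq_of_mul_eq_one_left hv33] at this
  have hSD : (C.S : Subgroup G) ≤ normalizer (D : Set G) := by
    intro g hg
    have hTn : T ≤ normalizer (D : Set G) := hup D hTDD hDT
    have hxn : x ∈ normalizer (D : Set G) := by
      refine le_norm_of_conj fun q hq => ?_
      have hle : D ≤ cj x⁻¹ D := by
        refine sup_le (sup_le (fun p hp => mem_cj.2 ?_) (zpowers_le.2 (mem_cj.2 ?_)))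
          (zpowers_le.2 (mem_cj.2 ?_))
        · rw [inv_inv]; exact hTDD (conj_mem_of_norm (hTDn hxS) hp)
        · rw [inv_inv, ← hv3]; exact mem_sup_right (mem_zpowers _)
        · rw [inv_inv, hv3, show x * (x * v' * x⁻¹) * x⁻¹
            = (x * x) * v' * (x * x)⁻¹ * v'⁻¹ * v' by group]
          exact mul_mem (hTDD (hTDmem _ hx2 v' (hVT hv'V)))
            (mem_sup_left (mem_sup_right (mem_zpowers _)))
      simpa using mem_cj.1 (hle hq)
    by_cases hgT : g ∈ T
    · exact hTn hgT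
    · have hm := mul_mem_of_card_two hTS (by rw [h.hS, hT]; norm_num) hg (inv_mem hxS) hgT
        (fun hh => hxT (inv_mem_iff.1 hh))
      rw [show g = g * x⁻¹ * x by group]
      exact mul_mem (hTn hm) hxn
  have hun : u ∈ normalizer (D : Set G) := hSD (hTS huT)
  have hDu : D ⊔ zpowers u = T := by
    refine eq_of_le_of_card_ge (sup_le hDT (zpowers_le.2 huT)) ?_
    have hPD : P ⊔ zpowers v' ≤ D ⊔ zpowers u :=
      sup_le (sup_le (hTDD.trans le_sup_left) le_sup_right)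
        (zpowers_le.2 (mem_sup_left (mem_sup_left (mem_sup_right (mem_zpowers v')))))
    have hPvc : Nat.card (P ⊔ zpowers v' : Subgroup G) = 32 := by
      rw [card_sup_zpowers (hPS (hTS (hVT hv'V))) (fun hh => hv'Cc (hPCc hh))
        (by rw [hv'V.2.2]; exact one_mem _), hP16]
    have hv3n : v3 ∉ P ⊔ zpowers v' := by
      intro hh
      rcases mem_sup_invol (hPS (hTS (hVT hv'V))) hv'V.2.2 hh with h1 | h1
      · exact hv3Cc (hPCc h1)
      · refine hv'v3 ?_
        have := inv_mem h1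
        rwa [mul_inv_rev, inv_eq_of_mul_eq_one_left hv'V.2.2, inv_eq_of_mul_eq_one_left hv33] at this
    have hlt : P ⊔ zpowers v' < D ⊔ zpowers u := lt_of_le_not_ge hPD fun hh =>
      hv3n (hh (mem_sup_left (mem_sup_right (mem_zpowers v3))))
    obtain ⟨k, hk⟩ := card_dvd_of_le hlt.le
    have hk2 : 2 ≤ k := by
      by_contra h2
      refine hlt.ne (eq_of_le_of_card_ge hlt.le ?_)
      rw [hk]
      exact (Nat.mul_le_mul_left _ (by omega : k ≤ 1)).trans_eq (mul_one _)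
    rw [hT, hk, hPvc]
    omega
  have hD32 : Nat.card D = 32 := by
    have e := card_sup_zpowers hun huD (by rw [L.hu.1.2.2]; exact one_mem _)
    rw [hDu, hT] at e
    omega
  -- conjugates of `u` in `S` are congruent to `u` modulo `D`
  have hzD2 : C.z ∈ D := hTDD hzD
  have hconjuD : ∀ q ∈ C.S, ∀ w : G, w * u ∈ D → q * w * q⁻¹ * u ∈ D := by
    intro q hq w hw
    have h1 := conj_mem_of_norm (hSD hq) hw
    have h2 : q * u * q⁻¹ * u ∈ D := by
      by_cases hc : Commute q u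
      · rw [hc.eq, mul_inv_cancel_right, L.hu.1.2.2]; exact one_mem _
      · rw [L.moved h hq (hSZ hq) hc, (C.elem_V.comm L.hu.1 C.z_mem_V).eq, mul_assoc,
          L.hu.1.2.2, mul_one]
        exact hzD2
    rw [show q * w * q⁻¹ * u = q * (w * u) * q⁻¹ * (q * u⁻¹ * q⁻¹ * u) by group,
      inv_eq_of_mul_eq_one_left L.hu.1.2.2]
    exact mul_mem h1 h2
  have hzcV : ∀ w ∈ C.V, ∀ g : G, g * C.z * g⁻¹ = w → ∃ n : ℕ, w = (y ^ n)⁻¹ * C.z * y ^ n :=
    fun w hw g hg => A.z_class h L.hUc L.hu L.hu1 huz hw hg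
  have hxC : ∀ g : G, g⁻¹ * u * g ∈ C.S → g⁻¹ * u * g * u ∈ D := by
    intro g hgu
    set w := g⁻¹ * u * g with hw
    have hww : w * w = 1 := by
      rw [hw, show g⁻¹ * u * g * (g⁻¹ * u * g) = g⁻¹ * (u * u) * g by group, L.hu.1.2.2]; group
    have hw1 : w ≠ 1 := fun e => L.hu1 (by
      have := congrArg (fun q => g * q * g⁻¹) e
      simpa [hw, mul_assoc] using this)
    have hwconj : g * w * g⁻¹ = u := by rw [hw]; group
    -- move the conjugate of `z` into `T`
    set X : Subgroup G := centralizer ({u} : Set G) with hX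
    have hz0 : g * C.z * g⁻¹ ∈ X := by
      have := conj_commute (g := g) (C.hzc w hgu).symm
      rw [hwconj] at this
      exact mem_cent1.2 this
    have hTX : T ≤ X := inf_le_right
    obtain ⟨P1, hP1⟩ := (hT2.comap_of_injective X.subtype X.subtype_injective).exists_le_sylow
    have hP1T : (P1 : Subgroup X).map X.subtype = T := by
      have hle : T ≤ (P1 : Subgroup X).map X.subtype := fun q hq =>
        ⟨⟨q, hTX hq⟩, hP1 (show (⟨q, hTX hq⟩ : X) ∈ T.comap X.subtype from hq), rfl⟩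
      refine (eq_of_le_of_card_ge hle ?_).symm
      rw [hT]
      exact not_two_top h L (map_subtype_le _) (P1.2.map _) (hVT.trans hle) (hRT.trans hle)
    have hz00 : (⟨g * C.z * g⁻¹, hz0⟩ : X) ^ 2 ^ 1 = 1 := Subtype.ext (by
      show (g * C.z * g⁻¹) ^ 2 ^ 1 = 1
      rw [pow_one, sq, show g * C.z * g⁻¹ * (g * C.z * g⁻¹) = g * (C.z * C.z) * g⁻¹ by group,
        C.z_sq]; group)
    obtain ⟨P2, hP2⟩ := (two_group_zpowers hz00).exists_le_sylow
    obtain ⟨c, hc⟩ := MulAction.exists_smul_eq X P2 P1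
    have hcz : c.1 * (g * C.z * g⁻¹) * c.1⁻¹ ∈ T := by
      rw [← hP1T]
      refine ⟨c * ⟨g * C.z * g⁻¹, hz0⟩ * c⁻¹, ?_, rfl⟩
      rw [← hc]
      show _ ∈ (↑(c • P2) : Subgroup X)
      rw [Sylow.coe_subgroup_smul]
      exact ⟨_, hP2 (mem_zpowers _), rfl⟩
    set g' := c.1 * g with hg'
    have hcu : c.1 * u * c.1⁻¹ = u := by rw [(mem_cent1.1 c.2).eq, mul_inv_cancel_right]
    have hg'w : g' * w * g'⁻¹ = u := by
      rw [hg', show c.1 * g * w * (c.1 * g)⁻¹ = c.1 * (g * w * g⁻¹) * c.1⁻¹ by group, hwconj, hcu]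
    have hz1 : g' * C.z * g'⁻¹ ∈ T := by
      rw [hg', show c.1 * g * C.z * (c.1 * g)⁻¹ = c.1 * (g * C.z * g⁻¹) * c.1⁻¹ by group]
      exact hcz
    have hz12 : g' * C.z * g'⁻¹ * (g' * C.z * g'⁻¹) = 1 := by
      rw [show g' * C.z * g'⁻¹ * (g' * C.z * g'⁻¹) = g' * (C.z * C.z) * g'⁻¹ by group, C.z_sq]
      group
    have hwT : w ∈ T := by
      by_cases hzCc : g' * C.z * g'⁻¹ ∈ Cc
      · have hgS : g' ∈ C.S := by
          show g' ∈ (C.S : Subgroup G)
          rw [← C.centz h]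
          exact mem_cent1.2 (mul_inv_eq_iff_eq_mul.1 (hzclass _ (hCcInv _ hzCc hz12) g' rfl))
        rw [show w = g'⁻¹ * (g' * w * g'⁻¹) * g'⁻¹⁻¹ by group, hg'w]
        exact conj_mem_of_norm (hST (inv_mem hgS)) huT
      · obtain ⟨q, hq, c0, hc0, hqe⟩ := hcov _ hz1 hzCc
        set f0 := g'⁻¹ * q with hf0
        have hfz : f0⁻¹ * C.z * f0 ∈ C.V := by
          rw [hf0, show (g'⁻¹ * q)⁻¹ * C.z * (g'⁻¹ * q) = q⁻¹ * (g' * C.z * g'⁻¹) * q by group,
            ← hqe, show q⁻¹ * (q * (v' * c0) * q⁻¹) * q = v' * c0 by group]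
          exact (hvc c0 hc0).1
        have hfw : f0⁻¹ * w * f0 ∈ C.V := by
          rw [hf0, show (g'⁻¹ * q)⁻¹ * w * (g'⁻¹ * q) = q⁻¹ * (g' * w * g'⁻¹) * q by group, hg'w]
          refine A.Z1_le h ?_
          have := conj_mem_of_norm (hSZ (inv_mem hq)) (L.u_Z1 h)
          rwa [inv_inv] at this
        obtain ⟨n, hn⟩ := hzcV _ hfz f0⁻¹ (by rw [inv_inv])
        set f1 := f0 * (y ^ n)⁻¹ with hf1
        have hf1S : f1 ∈ C.S := by
          show f1 ∈ (C.S : Subgroup G)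
          rw [← C.centz h, mem_cent1]
          show f1 * C.z = C.z * f1
          have e : C.z = f0 * ((y ^ n)⁻¹ * C.z * y ^ n) * f0⁻¹ := by rw [← hn]; group
          calc f1 * C.z = f0 * ((y ^ n)⁻¹ * C.z * y ^ n) * f0⁻¹ * f1 := by rw [hf1]; group
            _ = C.z * f1 := by rw [← e]
        have hm : f1⁻¹ * w * f1 ∈ C.V := by
          rw [hf1, show (f0 * (y ^ n)⁻¹)⁻¹ * w * (f0 * (y ^ n)⁻¹)
            = y ^ n * (f0⁻¹ * w * f0) * (y ^ n)⁻¹ by group]
          exact conj_mem_of_norm (C.hMV (pow_mem A.hy n)) hfw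
        rw [show w = f1 * (f1⁻¹ * w * f1) * f1⁻¹ by group]
        exact conj_mem_of_norm (hST hf1S) (hVT hm)
    by_cases hwC : w ∈ Cc
    · rcases A.Z1_four h L.hUc L.hu L.hu1 w (hCcInv w hwC hww) with e | e | e | e
      · exact absurd e hw1
      · rw [e, L.hu.1.2.2]; exact one_mem _
      · exfalso
        refine A.not_conj_u h L.hu g ?_
        rw [← e]; exact hwconj
      · rw [e, (C.elem_V.comm L.hu.1 C.z_mem_V).eq, mul_assoc, L.hu.1.2.2, mul_one]; exact hzD2
    obtain ⟨q, hq, c0, hc0, hqe⟩ := hcov w hwT hwC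
    rw [← hqe]
    refine hconjuD q hq _ ?_
    have hnot : ∀ c1 ∈ C.Z1, (c1 = 1 ∨ c1 = C.z) → c0 ≠ c1 := by
      intro c1 _ hc1 e
      -- `v'` and `v' z` are conjugates of `z`
      have hconj : ∃ g1 : G, g1 * C.z * g1⁻¹ = v' * c0 := by
        rcases hc1 with h1 | h1 <;> rw [e, h1]
        · exact ⟨y, by rw [mul_one, hv'def]⟩
        · refine ⟨a * y, ?_⟩
          have e1 : a * v' * a = v' * C.z := by
            rw [← hv1z, ← hv1 v' hv'V hv'Z, ← mul_assoc, hv'V.2.2, one_mul]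
          rw [← e1, mul_inv_rev, A.ai, hv'def]; group
      obtain ⟨g1, hg1⟩ := hconj
      refine A.not_conj_u h L.hu (g * (q * g1)) ?_
      rw [show g * (q * g1) * C.z * (g * (q * g1))⁻¹ = g * (q * (g1 * C.z * g1⁻¹) * q⁻¹) * g⁻¹ by
        group, hg1, hqe, hwconj]
    have hv'D : v' ∈ D := mem_sup_left (mem_sup_right (mem_zpowers v'))
    rcases A.Z1_four h L.hUc L.hu L.hu1 c0 hc0 with e | e | e | e
    · exact absurd e (hnot 1 (one_mem _) (Or.inl rfl))
    · rw [e, mul_assoc, L.hu.1.2.2, mul_one]; exact hv'D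
    · exact absurd e (hnot _ C.z_mem_Z1 (Or.inr rfl))
    · rw [e, (C.elem_V.comm L.hu.1 C.z_mem_V).eq,
        show v' * (C.z * u) * u = v' * C.z * (u * u) by group, L.hu.1.2.2, mul_one]
      exact mul_mem hv'D hzD2
  -- transfer to `S / D`
  set H : Subgroup G := (C.S : Subgroup G) with hH
  set D' : Subgroup H := D.subgroupOf H with hD'
  haveI hD'n : D'.Normal := normal_subgroupOf_of_le_normalizer hSD
  have hq4 : Nat.card (H ⧸ D') = 2 ^ 2 := by
    have e := D'.card_eq_card_quotient_mul_card_subgroup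
    rw [Nat.card_congr (subgroupOfEquivOfLe (hDT.trans hTS)).toEquiv, hD32, h.hS] at e
    omega
  letI : CommGroup (H ⧸ D') :=
    IsPGroup.commGroupOfCardEqPrimeSq (p := 2) hq4
  let φ : H →* H ⧸ D' := QuotientGroup.mk' D'
  have hmemD : ∀ q : H, φ q = 1 ↔ q.1 ∈ D := fun q => by
    rw [QuotientGroup.mk'_apply, QuotientGroup.eq_one_iff]; rfl
  have huH : u ∈ H := hTS huT
  have huu : (⟨u, huH⟩ : H) * ⟨u, huH⟩ = 1 := Subtype.ext L.hu.1.2.2
  set α := φ ⟨u, huH⟩ with hα
  have hodd : Odd H.index := by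
    rw [← Nat.not_even_iff_odd, even_iff_two_dvd]
    exact C.S.not_dvd_index
  have hval : MonoidHom.transfer φ u = α := by
    refine transfer_value H φ hodd u (L.hu.1.2.2.symm ▸ one_mem _) (L.hu.1.2.2.symm ▸ one_mem _) α
      ?_ ?_ ?_
    · rw [hα, ← map_mul, huu, map_one]
    · rw [hmemD]
      exact Set.mem_of_eq_of_mem L.hu.1.2.2 (one_mem D)
    · intro g hm
      rw [hα, ← mul_inv_eq_one, ← map_inv, ← map_mul, hmemD]
      show g⁻¹ * u * g * u⁻¹ ∈ D
      rw [inv_eq_of_mul_eq_one_left L.hu.1.2.2]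
      exact hxC g hm
  have hα1 : α ≠ 1 := fun e => huD ((hmemD _).1 e)
  haveI := h.simple
  rcases (MonoidHom.normal_ker (MonoidHom.transfer φ)).eq_bot_or_eq_top with hb | ht
  · obtain ⟨p, q, hpq⟩ := h.nonab
    refine hpq ((MonoidHom.ker_eq_bot_iff _).1 hb ?_)
    rw [map_mul, map_mul, mul_comm]
  · have : u ∈ (MonoidHom.transfer φ).ker := ht ▸ mem_top u
    rw [MonoidHom.mem_ker, hval] at this
    exact hα1 this

/-- The local analysis: a self-centralising four-group of `S`. -/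
theorem Setup.exists_four (h : Setup G) :
    ∃ (S : Sylow 2 G) (V : Subgroup G), V ≤ S ∧ Nat.card V = 4 ∧ Elem V ∧
      centralizer (V : Set G) = V := by
  classical
  haveI : Fact (Nat.Prime 2) := ⟨Nat.prime_two⟩
  obtain ⟨C⟩ := h.exists_cfg
  obtain ⟨a0, y0, A0⟩ := C.exists_act h
  obtain ⟨s, hsS, hsN, hsR, hs2⟩ := C.exists_s h
  have hs : Step C s := ⟨hsS, hsN, hsR, hs2⟩
  by_cases hU0 : 4 ≤ Nat.card (C.U y0)
  · exact (A0.big h hs hU0).elim
  obtain ⟨d, hd⟩ := IsPGroup.iff_card.1 (C.hW2.to_le (show C.U y0 ≤ C.W from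
    inf_le_left.trans C.V_le))
  have hU2 : Nat.card (C.U y0) ≤ 2 := by
    rcases d with _ | _ | d
    · rw [hd]; norm_num
    · rw [hd]; norm_num
    · exfalso
      refine hU0 ?_
      rw [hd, show (4 : ℕ) = 2 ^ 2 by norm_num]
      exact Nat.pow_le_pow_right (by norm_num) (by omega)
  by_cases hB : cj s C.V ≤ C.W
  · exact (A0.caseB h hs hU2 hB).elim
  obtain ⟨a, y, A, ha, hK, hVK⟩ := A0.improve h hs hB
  have e4 : Nat.card C.V = 4 * Nat.card (C.U y) := A.hU
  have e40 : Nat.card C.V = 4 * Nat.card (C.U y0) := A0.hU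
  have hU2' : Nat.card (C.U y) ≤ 2 := by omega
  by_cases hWV : C.W = C.V
  swap
  · exact (five h A hs ha hK hVK hU2' hWV).elim
  by_cases hU1 : Nat.card (C.U y) = 1
  · refine ⟨C.S, C.V, (C.V_le.trans C.hWR).trans C.hRS, by rw [e4, hU1],
      C.elem_V, ?_⟩
    rw [C.centV h, hWV]
  have hUc : Nat.card (C.U y) = 2 := by
    have := Nat.card_pos (α := C.U y)
    omega
  obtain ⟨u, hu, hu1⟩ := (nontrivial_iff_exists_ne_one _).1
    (Finite.one_lt_card_iff_nontrivial.1 (by rw [hUc]; norm_num : 1 < Nat.card (C.U y)))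
  have L : Low C a y u := ⟨A, hWV, hUc, hu, hu1⟩
  have hsu := L.exists_fixing h hs
  exfalso
  set T1 : Subgroup G := (C.S : Subgroup G) ⊓ centralizer ({u} : Set G) with hT1
  have hle : C.R ⊔ zpowers s ≤ T1 := le_inf hs.ext_le (sup_le
    (fun r hr => mem_cent1.2 (mem_cent.1 (C.R_le_centZ1 hr) u (L.u_Z1 h)))
    (zpowers_le.2 (mem_cent1.2 hsu)))
  have h64 : Nat.card T1 ≤ 64 := not_two_top h L inf_le_right (C.S.2.to_le inf_le_left)
    (((C.V_le.trans C.hWR).trans le_sup_left).trans hle) ((le_sup_left).trans hle)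
  obtain ⟨r, hr⟩ := IsPGroup.iff_card.1 (C.S.2.to_le (inf_le_left : T1 ≤ _))
  have h32 : Nat.card (C.R ⊔ zpowers s : Subgroup G) = 32 := by rw [hs.card_ext, L.cardR]
  have hr5 : 5 ≤ r := by
    have := card_le_of_le hle
    rw [h32, hr, show (32 : ℕ) = 2 ^ 5 by norm_num] at this
    exact (Nat.pow_le_pow_iff_right (by norm_num : 1 < 2)).1 this
  have hr6 : r ≤ 6 := by
    rw [hr, show (64 : ℕ) = 2 ^ 6 by norm_num] at h64
    exact (Nat.pow_le_pow_iff_right (by norm_num : 1 < 2)).1 h64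
  rcases (by omega : r = 5 ∨ r = 6) with rfl | rfl
  · exact L.small_cent h hs ha (eq_of_le_of_card_ge hle (by rw [h32, hr]; norm_num)).symm
  · exact L.large_cent h hs ha hsu (by rw [hr]; norm_num)

end Cfsg.Agent.Len8
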