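import Cfsg.Agent.Len8.Act
import Cfsg.Agent.Lib.PGroup.Basic

/-!
# Pushing up
-/

set_option autoImplicit false
set_option linter.style.haveILetI false
set_option linter.unusedSectionVars false
set_option linter.unusedVariables false

namespace Cfsg.Agent.Len8

open Subgroup

variable {G : Type*} [Group G] [Finite G]
variable {C : Cfg G} {a y s : G}

theorem norm_cjH {H : Subgroup G} {K : Subgroup G} {g r : G} (hK : K ≤ normalizer (H : Set G))
    (hr : g⁻¹ * r * g ∈ K) : r ∈ normalizer ((cj g H : Subgroup G) : Set G) := by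
  refine le_norm_of_conj fun x hx => ?_
  obtain ⟨w, hw, rfl⟩ := hx
  refine mem_cj.2 ?_
  show g⁻¹ * (r * (g * w * g⁻¹) * r⁻¹) * g ∈ H
  rw [show g⁻¹ * (r * (g * w * g⁻¹) * r⁻¹) * g = g⁻¹ * r * g * w * (g⁻¹ * r * g)⁻¹ by group]
  exact conj_mem_of_norm (hK hr) hw

theorem Step.conj_R (hs : Step C s) {r : G} (hr : r ∈ C.R) : s⁻¹ * r * s ∈ C.R := by
  have := conj_mem_of_norm (inv_mem hs.hsN) hr
  rwa [inv_inv] at this

theorem Step.R_norm_cjV (hs : Step C s) : C.R ≤ normalizer ((cj s C.V : Subgroup G) : Set G) :=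
  fun r hr => norm_cjH (C.hRM.trans C.hMV) (hs.conj_R hr)

theorem Step.R_norm_cjW (hs : Step C s) : C.R ≤ normalizer ((cj s C.W : Subgroup G) : Set G) :=
  fun r hr => norm_cjH (C.hRM.trans C.hMW) (hs.conj_R hr)

theorem Cfg.card_W_pos (h : Setup G) (C : Cfg G) {a y : G} (A : Act C a y) :
    ∃ w d : ℕ, Nat.card C.W = 2 ^ w ∧ Nat.card C.V = 2 ^ d ∧ d ≤ w ∧ w ≤ 5 := by
  haveI : Fact (Nat.Prime 2) := ⟨Nat.prime_two⟩
  obtain ⟨w, hw⟩ := IsPGroup.iff_card.1 C.hW2
  obtain ⟨d, hd⟩ := IsPGroup.iff_card.1 (C.hW2.to_le C.V_le)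
  refine ⟨w, d, hw, hd, (Nat.pow_le_pow_iff_right (by norm_num : 1 < 2)).1
    (hd ▸ hw ▸ card_le_of_le C.V_le), ?_⟩
  have h1 := C.card_R_le h
  rw [A.hcard, hw, show (64 : ℕ) = 2 * 2 ^ 5 by norm_num] at h1
  exact (Nat.pow_le_pow_iff_right (by norm_num : 1 < 2)).1 (by omega)

theorem Act.big (h : Setup G) (A : Act C a y) (hs : Step C s) (hU : 4 ≤ Nat.card (C.U y)) :
    False := by
  haveI : Fact (Nat.Prime 2) := ⟨Nat.prime_two⟩
  have hV4 : Nat.card C.V = 4 * Nat.card (C.U y) := A.hU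
  obtain ⟨w, d, hw, hd, hdw, hw5⟩ := C.card_W_pos h A
  have hw4 : 4 ≤ w := by
    by_contra hlt
    have : 2 ^ d ≤ 2 ^ 3 := Nat.pow_le_pow_right (by norm_num) (by omega)
    omega
  have hR := A.hcard
  rw [hw] at hR
  have hZU := A.card_Z1_U h
  have hZelem : Elem C.Z1 := fun x hx => hx.2.2
  obtain ⟨u, hu, hu1, hsu⟩ := exists_fixed (A.U_le h) hZelem hZU hU hs.norm_Z1
    (fun x hx => hs.s2_comm hx)
  rcases (by omega : w = 5 ∨ w = 4) with rfl | rfl
  · exact A.fixed_six h hs (hR.trans (by norm_num)) hu hu1 hsu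
  have hd4 : d = 4 := by
    by_contra hne
    have : 2 ^ d ≤ 2 ^ 3 := Nat.pow_le_pow_right (by norm_num) (by omega)
    omega
  subst hd4
  have hWV : C.W = C.V := (eq_of_le_of_card_ge C.V_le (by rw [hw, hd])).symm
  set T : Subgroup G := C.R ⊔ zpowers s with hT
  have hTc : Nat.card T = 64 := by rw [hs.card_ext, hR]; norm_num
  have hTS : T < C.S := lt_of_le_of_ne hs.ext_le (fun e => by
    have := h.hS C.S; rw [← e, hTc] at this; norm_num at this)
  obtain ⟨g, hgS, hgT, hgnT, hg2⟩ := exists_norm_step C.S.2 hTS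
  set Vg : Subgroup G := cj g C.V with hVg
  have hVT : C.V ≤ T := (C.V_le.trans C.hWR).trans le_sup_left
  have hVgT : Vg ≤ T := cj_le_of_norm hVT hgT
  have hVgR : ¬ Vg ≤ C.R := by
    intro hle
    rcases A.elem_eq h hs hWV hle (cj_elem C.elem_V g) (card_cj _ _) with e | e
    · exact hgnT (mem_sup_left (C.mem_R_of h ((C.normV h).le (norm_of_cj_eq e)) hgS))
    · have e2 : cj (s⁻¹ * g) C.V = C.V := by
        rw [← cj_cj, ← hVg, e, cj_cj, inv_mul_cancel, cj_eq_of_norm (one_mem _)]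
      have hm := C.mem_R_of h ((C.normV h).le (norm_of_cj_eq e2)) (mul_mem (inv_mem hs.hsS) hgS)
      refine hgnT ?_
      rw [show g = s * (s⁻¹ * g) by group]
      exact mul_mem (mem_sup_right (mem_zpowers s)) (mem_sup_left hm)
  obtain ⟨t, htVg, htR⟩ := SetLike.not_le_iff_exists.1 hVgR
  have htT := hVgT htVg
  have hsw := hs.swap h A hWV htT htR
  have hVgE : Elem Vg := cj_elem C.elem_V g
  have hIle : Vg ⊓ C.R ≤ C.Z1 := by
    intro x hx
    have hfix : t * x * t⁻¹ = x := by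
      rw [(hVgE.comm htVg hx.1).eq, mul_inv_cancel_right]
    rw [← hs.V_inf_cjV h A]
    have h2 : Vg ⊓ C.R ≤ C.V ∨ Vg ⊓ C.R ≤ cj s C.V := by
      rcases A.elem_in_R h hWV (inf_le_right : Vg ⊓ C.R ≤ C.R) (fun x hx => hVgE x hx.1) with e | e
      · exact Or.inl e
      · refine Or.inr (e.trans (le_of_eq ?_))
        rcases A.elem_in_R h hWV hs.cjV_le (cj_elem C.elem_V s) with h2 | h2
        · exact absurd (eq_of_le_of_card_ge h2 (card_cj s C.V).ge) (hs.cj_ne h)
        · exact (eq_of_le_of_card_ge h2 (by rw [A.card_Z1_a h, card_cj])).symm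
    rcases h2 with e | e
    · exact ⟨e hx, hsw.1 ▸ (hfix ▸ cj_mem (e hx))⟩
    · exact ⟨hsw.2 ▸ (hfix ▸ cj_mem (e hx)), e hx⟩
  have hIc : 8 ≤ Nat.card (Vg ⊓ C.R : Subgroup G) := by
    have hn : Vg ≤ normalizer (C.R : Set G) :=
      hVgT.trans (sup_le le_normalizer (zpowers_le.2 hs.hsN))
    have e := card_sup_inf hn
    rw [inf_comm, card_cj, hd, hR] at e
    have hle : Nat.card (C.R ⊔ Vg : Subgroup G) ≤ 64 := hTc ▸ card_le_of_le (sup_le le_sup_left hVgT)
    nlinarith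
  have hZ8 : Nat.card C.Z1 = 8 := by
    have := A.card_V_Z1 h
    rw [hd] at this
    omega
  have hI : Vg ⊓ C.R = C.Z1 := eq_of_le_of_card_ge hIle (by omega)
  have hT2 : C.R ⊔ zpowers t = T := sup_zpowers_eq le_sup_left hs.card_ext htT htR
  have hTC : T ≤ centralizer (C.Z1 : Set G) := by
    rw [← hT2]
    refine sup_le C.R_le_centZ1 (zpowers_le.2 (mem_cent.2 fun x hx => ?_))
    exact hVgE.comm htVg (hI.ge hx).1
  have hozT : oz T = C.Z1 := by
    ext x
    constructor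
    · rintro ⟨hxT, hxc, hx2⟩
      have hxW : x ∈ C.W := (C.centV h).le (mem_cent.2 fun v hv => hxc v (hVT hv))
      exact (A.mem_Z1 h).2 ⟨hWV ▸ hxW, hxc a (mem_sup_left A.haR)⟩
    · intro hx
      exact ⟨mem_sup_left (C.hWR (C.V_le (A.Z1_le h hx))),
        fun r hr => ((mem_cent.1 (hTC hr)) x hx).symm, hx.2.2⟩
  have hgZ : g ∈ normalizer (C.Z1 : Set G) := hozT ▸ oz_norm hgT
  obtain ⟨u', hu', hu'1, hgu⟩ := exists_fixed (A.U_le h) hZelem hZU hU hgZ
    (fun x hx => mem_cent.1 (hTC hg2) x hx)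
  have hS : T ⊔ zpowers g = C.S := eq_of_le_of_card_ge (sup_le hTS.le (zpowers_le.2 hgS)) (by
    rw [h.hS, card_sup_zpowers hgT hgnT hg2, hTc]; norm_num)
  refine A.central_false h hu' hu'1 (hS ▸ sup_le ?_ (zpowers_le.2 (mem_cent1.2 hgu)))
  exact fun r hr => mem_cent1.2 (mem_cent.1 (hTC hr) u' (A.U_le h hu'))

theorem Act.caseB (h : Setup G) (A : Act C a y) (hs : Step C s) (hU : Nat.card (C.U y) ≤ 2)
    (hB : cj s C.V ≤ C.W) : False := by
  classical
  haveI : Fact (Nat.Prime 2) := ⟨Nat.prime_two⟩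
  set V2 : Subgroup G := cj s C.V with hV2
  set W2 : Subgroup G := cj s C.W with hW2
  set E : Subgroup G := C.V ⊔ V2 with hE
  have hVV2 : ∀ x ∈ C.V, ∀ x' ∈ V2, Commute x x' := fun x hx x' hx' => C.V_comm hx (hB hx')
  have hEelem : Elem E := C.elem_V.sup (cj_elem C.elem_V s) hVV2
  have hEW : E ≤ C.W := sup_le C.V_le hB
  have hEW2 : E ≤ W2 := by
    rw [hW2, hs.cjW_eq h]
    intro x hx
    exact mem_cent.2 fun k hk => hEelem.comm hx (mem_sup_right hk)
  have hEc : Nat.card E = 2 * Nat.card C.V := by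
    have e := card_sup_inf (le_norm_of_commute hVV2)
    rw [← hE, hs.V_inf_cjV h A, card_cj, A.card_V_Z1 h] at e
    rw [A.card_V_Z1 h]
    have := Nat.card_pos (α := C.Z1)
    exact Nat.eq_of_mul_eq_mul_right this (by rw [e]; ring)
  have hRE : C.R ≤ normalizer (E : Set G) :=
    (le_inf (C.hRM.trans C.hMV) hs.R_norm_cjV).trans norm_sup
  have hsE : s ∈ normalizer (E : Set G) := by
    refine norm_of_cj_eq ?_
    have : cj s E = cj s C.V ⊔ cj s V2 := Subgroup.map_sup _ _ _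
    rw [this, hs.cj_cjV, sup_comm]
  have hzE : C.z ∈ E := mem_sup_left C.z_mem_V
  have hE2 : IsPGroup 2 E := two_group_of_elem hEelem
  have hyE : y ∉ normalizer (E : Set G) := fun hy =>
    C.no_push h hE2 hzE Nat.prime_three (by norm_num) A.hy3 hy hRE hs.hsS hs.hsR hsE
  set Qn : Subgroup G := C.W ⊓ W2 with hQ
  have hEQ : E ≤ Qn := le_inf hEW hEW2
  have hW2R : W2 ≤ C.R := hs.cjW_le
  have hW2n : ¬ W2 ≤ C.W := fun hle => hs.cjW_ne h (eq_of_le_of_card_ge hle (card_cj s C.W).ge)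
  obtain ⟨e2, he2, he2W⟩ := SetLike.not_le_iff_exists.1 hW2n
  have hsupR : C.W ⊔ W2 = C.R := le_antisymm (sup_le C.hWR hW2R)
    ((sup_zpowers_eq C.hWR A.hcard (hW2R he2) he2W).ge.trans
      (sup_le le_sup_left (zpowers_le.2 (mem_sup_right he2))))
  have hQc : Nat.card C.W = 2 * Nat.card Qn := by
    have e := card_sup_inf ((hW2R.trans C.hRM).trans C.hMW)
    rw [hsupR, ← hQ, card_cj, A.hcard] at e
    exact Nat.eq_of_mul_eq_mul_left (Nat.card_pos (α := C.W)) (by rw [← e]; ring)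
  have hy2n : y * y ∉ normalizer (E : Set G) := by
    intro hy
    refine hyE ?_
    rw [show y = y * y * (y * y) by
      rw [show y * y * (y * y) = y ^ 3 * y by simp [pow_succ, mul_assoc], A.y3, one_mul]]
    exact mul_mem hy hy
  have hsub : ∀ w ∈ C.M, C.V ≤ cj w E ∧ cj w E ≤ C.W := by
    refine fun w hw => ⟨?_, cj_le_of_norm hEW (C.hMW hw)⟩
    calc C.V = cj w C.V := (cj_eq_of_norm (C.hMV hw)).symm
      _ ≤ cj w E := map_mono le_sup_left
  have hne : ∀ w, w ∉ normalizer (E : Set G) → cj w E ≠ E := fun w hw e => hw (norm_of_cj_eq e)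
  by_cases hEQ' : E = Qn
  · have hWc : Nat.card C.W = 2 * Nat.card E := hEQ' ▸ hQc
    have hinter : ∀ w w' : G, w ∈ C.M → w' ∈ C.M → cj w E ≠ cj w' E →
        cj w E ⊓ cj w' E ≤ C.V := by
      intro w w' hw hw' hne' x hx
      by_contra hxV
      have h1 := sup_zpowers_eq (hsub w hw).1 (by rw [card_cj, hEc]) hx.1 hxV
      have h2 := sup_zpowers_eq (hsub w' hw').1 (by rw [card_cj, hEc]) hx.2 hxV
      exact hne' (h1.symm.trans h2)
    have hy2 : y * y ∈ C.M := mul_mem A.hy A.hy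
    have d1 : cj 1 E ≠ cj y E := by rw [cj_eq_of_norm (one_mem _)]; exact (hne y hyE).symm
    have d2 : cj 1 E ≠ cj (y * y) E := by rw [cj_eq_of_norm (one_mem _)]; exact (hne _ hy2n).symm
    have d3 : cj y E ≠ cj (y * y) E := by
      intro e
      refine hne y hyE ?_
      have := congrArg (cj y⁻¹) e
      rw [cj_cj, cj_cj, inv_mul_cancel, inv_mul_cancel_left, cj_eq_of_norm (one_mem _)] at this
      exact this.symm
    have hall : ∀ x ∈ C.W, x * x = 1 := by
      intro x hx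
      by_cases hxE : x ∈ cj 1 E
      · exact hEelem x (by rwa [cj_eq_of_norm (one_mem _)] at hxE)
      by_cases hxE' : x ∈ cj y E
      · exact cj_elem hEelem y x hxE'
      obtain ⟨f, hf, hfV⟩ := SetLike.not_le_iff_exists.1 (show ¬ cj (y * y) E ≤ C.V from fun hle => by
        have := card_le_of_le hle
        rw [card_cj, hEc] at this
        have := Nat.card_pos (α := C.V)
        omega)
      have hfW := (hsub _ hy2).2 hf
      have hf1 : f ∉ cj 1 E := fun hh => hfV (hinter _ _ (one_mem _) hy2 d2 ⟨hh, hf⟩)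
      have hf2 : f ∉ cj y E := fun hh => hfV (hinter _ _ A.hy hy2 d3 ⟨hh, hf⟩)
      have m1 := mul_mem_of_card_two (hsub 1 (one_mem _)).2 (by rw [card_cj, hWc]) hx hfW hxE hf1
      have m2 := mul_mem_of_card_two (hsub y A.hy).2 (by rw [card_cj, hWc]) hx hfW hxE' hf2
      have hxfV := hinter _ _ (one_mem _) A.hy d1 ⟨m1, m2⟩
      refine cj_elem hEelem (y * y) x ?_
      rw [show x = x * f * f⁻¹ by group]
      exact mul_mem ((hsub _ hy2).1 hxfV) (inv_mem hf)
    have hWV : C.W ≤ C.V := fun x hx => ⟨hx, fun x' hx' => Elem.comm hall hx hx', hall x hx⟩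
    have := card_le_of_le hWV
    rw [hWc, hEc] at this
    have := Nat.card_pos (α := C.V)
    omega
  · obtain ⟨k, hk⟩ := card_dvd_of_le hEQ
    have hk2 : 2 ≤ k := by
      by_contra hlt
      refine hEQ' (eq_of_le_of_card_ge hEQ ?_)
      rw [hk]
      calc Nat.card E * k ≤ Nat.card E * 1 := Nat.mul_le_mul_left _ (by omega)
        _ = Nat.card E := mul_one _
    have hV4 : Nat.card C.V = 4 * Nat.card (C.U y) := A.hU
    have hR64 := C.card_R_le h
    rw [A.hcard, hQc, hk, hEc, hV4] at hR64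
    have hUpos := Nat.card_pos (α := C.U y)
    have hU1 : Nat.card (C.U y) = 1 := by nlinarith
    have hk2' : k = 2 := by rw [hU1] at hR64; omega
    subst hk2'
    have hV4' : Nat.card C.V = 4 := by rw [hV4, hU1]
    have hQ16 : Nat.card Qn = 16 := by rw [hk, hEc, hV4']
    have hZ2 : ∀ x ∈ C.Z1, x = 1 ∨ x = C.z := by
      intro x hx
      by_cases hx1 : x = 1
      · exact Or.inl hx1
      right
      have hc : Nat.card C.Z1 = 2 * Nat.card (⊥ : Subgroup G) := by
        rw [A.card_Z1_U h, hU1, card_bot]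
      have := mul_mem_of_card_two bot_le hc hx C.z_mem_Z1 (fun hh => hx1 (mem_bot.1 hh))
        (fun hh => C.z_ne (mem_bot.1 hh))
      rw [mem_bot] at this
      rw [eq_inv_of_mul_eq_one_left this, inv_eq_of_mul_eq_one_left C.z_sq]
    have key : ∀ w ∈ C.M, cj w E ≠ E → ¬ Commute w C.z →
        ∀ x ∈ V2, ∀ x' ∈ cj w V2, Commute x x' := by
      intro w hw hwE hwz x hx x' hx'
      have htriv : V2 ⊓ cj w V2 = ⊥ := by
        rw [eq_bot_iff]
        intro c hc
        rw [mem_bot]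
        by_contra hc1
        by_cases hcV : c ∈ C.V
        · have h1 := (hZ2 c (hs.V_inf_cjV h A ▸ ⟨hcV, hc.1⟩)).resolve_left hc1
          have hwc : w⁻¹ * c * w ∈ C.Z1 := by
            rw [← hs.V_inf_cjV h A]
            refine ⟨?_, mem_cj.1 hc.2⟩
            have := conj_mem_of_norm (C.hMV (inv_mem hw)) hcV
            rwa [inv_inv] at this
          rcases hZ2 _ hwc with e | e
          · exact hc1 (by
              have := congrArg (fun q => w * q * w⁻¹) e
              simpa [mul_assoc] using this)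
          · rw [h1, mul_assoc, inv_mul_eq_iff_eq_mul] at e
            exact hwz e.symm
        · have hlt : C.V ≤ E := le_sup_left
          have h1 := sup_zpowers_eq hlt hEc (mem_sup_right hc.1 : c ∈ E) hcV
          have h2 := sup_zpowers_eq (hsub w hw).1 (by rw [card_cj, hEc])
            ((map_mono (le_sup_right : V2 ≤ E)) hc.2 : c ∈ cj w E) hcV
          exact hwE (h2.symm.trans h1)
      have hx'W : x' ∈ C.W := cj_le_of_norm hB (C.hMW hw) hx'
      have hxW : x ∈ C.W := hB hx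
      have hn1 : x' ∈ normalizer (V2 : Set G) := hs.R_norm_cjV (C.hWR hx'W)
      have hn2 : x ∈ normalizer ((cj w V2 : Subgroup G) : Set G) := by
        refine norm_cjH hs.R_norm_cjV (C.hWR ?_)
        have := conj_mem_of_norm (C.hMW (inv_mem hw)) hxW
        rwa [inv_inv] at this
      have hmem : x * x' * x⁻¹ * x'⁻¹ ∈ V2 ⊓ cj w V2 := by
        refine mem_inf.2 ⟨?_, ?_⟩
        · rw [show x * x' * x⁻¹ * x'⁻¹ = x * (x' * x⁻¹ * x'⁻¹) by group]
          exact mul_mem hx (conj_mem_of_norm hn1 (inv_mem hx))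
        · exact mul_mem (conj_mem_of_norm hn2 hx') (inv_mem hx')
      rw [htriv, mem_bot, mul_inv_eq_one, mul_inv_eq_iff_eq_mul] at hmem
      exact hmem
    have hyz : ¬ Commute y C.z := fun hc => A.not_mem_S (by
      show y ∈ (C.S : Subgroup G)
      rw [← C.centz h]; exact mem_cent1.2 hc)
    have hy4 : y * y * (y * y) = y := by
      rw [show y * y * (y * y) = y ^ 3 * y by simp [pow_succ, mul_assoc], A.y3, one_mul]
    have hyyz : ¬ Commute (y * y) C.z := fun hc => hyz (hy4 ▸ hc.mul_left hc)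
    have hy2 : y * y ∈ C.M := mul_mem A.hy A.hy
    set Vy := cj y V2 with hVy
    set Vyy := cj (y * y) V2 with hVyy
    have c01 := key y A.hy (hne _ hyE) hyz
    have c02 := key _ hy2 (hne _ hy2n) hyyz
    have c12 : ∀ x ∈ Vy, ∀ x' ∈ Vyy, Commute x x' := by
      rintro _ ⟨x, hx, rfl⟩ x' hx'
      have hx'' : y⁻¹ * x' * y ∈ Vy := by
        rw [hVy, mem_cj]
        have := mem_cj.1 hx'
        rwa [show y⁻¹ * (y⁻¹ * x' * y) * y = (y * y)⁻¹ * x' * (y * y) by group]
      have := conj_commute (g := y) (c01 x hx _ hx'')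
      simpa [mul_assoc] using this
    have cV : ∀ w ∈ C.M, ∀ x ∈ C.V, ∀ x' ∈ cj w V2, Commute x x' := fun w hw x hx x' hx' =>
      C.V_comm hx (cj_le_of_norm hB (C.hMW hw) hx')
    set T2 : Subgroup G := C.V ⊔ (V2 ⊔ (Vy ⊔ Vyy)) with hT2
    have hin : Elem (Vy ⊔ Vyy : Subgroup G) :=
      (cj_elem (cj_elem C.elem_V s) _).sup (cj_elem (cj_elem C.elem_V s) _) c12
    have comm_sup : ∀ (x : G) (A B : Subgroup G), (∀ b ∈ A, Commute x b) → (∀ b ∈ B, Commute x b) →
        ∀ b ∈ A ⊔ B, Commute x b := fun x A B hA hB b hb => by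
      have hle : A ⊔ B ≤ centralizer ({x} : Set G) :=
        sup_le (fun b hb => mem_cent1.2 (hA b hb).symm) (fun b hb => mem_cent1.2 (hB b hb).symm)
      exact (mem_cent1.1 (hle hb)).symm
    have hin2 : Elem (V2 ⊔ (Vy ⊔ Vyy) : Subgroup G) :=
      (cj_elem C.elem_V s).sup hin fun x hx => comm_sup x Vy Vyy (c01 x hx) (c02 x hx)
    have hTel : Elem T2 := C.elem_V.sup hin2 fun x hx => comm_sup x _ _ (hVV2 x hx)
      (comm_sup x _ _ (cV y A.hy x hx) (cV _ hy2 x hx))
    have hT2W : T2 ≤ C.W :=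
      sup_le C.V_le (sup_le hB (sup_le (cj_le_of_norm hB (C.hMW A.hy))
        (cj_le_of_norm hB (C.hMW hy2))))
    have hV2T : V2 ≤ T2 := le_sup_left.trans le_sup_right
    have hT2W2 : T2 ≤ W2 := by
      rw [hW2, hs.cjW_eq h]
      exact fun x hx => mem_cent.2 fun k hk => hTel.comm hx (hV2T hk)
    have hET : E ≤ T2 := sup_le le_sup_left hV2T
    have hT2Q : T2 = Qn := by
      refine eq_of_le_of_card_ge (le_inf hT2W hT2W2) ?_
      obtain ⟨j, hj⟩ := card_dvd_of_le hET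
      have hj2 : 2 ≤ j := by
        by_contra hlt
        have he : E = T2 := eq_of_le_of_card_ge hET (by
          rw [hj]
          calc Nat.card E * j ≤ Nat.card E * 1 := Nat.mul_le_mul_left _ (by omega)
            _ = Nat.card E := mul_one _)
        refine hne y hyE (eq_of_le_of_card_ge ?_ (card_cj _ _).ge)
        rw [show cj y E = cj y C.V ⊔ cj y V2 from Subgroup.map_sup _ _ _, cj_eq_of_norm (C.hMV A.hy), he]
        exact sup_le le_sup_left (le_sup_left.trans (le_sup_right.trans le_sup_right))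
      rw [hQ16, hj, hEc, hV4']
      omega
    have hyQ : y ∈ normalizer (Qn : Set G) := by
      rw [← hT2Q]
      refine norm_of_cj_eq ?_
      have e3 : cj y Vyy = V2 := by
        rw [hVyy, cj_cj, show y * (y * y) = y ^ 3 by simp [pow_succ, mul_assoc], A.y3,
          cj_eq_of_norm (one_mem _)]
      have e1 : cj y Vy = Vyy := by rw [hVy, cj_cj]
      calc cj y T2 = cj y C.V ⊔ (cj y V2 ⊔ (cj y Vy ⊔ cj y Vyy)) := by
            rw [hT2]; simp only [cj, Subgroup.map_sup]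
        _ = C.V ⊔ (Vy ⊔ (Vyy ⊔ V2)) := by rw [cj_eq_of_norm (C.hMV A.hy), e1, e3]
        _ = T2 := by rw [hT2, sup_comm V2 (Vy ⊔ Vyy), sup_assoc]
    have hRQ : C.R ≤ normalizer (Qn : Set G) := by
      intro r hr
      refine le_norm_of_conj fun x hx => ⟨conj_mem_of_norm (C.hMW (C.hRM hr)) hx.1,
        conj_mem_of_norm (hs.R_norm_cjW hr) hx.2⟩
    have hsQ : s ∈ normalizer (Qn : Set G) := by
      refine le_norm_of_conj fun x hx => ⟨?_, cj_mem hx.1⟩
      have := cj_mem (g := s) hx.2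
      rwa [hW2, hs.cj_cjW] at this
    exact C.no_push h (C.hW2.to_le inf_le_left) (hT2Q.le (hET hzE)) Nat.prime_three (by norm_num)
      A.hy3 hyQ hRQ hs.hsS hs.hsR hsQ

theorem Act.improve (h : Setup G) (A : Act C a y) (hs : Step C s) (hA : ¬ cj s C.V ≤ C.W) :
    ∃ v y1 : G, Act C v y1 ∧ v ∈ cj s C.V ∧
      (∀ k ∈ C.W, Commute k y1 → Commute k v ∧ k ∈ cj s C.W) ∧
      C.V ⊔ (C.W ⊓ centralizer ({y1} : Set G)) = C.W := by
  classical
  haveI : Fact (Nat.Prime 2) := ⟨Nat.prime_two⟩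
  obtain ⟨v, hv, hvW⟩ := SetLike.not_le_iff_exists.1 hA
  have hvv : v * v = 1 := cj_elem C.elem_V s v hv
  have hvi : v⁻¹ = v := inv_eq_of_mul_eq_one_left hvv
  have hvR : v ∈ C.R := hs.cjV_le hv
  have hvM := C.hRM hvR
  set w0 := v * a with hw0
  have hw0W : w0 ∈ C.W := A.mul_a_mem hvR hvW
  have hva : v = w0 * a := by rw [hw0, mul_assoc, A.haa, mul_one]
  set q := v * (y * v * y⁻¹) with hq
  have hwc : ∀ m ∈ C.M, ∀ w ∈ C.W, m * w * m⁻¹ ∈ C.W := fun m hm w hw =>
    conj_mem_of_norm (C.hMW hm) hw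
  obtain ⟨w', hw', hqw⟩ : ∃ w' ∈ C.W, q = w' * y := by
    refine ⟨w0 * (a * y * w0 * (a * y)⁻¹), mul_mem hw0W
      (hwc _ (mul_mem (C.hRM A.haR) A.hy) _ hw0W), ?_⟩
    have e1 : a * y * a * y⁻¹ = y := by
      rw [A.hinv, ← mul_inv_rev]
      refine inv_eq_of_mul_eq_one_left ?_
      rw [← mul_assoc, show y * y * y = y ^ 3 by simp [pow_succ, mul_assoc], A.y3]
    calc q = w0 * (a * y * w0 * (a * y)⁻¹) * (a * y * a * y⁻¹) := by rw [hq, hva]; group
      _ = _ := by rw [e1]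
  have hqM : q ∈ C.M := hqw ▸ mul_mem (C.hWM hw') A.hy
  have hqnW : q ∉ C.W := fun hh => A.y_not_W (by
    rw [hqw] at hh; exact (mul_mem_cancel_left hw').1 hh)
  have hq3 : q ^ 3 ∈ C.W := by
    rw [hqw, show (w' * y) ^ 3 = w' * (y * w' * y⁻¹) * (y * y * w' * (y * y)⁻¹) * y ^ 3 by
      simp [pow_succ, mul_assoc], A.y3, mul_one]
    exact mul_mem (mul_mem hw' (hwc y A.hy _ hw')) (hwc _ (mul_mem A.hy A.hy) _ hw')
  obtain ⟨j, hj⟩ := C.hW2 ⟨q ^ 3, hq3⟩
  have hj' : (q ^ 3) ^ 2 ^ j = 1 := congrArg Subtype.val hj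
  set y1 := q ^ 2 ^ j with hy1
  have hy13 : y1 ^ 3 = 1 := by rw [hy1, ← pow_mul, mul_comm, pow_mul, hj']
  have hy11 : y1 ≠ 1 := by
    intro e
    obtain ⟨m, hm⟩ := exists_pow_eq_self_of_coprime (x := q) (n := 3)
      ((Nat.Coprime.pow_right j (by norm_num : Nat.Coprime 3 2)).coprime_dvd_right
        (orderOf_dvd_of_pow_eq_one e))
    exact hqnW (hm ▸ pow_mem hq3 m)
  have hvq : v * q * v = q⁻¹ := by
    rw [hq, mul_inv_rev, mul_inv_rev, mul_inv_rev, hvi, inv_inv]
    calc v * (v * (y * v * y⁻¹)) * v = v * v * (y * v * y⁻¹ * v) := by group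
      _ = y * (v * y⁻¹) * v := by rw [hvv, one_mul]; group
  have hvy : v * y1 * v = y1⁻¹ := by
    have : (v * q * v⁻¹) ^ 2 ^ j = v * y1 * v⁻¹ := conj_pow
    rw [hvi, hvq, inv_pow] at this
    exact this.symm
  have hiff : ∀ x ∈ C.V, (Commute x v ↔ Commute x a) := by
    intro x hx
    have hxw : Commute x w0 := C.V_comm hx hw0W
    constructor
    · intro hc
      have := hxw.inv_right.mul_right hc
      rwa [hva, inv_mul_cancel_left] at this
    · intro hc
      rw [hva]; exact hxw.mul_right hc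
  have htr : Nat.card C.V ≤ 2 * Nat.card (C.V ⊓ centralizer ({v} : Set G) : Subgroup G) := by
    have e : C.V ⊓ centralizer ({v} : Set G) = C.V ⊓ centralizer ({a} : Set G) := by
      ext x
      simp only [mem_inf, mem_cent1]
      exact and_congr_right fun hx => hiff x hx
    rw [e]; exact A.htr
  have hy1M : y1 ∈ C.M := pow_mem hqM _
  obtain ⟨-, hU1⟩ := C.transvection h Nat.prime_three (by norm_num) hvM hvv hy1M
    (orderOf_eq_prime hy13 hy11) hvy htr
  set W2 : Subgroup G := cj s C.W with hW2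
  have hvW2 : v ∈ W2 := by
    rw [hW2, hs.cjW_eq h]
    exact mem_cent.2 fun k hk => (cj_elem C.elem_V s).comm hv hk
  set Qn : Subgroup G := C.W ⊓ W2 with hQ
  have hQc : Nat.card C.W = 2 * Nat.card Qn := by
    have hsupR : C.W ⊔ W2 = C.R := le_antisymm (sup_le C.hWR hs.cjW_le)
      ((sup_zpowers_eq C.hWR A.hcard hvR hvW).ge.trans
        (sup_le le_sup_left (zpowers_le.2 (mem_sup_right hvW2))))
    have e := card_sup_inf ((hs.cjW_le.trans C.hRM).trans C.hMW)
    rw [hsupR, ← hQ, card_cj, A.hcard] at e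
    exact Nat.eq_of_mul_eq_mul_left (Nat.card_pos (α := C.W)) (by rw [← e]; ring)
  have hQv : ∀ k ∈ Qn, Commute k v := fun k hk => by
    have h2 := hk.2
    rw [hW2, hs.cjW_eq h] at h2
    exact mem_cent.1 h2 v hv
  set K0 : Subgroup G := Qn ⊓ cj y Qn with hK0
  have hK0y : ∀ k ∈ K0, Commute k y1 := by
    intro k hk
    have h1 := hQv k hk.1
    have h2 := conj_commute (g := y) (hQv _ (mem_cj.1 hk.2))
    rw [show y * (y⁻¹ * k * y) * y⁻¹ = k by group] at h2
    exact (h1.mul_right h2).pow_right _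
  have hQW : Qn ≤ C.W := inf_le_left
  have hK0c : Nat.card C.W ≤ 4 * Nat.card K0 := by
    have hcj : cj y Qn ≤ C.W := cj_le_of_norm hQW (C.hMW A.hy)
    have hn : cj y Qn ≤ normalizer (Qn : Set G) := by
      intro w hw
      refine le_norm_of_conj fun x hx => ⟨conj_mem_of_norm (C.hMW (C.hWM (hcj hw))) hx.1, ?_⟩
      exact conj_mem_of_norm (hs.R_norm_cjW (C.hWR (hcj hw))) hx.2
    have e := card_sup_inf hn
    rw [card_cj, ← hK0] at e
    have hle : Nat.card (Qn ⊔ cj y Qn : Subgroup G) ≤ Nat.card C.W :=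
      card_le_of_le (sup_le hQW hcj)
    rw [hQc] at hle ⊢
    have := Nat.card_pos (α := Qn)
    nlinarith
  set K : Subgroup G := C.W ⊓ centralizer ({y1} : Set G) with hK
  have hsupK : Nat.card (C.V ⊔ K : Subgroup G) = 4 * Nat.card K := by
    have e := card_sup_inf (le_norm_of_commute (A := C.V) (B := K)
      fun x hx k hk => C.V_comm hx hk.1)
    have hi : C.V ⊓ K = C.V ⊓ centralizer ({y1} : Set G) := by
      rw [hK, ← inf_assoc, inf_eq_left.2 C.V_le]
    rw [hi, hU1] at e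
    refine Nat.eq_of_mul_eq_mul_right (Nat.card_pos
      (α := (C.V ⊓ centralizer ({y1} : Set G) : Subgroup G))) ?_
    rw [e]; ring
  have hle : Nat.card (C.V ⊔ K : Subgroup G) ≤ Nat.card C.W :=
    card_le_of_le (sup_le C.V_le inf_le_left)
  have hKK : K0 = K := eq_of_le_of_card_ge
    (fun k hk => ⟨hQW hk.1, mem_cent1.2 (hK0y k hk)⟩) (by omega)
  refine ⟨v, y1, ⟨hvR, hvW, hvv, hy1M, orderOf_eq_prime hy13 hy11, hvy, htr, hU1, A.hcard⟩, hv,
    fun k hk hc => ?_, eq_of_le_of_card_ge (sup_le C.V_le inf_le_left) ?_⟩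
  · have : k ∈ K0 := hKK.ge (⟨hk, mem_cent1.2 hc⟩ : k ∈ K)
    exact ⟨hQv k this.1, this.1.2⟩
  · rw [hKK] at hK0c
    show Nat.card C.W ≤ Nat.card (C.V ⊔ K : Subgroup G)
    omega

/-- When `W ≠ V`, the squares of `W` give a nontrivial element of `C_V(y)` fixed by `s`. -/
theorem Act.squares (h : Setup G) (A : Act C a y) (hs : Step C s) (ha : a ∈ cj s C.V)
    (hK : ∀ k ∈ C.W, Commute k y → Commute k a ∧ k ∈ cj s C.W)
    (hVK : C.V ⊔ (C.W ⊓ centralizer ({y} : Set G)) = C.W) (hWV : C.W ≠ C.V) :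
    ∃ u ∈ C.U y, u ≠ 1 ∧ Commute s u := by
  classical
  haveI : Fact (Nat.Prime 2) := ⟨Nat.prime_two⟩
  set K : Subgroup G := C.W ⊓ centralizer ({y} : Set G) with hKdef
  set Sq : Set G := (fun x => x * x) '' (C.W : Set G) with hSq
  have hdec : ∀ x ∈ C.W, ∃ k ∈ K, x * x = k * k := by
    intro x hx
    rw [← hVK] at hx
    obtain ⟨v, hv, k, hk, rfl⟩ := mem_sup_mul
      (le_norm_of_commute (A := C.V) (B := K) fun v hv k hk => C.V_comm hv hk.1) hx
    refine ⟨k, hk, ?_⟩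
    rw [(C.V_comm hv hk.1).symm.mul_mul_mul_comm, hv.2.2, one_mul]
  have hSqK : closure Sq ≤ K := by
    refine (closure_le _).2 ?_
    rintro _ ⟨x, hx, rfl⟩
    obtain ⟨k, hk, e⟩ := hdec x hx
    show x * x ∈ K
    rw [e]; exact mul_mem hk hk
  have hconj : ∀ g : G, (∀ x ∈ C.W, g * x * g⁻¹ * (g * x * g⁻¹) ∈ Sq) →
      g ∈ normalizer ((closure Sq : Subgroup G) : Set G) := by
    intro g hg
    refine le_norm_of_conj fun x hx => ?_
    have hle : closure Sq ≤ cj g⁻¹ (closure Sq) := by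
      refine (closure_le _).2 ?_
      rintro _ ⟨w, hw, rfl⟩
      refine mem_cj.2 ?_
      rw [inv_inv, show g * (w * w) * g⁻¹ = g * w * g⁻¹ * (g * w * g⁻¹) by group]
      exact subset_closure (hg w hw)
    simpa using mem_cj.1 (hle hx)
  have hRn : ∀ r ∈ C.R, r ∈ normalizer ((closure Sq : Subgroup G) : Set G) := fun r hr =>
    hconj r fun x hx => ⟨_, conj_mem_of_norm (C.hMW (C.hRM hr)) hx, rfl⟩
  have hsn : s ∈ normalizer ((closure Sq : Subgroup G) : Set G) := by
    refine hconj s fun x hx => ?_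
    set x2 := s * x * s⁻¹ with hx2
    have hx2W2 : x2 ∈ cj s C.W := cj_mem hx
    by_cases hxW : x2 ∈ C.W
    · exact ⟨x2, hxW, rfl⟩
    have hm : x2 * a ∈ C.W := A.mul_a_mem (hs.cjW_le hx2W2) hxW
    have hc : Commute x2 a := by
      rw [hs.cjW_eq h] at hx2W2
      exact mem_cent.1 hx2W2 a ha
    exact ⟨x2 * a, hm, by
      show x2 * a * (x2 * a) = x2 * x2
      rw [hc.symm.mul_mul_mul_comm, A.haa, mul_one]⟩
  set F : Subgroup G := closure Sq with hF
  have hFne : F ≠ ⊥ := by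
    intro e
    apply hWV
    have hall : ∀ x ∈ C.W, x * x = 1 := fun x hx =>
      mem_bot.1 (e ▸ subset_closure ⟨x, hx, rfl⟩)
    exact le_antisymm (fun x hx => ⟨hx, fun x' hx' => Elem.comm hall hx hx', hall x hx⟩) C.V_le
  set T : Subgroup G := C.R ⊔ zpowers s with hT
  have hT2 : IsPGroup 2 T := C.S.2.to_le hs.ext_le
  have hFT : F ≤ T := hSqK.trans (inf_le_left.trans (C.hWR.trans le_sup_left))
  haveI : (F.subgroupOf T).Normal :=
    normal_subgroupOf_of_le_normalizer (sup_le hRn (zpowers_le.2 hsn))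
  have hne : F.subgroupOf T ≠ ⊥ := fun e => hFne (by
    have := congrArg (map T.subtype) e
    rwa [map_subgroupOf_eq_of_le hFT, Subgroup.map_bot] at this)
  obtain ⟨x, hx, hx1, hx2⟩ :=
    PGroup.exists_mem_pow_eq_one hT2 (PGroup.inf_center_ne_bot hT2 hne)
  have hxc : ∀ r ∈ T, Commute x.1 r := fun r hr =>
    (congrArg Subtype.val (mem_center_iff.1 hx.2 ⟨r, hr⟩)).symm
  have hxK : x.1 ∈ K := hSqK hx.1
  refine ⟨x.1, ⟨⟨hxK.1, fun w hw => hxc w (mem_sup_left (C.hWR hw)), ?_⟩, hxK.2⟩,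
    fun e => hx1 (Subtype.ext e), (hxc s (mem_sup_right (mem_zpowers s))).symm⟩
  rw [← sq]; exact congrArg Subtype.val hx2

end Cfsg.Agent.Len8
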