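import Cfsg.Agent.Len8.Five
import Cfsg.Agent.S0112
import Cfsg.Agent.S0114
import Cfsg.Agent.S0115

/-!
# The case `W = V` of order at most `8`
-/

set_option autoImplicit false
set_option linter.style.haveILetI false
set_option linter.unusedSectionVars false
set_option linter.unusedVariables false

namespace Cfsg.Agent.Len8

open Subgroup

variable {G : Type*} [Group G] [Finite G]
variable {C : Cfg G} {a y s u : G}

/-- `W = V`, `|C_V(y)| = 2`, and `a ∈ V^s`. -/
structure Low (C : Cfg G) (a y u : G) : Prop where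
  act : Act C a y
  hWV : C.W = C.V
  hUc : Nat.card (C.U y) = 2
  hu : u ∈ C.U y
  hu1 : u ≠ 1

theorem Low.cardV (L : Low C a y u) : Nat.card C.V = 8 := by
  have h4 : Nat.card C.V = 4 * Nat.card (C.U y) := L.act.hU
  rw [h4, L.hUc]

theorem Low.cardR (L : Low C a y u) : Nat.card C.R = 16 := by
  rw [L.act.hcard, L.hWV, L.cardV]

theorem Low.cardZ1 (h : Setup G) (L : Low C a y u) : Nat.card C.Z1 = 4 := by
  rw [L.act.card_Z1_U h, L.hUc]

theorem Low.u_Z1 (h : Setup G) (L : Low C a y u) : u ∈ C.Z1 := L.act.U_le h L.hu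

theorem Low.uz_ne (h : Setup G) (L : Low C a y u) : u ≠ C.z := fun e =>
  L.act.z_not_U h (e ▸ L.hu)

theorem Low.commute_Z1 (h : Setup G) (L : Low C a y u) {t : G} (ht : t ∈ C.S) (hu : Commute t u)
    {x : G} (hx : x ∈ C.Z1) : Commute t x := by
  have h2 : Commute t C.z := C.hzc t ht
  rcases L.act.Z1_four h L.hUc L.hu L.hu1 x hx with rfl | rfl | rfl | rfl
  exacts [Commute.one_right t, hu, h2, hu.mul_right h2]

theorem Low.moved (h : Setup G) (L : Low C a y u) {x : G} (hxS : x ∈ C.S)
    (hx : x ∈ normalizer (C.Z1 : Set G)) (hne : ¬ Commute x u) : x * u * x⁻¹ = u * C.z := by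
  rcases L.act.Z1_four h L.hUc L.hu L.hu1 _ (conj_mem_of_norm hx (L.u_Z1 h)) with e | e | e | e
  · exact absurd (conj_eq_one_iff.1 e) L.hu1
  · exact absurd (mul_inv_eq_iff_eq_mul.1 e) hne
  · exfalso
    exact L.uz_ne h (mul_left_cancel (mul_right_cancel
      (e.trans (by rw [(C.hzc x hxS).eq, mul_inv_cancel_right] : C.z = x * C.z * x⁻¹))))
  · exact e

/-- An element of `S` carrying `V` into `R` lies in `R⟨s⟩`. -/
theorem Low.mem_ext (h : Setup G) (L : Low C a y u) (hs : Step C s) {g : G} (hg : g ∈ C.S)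
    (hle : cj g C.V ≤ C.R) : g ∈ C.R ⊔ zpowers s := by
  rcases L.act.elem_eq h hs L.hWV hle (cj_elem C.elem_V g) (card_cj _ _) with e | e
  · exact mem_sup_left (C.mem_R_of h ((C.normV h).le (norm_of_cj_eq e)) hg)
  · have e2 : cj (s⁻¹ * g) C.V = C.V := by
      rw [← cj_cj, e, cj_cj, inv_mul_cancel, cj_eq_of_norm (one_mem _)]
    have hm := C.mem_R_of h ((C.normV h).le (norm_of_cj_eq e2)) (mul_mem (inv_mem hs.hsS) hg)
    rw [show g = s * (s⁻¹ * g) by group]
    exact mul_mem (mem_sup_right (mem_zpowers s)) (mem_sup_left hm)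

theorem card_inter_bound {H K L : Subgroup G} {n : ℕ} (hn : K ≤ normalizer (H : Set G))
    (hle : H ⊔ K ≤ L) (hi : Nat.card (H ⊓ K : Subgroup G) ≤ n) :
    Nat.card H * Nat.card K ≤ Nat.card L * n := by
  rw [← card_sup_inf hn]
  exact Nat.mul_le_mul (card_le_of_le hle) hi

theorem norm_of_index_two {H K : Subgroup G} (hle : H ≤ K) (hc : Nat.card K = 2 * Nat.card H) :
    K ≤ normalizer (H : Set G) := by
  intro x hx
  refine le_norm_of_conj fun q hq => ?_
  by_cases hxH : x ∈ H
  · exact mul_mem (mul_mem hxH hq) (inv_mem hxH)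
  · have h1 : x * q ∉ H := fun hh => hxH ((mul_mem_cancel_right hq).1 hh)
    exact mul_mem_of_card_two hle hc (mul_mem hx (hle hq)) (inv_mem hx) h1
      (fun hh => hxH (inv_mem_iff.1 hh))

/-- Some element of `N_S(R) ∖ R` fixes `u`. -/
theorem Low.exists_fixing (h : Setup G) (L : Low C a y u) (hs : Step C s) : Commute s u := by
  by_contra hsu
  haveI : Fact (Nat.Prime 2) := ⟨Nat.prime_two⟩
  set N : Subgroup G := C.R ⊔ zpowers s with hN
  have hNc : Nat.card N = 32 := by rw [hs.card_ext, L.cardR]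
  have hNS : N < C.S := lt_of_le_of_ne hs.ext_le (fun e => by
    have := h.hS C.S; rw [← e, hNc] at this; norm_num at this)
  obtain ⟨g, hgS, hgN, hgnN, -⟩ := exists_norm_step C.S.2 hNS
  have hZu : ∀ r ∈ C.R, Commute r u := fun r hr =>
    mem_cent.1 (C.R_le_centZ1 hr) u (L.u_Z1 h)
  have hmove : ∀ x ∈ N, x ∉ C.R → ¬ Commute x u := by
    intro x hx hxR hc
    refine hsu ?_
    have hm : x * s ∈ C.R := mul_mem_of_card_two le_sup_left hs.card_ext hx
      (mem_sup_right (mem_zpowers s)) hxR hs.hsR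
    have := (hc.inv_left).mul_left (hZu _ hm)
    rwa [inv_mul_cancel_left] at this
  have hR'ne : ¬ cj g C.R ≤ C.R := fun hle => hgnN (L.mem_ext h hs hgS
    ((map_mono (C.V_le.trans C.hWR)).trans hle))
  obtain ⟨x, hx, hxR⟩ := SetLike.not_le_iff_exists.1 hR'ne
  have hR'N : cj g C.R ≤ N := cj_le_of_norm le_sup_left hgN
  set w := g * u * g⁻¹ with hw
  have hww : w * w = 1 := by
    rw [hw, show g * u * g⁻¹ * (g * u * g⁻¹) = g * (u * u) * g⁻¹ by group, L.hu.1.2.2]; group
  have hwc : ∀ q ∈ cj g C.R, Commute q w := by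
    rintro _ ⟨q, hq, rfl⟩
    exact conj_commute (hZu q hq)
  have hwN : w ∈ N := hR'N (cj_mem (C.hWR (C.V_le L.hu.1)))
  have hw1 : w ≠ 1 := fun e => L.hu1 (conj_eq_one_iff.1 e)
  have hwz : w ≠ C.z := fun e => L.uz_ne h (mul_left_cancel (mul_right_cancel
    (e.trans (by rw [(C.hzc g hgS).eq, mul_inv_cancel_right] : C.z = g * C.z * g⁻¹))))
  by_cases hwR : w ∈ C.R
  · obtain ⟨sV, sV2, -, -⟩ := hs.swap2 (hR'N hx) hxR
    have hfix : x * w * x⁻¹ = w := by rw [(hwc x hx).eq, mul_inv_cancel_right]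
    have hwZ : w ∈ C.Z1 := by
      rw [← hs.V_inf_cjV h L.act]
      rcases L.act.elem_in_R h L.hWV (E := zpowers w) (zpowers_le.2 hwR) (fun q hq => by
        obtain ⟨m, rfl⟩ := mem_zpowers_iff.1 hq
        rw [← zpow_add, ← two_mul, zpow_mul, zpow_two, hww, one_zpow]) with e | e
      · have hv := e (mem_zpowers w)
        exact ⟨hv, sV ▸ (hfix ▸ cj_mem hv)⟩
      · have hv : w ∈ cj s C.V := by
          rcases L.act.elem_in_R h L.hWV hs.cjV_le (cj_elem C.elem_V s) with h2 | h2
          · exact absurd (eq_of_le_of_card_ge h2 (card_cj s C.V).ge) (hs.cj_ne h)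
          · rw [eq_of_le_of_card_ge h2 (by rw [L.act.card_Z1_a h, card_cj])]
            exact e (mem_zpowers w)
        exact ⟨sV2 ▸ (hfix ▸ cj_mem hv), hv⟩
    refine hmove x (hR'N hx) hxR ?_
    rcases L.act.Z1_four h L.hUc L.hu L.hu1 w hwZ with e | e | e | e
    · exact absurd e hw1
    · exact e ▸ hwc x hx
    · exact absurd e hwz
    · have := (e ▸ hwc x hx : Commute x (u * C.z)).mul_right (C.hzc x (hs.ext_le (hR'N hx)))
      rwa [mul_assoc, C.z_sq, mul_one] at this
  · obtain ⟨sV, -, -, -⟩ := hs.swap2 hwN hwR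
    set D : Subgroup G := C.R ⊓ cj g C.R with hD
    have hD8 : 8 ≤ Nat.card D := by
      have e := card_sup_inf (show cj g C.R ≤ normalizer (C.R : Set G) from
        hR'N.trans (sup_le le_normalizer (zpowers_le.2 hs.hsN)))
      rw [card_cj, L.cardR, ← hD] at e
      have hle : Nat.card (C.R ⊔ cj g C.R : Subgroup G) ≤ 32 :=
        hNc ▸ card_le_of_le (sup_le le_sup_left hR'N)
      nlinarith
    have hcap : C.V ⊓ D ≤ zpowers C.z := by
      intro e he
      have hfix : w * e * w⁻¹ = e := by rw [← (hwc e he.2.2).eq, mul_inv_cancel_right]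
      have heZ : e ∈ C.Z1 := by
        rw [← hs.V_inf_cjV h L.act]
        exact ⟨he.1, sV ▸ (hfix ▸ cj_mem he.1)⟩
      rcases L.act.Z1_four h L.hUc L.hu L.hu1 e heZ with e1 | e1 | e1 | e1
      · rw [e1]; exact one_mem _
      · exact absurd (e1 ▸ hwc e he.2.2 : Commute u w).symm (hmove w hwN hwR)
      · rw [e1]; exact mem_zpowers _
      · refine absurd ?_ (hmove w hwN hwR)
        have := (e1 ▸ hwc e he.2.2 : Commute (u * C.z) w).symm.mul_right
          (C.hzc w (hs.ext_le hwN))
        rwa [mul_assoc, C.z_sq, mul_one] at this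
    have hb := card_inter_bound (H := C.V) (K := D) (L := C.R) (n := 2)
      ((inf_le_left : D ≤ C.R).trans (C.hRM.trans C.hMV))
      (sup_le (C.V_le.trans C.hWR) inf_le_left)
      ((card_le_of_le hcap).trans (by rw [Nat.card_zpowers, C.hz]))
    rw [L.cardV, L.cardR] at hb
    omega

theorem Low.exists_v (h : Setup G) (L : Low C a y u) (hs : Step C s) :
    ∃ b, Low C b y u ∧ b ∈ cj s C.V := by
  rcases L.act.elem_in_R h L.hWV hs.cjV_le (cj_elem C.elem_V s) with h2 | h2
  · exact absurd (eq_of_le_of_card_ge h2 (card_cj s C.V).ge) (hs.cj_ne h)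
  · refine ⟨a, L, ?_⟩
    rw [eq_of_le_of_card_ge h2 (by rw [L.act.card_Z1_a h, card_cj])]
    exact mem_sup_right (mem_zpowers a)

/-- `C_R` of an involution outside `R` that fixes `Z(R)`. -/
theorem Low.cent_outside (h : Setup G) (L : Low C a y u) (hs : Step C s) (ha : a ∈ cj s C.V)
    {w : G} (hwN : w ∈ C.R ⊔ zpowers s) (hwR : w ∉ C.R) (hww : w * w = 1)
    (hwZ : ∀ x ∈ C.Z1, Commute w x) {e : G} (he : e ∈ C.R) (hc : Commute w e) : e ∈ C.Z1 := by
  obtain ⟨sV, sV2, -, -⟩ := hs.swap2 hwN hwR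
  have hwi : w⁻¹ = w := inv_eq_of_mul_eq_one_left hww
  have hfix : ∀ q, Commute w q → w * q * w = q := fun q hq => by
    rw [hq.eq, mul_assoc, hww, mul_one]
  have hin : ∀ q ∈ cj s C.V, w * q * w ∈ C.V := fun q hq => by
    rw [← sV2]; have := cj_mem (g := w) hq; rwa [hwi] at this
  by_cases heV : e ∈ C.V
  · rw [← hs.V_inf_cjV h L.act]
    refine ⟨heV, sV ▸ ?_⟩
    have := cj_mem (g := w) heV
    rwa [hwi, hfix e hc] at this
  exfalso
  have hqV : e * a ∈ C.V := L.hWV ▸ L.act.mul_a_mem he (L.hWV ▸ heV)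
  by_cases hqZ : e * a ∈ C.Z1
  · refine heV ?_
    rw [← hfix e hc]
    refine hin e ?_
    rw [show e = e * a * a by rw [mul_assoc, L.act.haa, mul_one]]
    exact mul_mem (hs.Z1_le_cjV h L.act hqZ) ha
  set v' := w * a * w with hv'
  have hv'V : v' ∈ C.V := hin a ha
  have hv'Z : v' ∉ C.Z1 := by
    intro hh
    have e1 := hfix v' (hwZ v' hh)
    rw [show w * v' * w = (w * w) * a * (w * w) by rw [hv']; group, hww, one_mul, mul_one] at e1
    exact L.act.haW (C.V_le (e1.symm ▸ hv'V))
  set c := e * a * v' with hc'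
  have hcZ : c ∈ C.Z1 :=
    mul_mem_of_card_two (L.act.Z1_le h) (L.act.card_V_Z1 h) hqV hv'V hqZ hv'Z
  have he' : e = c * v' * a := by
    rw [hc', mul_assoc _ v' v', hv'V.2.2, mul_one, mul_assoc, L.act.haa, mul_one]
  clear_value c
  have hwv : w * v' * w = a := by
    rw [show w * v' * w = (w * w) * a * (w * w) by rw [hv']; group, hww, one_mul, mul_one]
  have e2 : w * e * w = c * a * v' := by
    calc w * e * w = (w * c) * (w * w) * v' * (w * w) * a * w := by rw [he', hww]; group
      _ = (w * c * w) * (w * v' * w) * (w * a * w) := by group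
      _ = c * a * v' := by rw [hfix c (hwZ c hcZ), hwv, ← hv']
  rw [hfix e hc, he'] at e2
  exact hv'Z ((L.act.mem_Z1 h).2 ⟨hv'V, mul_left_cancel (a := c) (by simpa [mul_assoc] using e2)⟩)

/-- `C_S(u)` of order `32` is impossible. -/
theorem Low.small_cent (h : Setup G) (L : Low C a y u) (hs : Step C s) (ha : a ∈ cj s C.V)
    (hT : (C.S : Subgroup G) ⊓ centralizer ({u} : Set G) = C.R ⊔ zpowers s) : False := by
  haveI : Fact (Nat.Prime 2) := ⟨Nat.prime_two⟩
  set T : Subgroup G := C.R ⊔ zpowers s with hTdef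
  have hTc : Nat.card T = 32 := by rw [hs.card_ext, L.cardR]
  have hTS' : T ≤ C.S := hs.ext_le
  have hTS : T < C.S := lt_of_le_of_ne hTS' (fun e => by
    have := h.hS C.S; rw [← e, hTc] at this; norm_num at this)
  have hTu : ∀ t ∈ T, Commute t u := fun t ht => mem_cent1.1 (hT.ge ht).2
  have hin : ∀ x ∈ C.S, Commute x u → x ∈ T := fun x hx hc => hT.le ⟨hx, mem_cent1.2 hc⟩
  have hVT : C.V ≤ T := (C.V_le.trans C.hWR).trans le_sup_left
  have hozT : oz T = C.Z1 := by
    ext x
    constructor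
    · rintro ⟨hxT, hxc, hx2⟩
      have hxW : x ∈ C.W := (C.centV h).le (mem_cent.2 fun v hv => hxc v (hVT hv))
      exact ⟨C.hWR hxW, fun r hr => hxc r (mem_sup_left hr), hx2⟩
    · intro hx
      exact ⟨mem_sup_left hx.1, fun r hr => (L.commute_Z1 h (hTS' hr) (hTu r hr) hx).symm, hx.2.2⟩
  obtain ⟨x, hxS, hxT, hxnT, hx2⟩ := exists_norm_step C.S.2 hTS
  have hxu : x * u * x⁻¹ = u * C.z :=
    L.moved h hxS (hozT ▸ oz_norm hxT) fun hc => hxnT (hin x hxS hc)
  set N : Subgroup G := T ⊔ zpowers x with hN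
  have hNc : Nat.card N = 64 := by rw [card_sup_zpowers hxT hxnT hx2, hTc]
  have hNS' : N ≤ C.S := sup_le hTS' (zpowers_le.2 hxS)
  have hNS : N < C.S := lt_of_le_of_ne hNS' (fun e => by
    have := h.hS C.S; rw [← e, hNc] at this; norm_num at this)
  have hNT : N ≤ normalizer (T : Set G) := sup_le le_normalizer (zpowers_le.2 hxT)
  obtain ⟨g, hgS, hgN, hgnN, -⟩ := exists_norm_step C.S.2 hNS
  have hgT : g ∉ normalizer (T : Set G) := by
    intro hg
    by_cases hc : Commute g u
    · exact hgnN (mem_sup_left (hin g hgS hc))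
    have hgu := L.moved h hgS (hozT ▸ oz_norm hg) hc
    refine hgnN ?_
    have hm : x⁻¹ * g ∈ T := hin _ (mul_mem (inv_mem hxS) hgS) (by
      show x⁻¹ * g * u = u * (x⁻¹ * g)
      calc x⁻¹ * g * u = x⁻¹ * (g * u * g⁻¹) * g := by group
        _ = x⁻¹ * (x * u * x⁻¹) * g := by rw [hgu, hxu]
        _ = u * (x⁻¹ * g) := by group)
    rw [show g = x * (x⁻¹ * g) by group]
    exact mul_mem (mem_sup_right (mem_zpowers x)) (mem_sup_left hm)
  set T2 : Subgroup G := cj g T with hT2
  have hT2N : T2 ≤ N := cj_le_of_norm le_sup_left hgN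
  have hT2ne : ¬ T2 ≤ T := fun hle =>
    hgT (norm_of_cj_eq (eq_of_le_of_card_ge hle (card_cj g T).ge))
  obtain ⟨x', hx', hx'T⟩ := SetLike.not_le_iff_exists.1 hT2ne
  set w := g * u * g⁻¹ with hw
  have hww : w * w = 1 := by
    rw [hw, show g * u * g⁻¹ * (g * u * g⁻¹) = g * (u * u) * g⁻¹ by group, L.hu.1.2.2]; group
  have hwc : ∀ q ∈ T2, Commute q w := by
    rintro _ ⟨q, hq, rfl⟩
    exact conj_commute (hTu q hq)
  have hwN : w ∈ N := hT2N (cj_mem (hVT L.hu.1))
  have hw1 : w ≠ 1 := fun e => L.hu1 (conj_eq_one_iff.1 e)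
  have hwz : w ≠ C.z := fun e => L.uz_ne h (mul_left_cancel (mul_right_cancel
    (e.trans (by rw [(C.hzc g hgS).eq, mul_inv_cancel_right] : C.z = g * C.z * g⁻¹))))
  have hmove : ∀ q ∈ N, q ∉ T → ¬ Commute q u := fun q hq hqT hc => hqT (hin q (hNS' hq) hc)
  set D : Subgroup G := T ⊓ T2 with hD
  have hD16 : 16 ≤ Nat.card D := by
    have e := card_sup_inf (show T2 ≤ normalizer (T : Set G) from hT2N.trans hNT)
    rw [hT2, card_cj, hTc, ← hT2, ← hD] at e
    have hle : Nat.card (T ⊔ T2 : Subgroup G) ≤ 64 :=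
      hNc ▸ card_le_of_le (sup_le le_sup_left hT2N)
    nlinarith
  have hRn : T ≤ normalizer (C.R : Set G) := sup_le le_normalizer (zpowers_le.2 hs.hsN)
  by_cases hwT : w ∈ T
  · have hwZ : w ∉ C.Z1 := by
      intro hh
      refine hmove x' (hT2N hx') hx'T ?_
      rcases L.act.Z1_four h L.hUc L.hu L.hu1 w hh with e | e | e | e
      · exact absurd e hw1
      · exact e ▸ hwc x' hx'
      · exact absurd e hwz
      · have := (e ▸ hwc x' hx' : Commute x' (u * C.z)).mul_right (C.hzc x' (hNS' (hT2N hx')))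
        rwa [mul_assoc, C.z_sq, mul_one] at this
    set E : Subgroup G := C.R ⊓ D with hE
    have hE8 : 8 ≤ Nat.card E := by
      have e := card_sup_inf ((inf_le_left : D ≤ T).trans hRn)
      rw [L.cardR, ← hE] at e
      have hle : Nat.card (C.R ⊔ D : Subgroup G) ≤ 32 :=
        hTc ▸ card_le_of_le (sup_le le_sup_left inf_le_left)
      nlinarith
    by_cases hwR : w ∈ C.R
    · -- then `E` is `V` or `V^s`, and is normal in `T`
      have hEle : E ≤ C.V ∨ E ≤ cj s C.V := by
        have hV2 := L.act.cjV_eq h hs ha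
        have hc : ∀ e ∈ E, Commute e w := fun e he => hwc e he.2.2
        by_cases hwV : w ∈ C.V
        · left
          intro e he
          by_contra heV
          have hqV : e * a ∈ C.V := L.hWV ▸ L.act.mul_a_mem he.1 (L.hWV ▸ heV)
          refine hwZ ((L.act.mem_Z1 h).2 ⟨hwV, ?_⟩)
          have := ((hc e he).inv_left.mul_left (C.elem_V.comm hqV hwV)).symm
          rwa [inv_mul_cancel_left] at this
        · right
          have hwq : w * a ∈ C.V := L.hWV ▸ L.act.mul_a_mem hwR (L.hWV ▸ hwV)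
          have hwqZ : w * a ∈ C.Z1 := by
            refine (L.act.mem_Z1 h).2 ⟨hwq, ?_⟩
            show w * a * a = a * (w * a)
            have h1 : w * a * (w * a) = 1 := hwq.2.2
            calc w * a * a = w := by rw [mul_assoc, L.act.haa, mul_one]
              _ = w * (w * a * (w * a)) := by rw [h1, mul_one]
              _ = w * w * a * (w * a) := by group
              _ = a * (w * a) := by rw [hww, one_mul]
          intro e he
          rw [hV2]
          have hae : Commute e a := by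
            have hca : Commute e (w * a) :=
              (mem_cent.1 (C.R_le_centZ1 he.1) _ hwqZ)
            have := (hc e he).inv_right.mul_right hca
            rwa [inv_mul_cancel_left] at this
          by_cases heV : e ∈ C.V
          · exact mem_sup_left ((L.act.mem_Z1 h).2 ⟨heV, hae⟩)
          · have hqV : e * a ∈ C.V := L.hWV ▸ L.act.mul_a_mem he.1 (L.hWV ▸ heV)
            rw [show e = e * a * a by rw [mul_assoc, L.act.haa, mul_one]]
            exact mul_mem (mem_sup_left ((L.act.mem_Z1 h).2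
              ⟨hqV, hae.mul_left (Commute.refl a)⟩)) (mem_sup_right (mem_zpowers a))
      have hDT : Nat.card T = 2 * Nat.card D := by
        refine le_antisymm (by omega) ?_
        obtain ⟨k, hk⟩ := card_dvd_of_le (inf_le_left : D ≤ T)
        have hk2 : 2 ≤ k := by
          by_contra h2
          have hDeq : D = T := eq_of_le_of_card_ge inf_le_left (by
            rw [hk]; exact (Nat.mul_le_mul_left _ (by omega : k ≤ 1)).trans_eq (mul_one _))
          exact hT2ne (eq_of_le_of_card_ge (hDeq ▸ inf_le_right : T ≤ T2) (card_cj g T).le).ge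
        rw [hk, mul_comm]
        exact Nat.mul_le_mul_left _ hk2
      have hsE : s ∈ normalizer (E : Set G) := by
        refine le_norm_of_conj fun q hq => ⟨conj_mem_of_norm hs.hsN hq.1, ?_⟩
        exact conj_mem_of_norm (norm_of_index_two inf_le_left hDT (mem_sup_right (mem_zpowers s))) hq.2
      rcases hEle with e | e
      · have hEV := eq_of_le_of_card_ge e (by rw [L.cardV]; exact hE8)
        exact hs.not_normV h (hEV ▸ hsE)
      · have hEV := eq_of_le_of_card_ge e (by rw [card_cj, L.cardV]; exact hE8)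
        refine hs.cj_ne h ?_
        have e2 := cj_eq_of_norm (hEV ▸ hsE : s ∈ normalizer ((cj s C.V : Subgroup G) : Set G))
        rw [hs.cj_cjV] at e2
        exact e2.symm
    · have hEZ : E ≤ C.Z1 := fun e he => L.cent_outside h hs ha hwT hwR hww
        (fun q hq => L.commute_Z1 h (hTS' hwT) (hTu w hwT) hq) he.1 (hwc e he.2.2).symm
      have := card_le_of_le hEZ
      rw [L.cardZ1 h] at this
      omega
  · have hnV : cj w C.V ≠ C.V := fun e => hwT (mem_sup_left
      (C.mem_R_of h ((C.normV h).le (norm_of_cj_eq e)) (hNS' hwN)))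
    have hwZn : w ∈ normalizer (C.Z1 : Set G) := hozT ▸ oz_norm (hNT hwN)
    have hcap : C.V ⊓ D ≤ zpowers C.z := by
      intro e he
      have hfix : w * e * w⁻¹ = e := by rw [← (hwc e he.2.2).eq, mul_inv_cancel_right]
      have heZ : e ∈ C.Z1 := by
        by_contra heZ
        refine hnV (eq_of_le_of_card_ge ?_ (card_cj w C.V).le).symm
        refine (sup_zpowers_eq (L.act.Z1_le h) (L.act.card_V_Z1 h) he.1 heZ).ge.trans ?_
        refine sup_le (fun q hq => mem_cj.2 (L.act.Z1_le h ?_))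
          (zpowers_le.2 (hfix ▸ cj_mem he.1))
        have := conj_mem_of_norm (inv_mem hwZn) hq
        rwa [inv_inv] at this
      rcases L.act.Z1_four h L.hUc L.hu L.hu1 e heZ with e1 | e1 | e1 | e1
      · rw [e1]; exact one_mem _
      · exact absurd (e1 ▸ hwc e he.2.2 : Commute u w).symm (hmove w hwN hwT)
      · rw [e1]; exact mem_zpowers _
      · refine absurd ?_ (hmove w hwN hwT)
        have := (e1 ▸ hwc e he.2.2 : Commute (u * C.z) w).symm.mul_right (C.hzc w (hNS' hwN))
        rwa [mul_assoc, C.z_sq, mul_one] at this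
    set E : Subgroup G := C.R ⊓ D with hE
    have hE8 : 8 ≤ Nat.card E := by
      have e := card_sup_inf ((inf_le_left : D ≤ T).trans hRn)
      rw [L.cardR, ← hE] at e
      have hle : Nat.card (C.R ⊔ D : Subgroup G) ≤ 32 :=
        hTc ▸ card_le_of_le (sup_le le_sup_left inf_le_left)
      nlinarith
    have hb := card_inter_bound (H := C.V) (K := E) (L := C.R) (n := 2)
      ((inf_le_left : E ≤ C.R).trans (C.hRM.trans C.hMV))
      (sup_le (C.V_le.trans C.hWR) inf_le_left)
      ((card_le_of_le ((inf_le_inf_left C.V inf_le_right).trans hcap)).trans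
        (by rw [Nat.card_zpowers, C.hz]))
    rw [L.cardV, L.cardR] at hb
    omega

end Cfsg.Agent.Len8
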